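/-
Stabilisers of non-degenerate decompositions in four-dimensional unitary groups: the two planes.
-/
import Cfsg.Agent.Lib.Geo.UnitDecomp.Matrix

set_option autoImplicit false
set_option linter.unusedSectionVars false
set_option linter.style.haveILetI false
set_option maxHeartbeats 800000

namespace CfsgLib.Geo.SUFour

open CfsgLib.Classical CfsgLib.Classical.Herm CfsgLib.Geo.UnitMax CfsgLib.Geo.UnitDecomp

variable {F : Type*} [Field F] [Fintype F] {n q t k : ℕ}

/-- The stabiliser of a non-degenerate decomposition is maximal in the special unitary group. -/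
theorem decomp_maximal_of_top [DecidableEq F] (hF : Fintype.card F = q ^ 2) (hn : 4 ≤ n) {D : Fin t → Submodule F (Fin n → F)}
    (hD : Cfsg.Geo.IsNondegenerateMDecomposition (Cfsg.hermForm n F q) k D)
    (htop : ∀ (e : Module.Basis (Fin t × Fin k) F (Fin n → F)), IsFrame (hermStd n hF) e →
      ∀ (M : Subgroup (HU (hermStd n hF))), (∀ g ∈ HSU (hermStd n hF), Blk e Prod.fst g → g ∈ M) →
        ∀ g ∈ M, ¬ Blk e Prod.fst g → HSU (hermStd n hF) ≤ M) :
    Cfsg.Geo.IsMaximalIn (Cfsg.GU n F q ⊓ Cfsg.Geo.specialLinear (Fin n) F)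
      (Cfsg.Geo.decompositionStabilizer D ⊓ (Cfsg.GU n F q ⊓ Cfsg.Geo.specialLinear (Fin n) F)) := by
  classical
  have h := hermStd_isHerm (n := n) hF
  have ht := hD.decomp.two_le
  have hk := hD.decomp.pos
  obtain ⟨e, he, hmemD⟩ := exists_decomp_frame hF hD
  have htk : t * k = n := by
    have := Module.finrank_eq_card_basis e
    rw [Module.finrank_fin_fun, Fintype.card_prod, Fintype.card_fin, Fintype.card_fin] at this
    exact this.symm
  let E := guEquiv n hF
  have hS : ∀ g : Cfsg.GU n F q, (g : GL (Fin n) F) ∈ Cfsg.Geo.specialLinear (Fin n) F ↔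
      E g ∈ HSU (hermStd n hF) := by
    intro g
    rw [MonoidHom.mem_ker, Units.ext_iff]
    show Matrix.GeneralLinearGroup.det (g : GL (Fin n) F) = 1 ↔ _
    rw [Units.ext_iff, guEquiv_det]
    rfl
  have hblk : ∀ g : Cfsg.GU n F q, (g : GL (Fin n) F) ∈ Cfsg.Geo.decompositionStabilizer D ↔
      Blk e Prod.fst (E g) := by
    intro g
    have hmap : ∀ v, Matrix.toLin' ((g : GL (Fin n) F) : Matrix (Fin n) (Fin n) F) v =
        (E g : (Fin n → F) ≃ₗ[F] (Fin n → F)) v := fun v => by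
      rw [Matrix.toLin'_apply]; rfl
    have hin : ∀ x, e x ∈ D x.1 := fun x => (hmemD _ _).2 fun y hy => by
      rw [repr_single] at hy
      by_cases hxy : x = y
      · rw [hxy]
      · exact absurd (if_neg hxy) hy
    constructor
    · rintro ⟨π, hπ⟩ x x' hxx y y' hy hy'
      have h1 : ∀ x, (E g : (Fin n → F) ≃ₗ[F] (Fin n → F)) (e x) ∈ D (π x.1) := fun x => by
        rw [← hmap, ← hπ]
        exact Submodule.mem_map_of_mem (hin x)
      rw [(hmemD _ _).1 (h1 x) y hy, (hmemD _ _).1 (h1 x') y' hy', hxx]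
    · intro hb
      have hne : ∀ i : Fin t, ∃ y, e.repr ((E g : (Fin n → F) ≃ₗ[F] (Fin n → F)) (e (i, ⟨0, hk⟩))) y ≠ 0 := fun i => by
        obtain ⟨y, hy⟩ := supp_nonempty (e := e) (v := (E g : (Fin n → F) ≃ₗ[F] (Fin n → F)) (e (i, ⟨0, hk⟩)))
          fun h0 => e.ne_zero _ ((E g : (Fin n → F) ≃ₗ[F] (Fin n → F)).map_eq_zero_iff.1 h0)
        exact ⟨y, mem_supp.1 hy⟩
      choose y₀ hy₀ using hne
      let π₀ : Fin t → Fin t := fun i => (y₀ i).1
      have hle : ∀ i, (D i).map (Matrix.toLin' ((g : GL (Fin n) F) : Matrix (Fin n) (Fin n) F)) = D (π₀ i) := by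
        intro i
        refine Submodule.eq_of_le_of_finrank_eq ?_ ?_
        · rintro _ ⟨v, hv, rfl⟩
          rw [hmap, ← e.sum_repr v, map_sum]
          refine Submodule.sum_mem _ fun x _ => ?_
          rw [map_smul]
          by_cases hx : e.repr v x = 0
          · rw [hx, zero_smul]; exact Submodule.zero_mem _
          · refine Submodule.smul_mem _ _ ((hmemD _ _).2 fun y hy => ?_)
            exact hb x (i, ⟨0, hk⟩) ((hmemD _ _).1 hv x hx) y (y₀ i) hy (hy₀ i)
        · rw [hD.decomp.finrank_eq, show Matrix.toLin' ((g : GL (Fin n) F) : Matrix (Fin n) (Fin n) F) =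
            ((E g : (Fin n → F) ≃ₗ[F] (Fin n → F)) : (Fin n → F) →ₗ[F] (Fin n → F)) from LinearMap.ext hmap,
            LinearEquiv.finrank_map_eq, hD.decomp.finrank_eq]
      have hinj : Function.Injective π₀ := by
        intro i i' hii
        have h1 : D i = D i' := Submodule.map_injective_of_injective
          (f := Matrix.toLin' ((g : GL (Fin n) F) : Matrix (Fin n) (Fin n) F))
          (fun a b hab => (E g : (Fin n → F) ≃ₗ[F] (Fin n → F)).injective (by rw [← hmap, ← hmap, hab]))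
          (by rw [hle, hle, hii])
        exact (hmemD _ _).1 (h1 ▸ hin (i, ⟨0, hk⟩)) (i, ⟨0, hk⟩) (by rw [repr_single, if_pos rfl]; exact one_ne_zero)
      exact ⟨Equiv.ofBijective π₀ (Finite.injective_iff_bijective.1 hinj), hle⟩
  refine ⟨lt_of_le_of_ne inf_le_right fun heq => ?_, fun M hM hMS => ?_⟩
  · obtain ⟨x, hx, hxb⟩ := exists_not_blk h he ht hk (by omega)
    obtain ⟨g, rfl⟩ := E.surjective x
    exact hxb ((hblk g).1 (heq.ge (show (g : GL (Fin n) F) ∈ _ from ⟨g.2, (hS g).2 hx⟩)).1)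
  by_cases hall : ∀ g : Cfsg.GU n F q, (g : GL (Fin n) F) ∈ M → Blk e Prod.fst (E g)
  · refine Or.inl (le_antisymm (fun x hx => ?_) hM)
    exact ⟨(hblk ⟨x, (hMS hx).1⟩).2 (hall _ hx), hMS hx⟩
  push Not at hall
  obtain ⟨g, hg, hnb⟩ := hall
  have hmem : ∀ g : Cfsg.GU n F q,
      E g ∈ (M.subgroupOf (Cfsg.GU n F q)).map E.toMonoidHom ↔ (g : GL (Fin n) F) ∈ M := fun g => by
    rw [Subgroup.mem_map_equiv, MulEquiv.symm_apply_apply, Subgroup.mem_subgroupOf]
  have htop := htop e he ((M.subgroupOf (Cfsg.GU n F q)).map E.toMonoidHom)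
    (fun x hx hb => by
      obtain ⟨y, rfl⟩ := E.surjective x
      exact (hmem y).2 (hM ⟨(hblk y).2 hb, y.2, (hS y).2 hx⟩)) (E g) ((hmem g).2 hg) hnb
  refine Or.inr (le_antisymm hMS fun x hx => ?_)
  exact (hmem ⟨x, hx.1⟩).1 (htop ((hS ⟨x, hx.1⟩).1 hx.2))


/-- A value of the form forces the size of the fixed field. -/
theorem fixed_card (hF : Fintype.card F = q ^ 2) : Nat.card (fixedSub (powHom hF)) = q := by
  classical
  have hc := card_field (powHom_isInvol hF)
  rw [hF] at hc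
  exact (Nat.pow_left_injective (by norm_num) hc).symm

/-- The stabiliser of two orthogonal non-degenerate planes is maximal. -/
theorem isMaximalIn_planes {q : ℕ} (hF : Fintype.card F = q ^ 2) (hq : 3 ≤ q)
    {D : Fin 2 → Submodule F (Fin 4 → F)}
    (hD : Cfsg.Geo.IsNondegenerateMDecomposition (Cfsg.hermForm 4 F q) 2 D) :
    Cfsg.Geo.IsMaximalIn (Cfsg.GU 4 F q ⊓ Cfsg.Geo.specialLinear (Fin 4) F)
      (Cfsg.Geo.decompositionStabilizer D ⊓ (Cfsg.GU 4 F q ⊓ Cfsg.Geo.specialLinear (Fin 4) F)) := by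
  classical
  refine decomp_maximal_of_top hF le_rfl hD fun e he M hH g hg hnb => ?_
  have h := hermStd_isHerm (n := 4) hF
  have hq' : 3 ≤ Nat.card (fixedSub (powHom hF)) := (fixed_card hF).symm ▸ hq
  refine mem_one_of_all h (by simp) (fun h3 => by simp at h3) ?_
  refine ctr_all h he hH (by simp) (block_htwo h he hH (by simp) (fun x => ?_) exists_block_perm hg hnb) hq'
  obtain ⟨j, hj⟩ := exists_ne x.2
  exact ⟨(x.1, j), fun e' => hj (congrArg Prod.snd e'), rfl⟩

end CfsgLib.Geo.SUFour
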