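import Cfsg.Agent.Lib.Geo.SLFour.KleinFrame
import Cfsg.Agent.Lib.Geo.PauliUnitary
import Cfsg.Agent.Lib.Classical.Unitary.MatrixStructure

/-!
# The Klein image of `SU₄(p)` is rational

For `p ≡ 3 mod 4` the Klein correspondence sends `SU₄(p)` into the orthogonal group of the sum of six squares
over the prime field.
-/

set_option autoImplicit false
set_option maxHeartbeats 1600000

namespace CfsgLib.Geo.SUFour

open Matrix Cfsg.Geo
open CfsgLib.Classical CfsgLib.Classical.Quad CfsgLib.Classical.SmallOrtho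
open CfsgLib.Geo.Frame (fQ ee IsMon MonBy)
open CfsgLib.Geo.SLFour.Klein (E6 kLin kap uS gS pu pg kap_smul)
open scoped commutatorElement

/-- `SU` as a subgroup of `GL`. -/
abbrev SUg (n : ℕ) (F : Type*) [Field F] (q : ℕ) : Subgroup (GL (Fin n) F) :=
  Cfsg.GU n F q ⊓ specialLinear (Fin n) F

/-- `SU₄` is perfect. -/
theorem commutator_SUg {F : Type*} [Field F] [Fintype F] {q : ℕ} (hF : Fintype.card F = q ^ 2) :
    ⁅SUg 4 F q, SUg 4 F q⁆ = SUg 4 F q := by
  have h := Herm.hermStd_isHerm (n := 4) hF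
  let φ : Herm.HSU (Herm.hermStd 4 hF) →* GL (Fin 4) F :=
    (Cfsg.GU 4 F q).subtype.comp ((Herm.guEquiv 4 hF).symm.toMonoidHom.comp (Herm.HSU (Herm.hermStd 4 hF)).subtype)
  have hrange : φ.range = SUg 4 F q := by
    apply le_antisymm
    · rintro _ ⟨x, rfl⟩
      refine ⟨((Herm.guEquiv 4 hF).symm (x : Herm.HU (Herm.hermStd 4 hF))).2, ?_⟩
      refine MonoidHom.mem_ker.2 (Units.ext ?_)
      rw [Matrix.GeneralLinearGroup.val_det_apply]
      show (((Herm.guEquiv 4 hF).symm (x : Herm.HU (Herm.hermStd 4 hF)) : GL (Fin 4) F) :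
        Matrix (Fin 4) (Fin 4) F).det = 1
      rw [← Herm.guEquiv_det hF, MulEquiv.apply_symm_apply]
      exact congrArg Units.val (MonoidHom.mem_ker.1 x.2)
    · intro g hg
      refine ⟨⟨Herm.guEquiv 4 hF ⟨g, hg.1⟩, MonoidHom.mem_ker.2 (Units.ext ?_)⟩, ?_⟩
      · rw [Units.val_one, Herm.guEquiv_det hF]
        exact (Matrix.GeneralLinearGroup.val_det_apply g).symm.trans (congrArg Units.val (MonoidHom.mem_ker.1 hg.2))
      · show (((Herm.guEquiv 4 hF).symm (Herm.guEquiv 4 hF ⟨g, hg.1⟩) : Cfsg.GU 4 F q) : GL (Fin 4) F) = g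
        rw [MulEquiv.symm_apply_apply]
  have hc := h.HSU_le_commutator (by simp) (fun e => by simp at e)
  have := congrArg (Subgroup.map φ) hc
  rw [commutator_def, Subgroup.map_commutator, ← MonoidHom.range_eq_map, hrange] at this
  exact this

variable {F : Type*} [Field F] {i : F}

local notation "M4" => Matrix (Fin 4) (Fin 4) F
local notation "V6" => (Fin 6 → F)

/-- The invariant hermitian form on alternating matrices. -/
theorem trace_E6 {σ : F ≃+* F} (hi : i * i = -1) (hσi : σ i = -i) (x y : V6) :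
    Matrix.trace (E6 i x * ((E6 i y).map σ)ᵀ) = 4 * (x ⬝ᵥ fun l => σ (y l)) := by
  show Matrix.trace (altMat (x 3 + i * x 5) (i * x 0 + x 2) (x 1 + i * x 4) (x 1 - i * x 4) (i * x 0 - x 2)
    (x 3 - i * x 5) * ((altMat (y 3 + i * y 5) (i * y 0 + y 2) (y 1 + i * y 4) (y 1 - i * y 4) (i * y 0 - y 2)
    (y 3 - i * y 5)).map σ)ᵀ) = _
  simp only [Matrix.trace, Matrix.diag_apply, Matrix.mul_apply, Matrix.transpose_apply, Matrix.map_apply, altMat,
    Fin.sum_univ_four, Matrix.of_apply, Matrix.cons_val', Matrix.cons_val_zero, Matrix.cons_val_one, Matrix.cons_val,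
    Matrix.cons_val_fin_one, map_neg, map_zero, map_add, map_sub, map_mul, hσi, dotProduct, Fin.sum_univ_six]
  linear_combination (-4 * (x 0 * σ (y 0) + x 4 * σ (y 4) + x 5 * σ (y 5))) * hi

section

variable (hi : i * i = -1) (h2 : (2 : F) ≠ 0) {σ : F ≃+* F} (hσi : σ i = -i)
include hi h2 hσi

/-- Unitary elements give rational maps. -/
theorem kap_commutes {g : specialLinear (Fin 4) F}
    (hg : ((g : GL (Fin 4) F) : M4)ᵀ * ((g : GL (Fin 4) F) : M4).map σ = 1) (y : V6) (l : Fin 6) :
    σ ((kap hi h2 g • y) l) = (kap hi h2 g • fun m => σ (y m)) l := by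
  set A := ((g : GL (Fin 4) F) : M4) with hA
  set k := kap hi h2 g with hk
  have h4 : (4 : F) ≠ 0 := by
    rw [show (4 : F) = 2 * 2 by norm_num]; exact mul_ne_zero h2 h2
  have hB : (A.map σ)ᵀ * A = 1 := by
    have := congrArg Matrix.transpose hg
    rwa [transpose_mul, transpose_transpose, transpose_one] at this
  have hinv : ∀ x, k • x ⬝ᵥ (fun m => σ ((k • y) m)) = x ⬝ᵥ fun m => σ (y m) := fun x => by
    refine mul_left_cancel₀ h4 ?_
    rw [← trace_E6 hi hσi, ← trace_E6 hi hσi, hk, kap_smul, kap_smul, ← hA, SLFour.Klein.E6_kLin hi h2,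
      SLFour.Klein.E6_kLin hi h2, Matrix.map_mul, Matrix.map_mul, transpose_mul, transpose_mul,
      show (Aᵀ).map σ = (A.map σ)ᵀ from (Matrix.transpose_map).symm, transpose_transpose]
    calc Matrix.trace (A * E6 i x * Aᵀ * (A.map σ * (((E6 i y).map σ)ᵀ * (A.map σ)ᵀ)))
        = Matrix.trace (A * (E6 i x * (Aᵀ * A.map σ) * (((E6 i y).map σ)ᵀ * (A.map σ)ᵀ))) := by
          simp only [Matrix.mul_assoc]
      _ = Matrix.trace (E6 i x * ((E6 i y).map σ)ᵀ * ((A.map σ)ᵀ * A)) := by
          rw [hg, mul_one, Matrix.trace_mul_comm]; simp only [Matrix.mul_assoc]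
      _ = _ := by rw [hB, mul_one]
  have hz : ∀ z : V6, z ⬝ᵥ ((fun m => σ ((k • y) m)) - k • fun m => σ (y m)) = 0 := fun z => by
    rw [dotProduct_sub, sub_eq_zero]
    have e1 := hinv (k⁻¹ • z)
    rw [smul_inv_smul] at e1
    rw [e1, ← Frame.dot_gsmul h2 k (k⁻¹ • z), smul_inv_smul]
  exact sub_eq_zero.1 (congrFun (dotProduct_eq_zero ((fun m => σ ((k • y) m)) - k • fun m => σ (y m))
    fun z => by rw [dotProduct_comm]; exact hz z) l)

end

section

variable {p : ℕ} [Fact p.Prime] [CharP F p]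

/-- The inclusion of the prime field. -/
abbrev pf : ZMod p →+* F := ZMod.castHom (dvd_refl p) F

/-- Coordinatewise inclusion. -/
def lift6 (x : Fin 6 → ZMod p) : V6 := fun l => pf (F := F) (x l)

theorem lift6_injective : Function.Injective (lift6 (F := F) (p := p)) := fun _ _ h =>
  funext fun l => (pf (F := F) (p := p)).injective (congrFun h l)

theorem lift6_ee (a : Fin 6) : lift6 (F := F) (p := p) (ee a) = ee a := funext fun l => by
  by_cases h : l = a <;> simp [lift6, h]

theorem lift6_neg (x : Fin 6 → ZMod p) : lift6 (F := F) (-x) = -lift6 (F := F) x := funext fun l => by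
  simp [lift6]

theorem lift6_add (x y : Fin 6 → ZMod p) : lift6 (F := F) (x + y) = lift6 x + lift6 y := funext fun l => by
  simp [lift6]

theorem lift6_smul (c : ZMod p) (x : Fin 6 → ZMod p) : lift6 (F := F) (c • x) = pf (F := F) c • lift6 x :=
  funext fun l => by simp [lift6]

theorem fQ_lift6 (x : Fin 6 → ZMod p) : fQ F (Fin 6) (lift6 x) = pf (F := F) (fQ (ZMod p) (Fin 6) x) := by
  simp [Frame.fQ_apply, lift6, dotProduct, map_sum]

theorem exists_of_pow_eq [Fintype F] {x : F} (hx : x ^ p = x) : ∃ c : ZMod p, pf (F := F) c = x := by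
  classical
  have hp := (Fact.out : p.Prime)
  let S : Finset F := Finset.univ.image (pf (F := F) (p := p))
  have hS : S.card = p := by
    rw [Finset.card_image_of_injective _ (pf (F := F) (p := p)).injective, Finset.card_univ, ZMod.card]
  by_contra hc
  push Not at hc
  have hxS : x ∉ S := fun h => by
    obtain ⟨c, -, e⟩ := Finset.mem_image.1 h
    exact hc c e
  have hne : (Polynomial.X ^ p - Polynomial.X : Polynomial F) ≠ 0 :=
    FiniteField.X_pow_card_sub_X_ne_zero F hp.one_lt
  have hsub : insert x S ⊆ (Polynomial.X ^ p - Polynomial.X : Polynomial F).roots.toFinset := fun z hz => by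
    rw [Multiset.mem_toFinset, Polynomial.mem_roots hne]
    rcases Finset.mem_insert.1 hz with rfl | hz
    · simp [hx]
    · obtain ⟨c, -, rfl⟩ := Finset.mem_image.1 hz
      rw [Polynomial.IsRoot.def, Polynomial.eval_sub, Polynomial.eval_pow, Polynomial.eval_X, ← map_pow,
        ZMod.pow_card, sub_self]
  have h1 := Finset.card_le_card hsub
  rw [Finset.card_insert_of_notMem hxS, hS] at h1
  have h2 := (Polynomial.card_roots' (Polynomial.X ^ p - Polynomial.X : Polynomial F))
  rw [FiniteField.X_pow_card_sub_X_natDegree_eq F hp.one_lt] at h2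
  have := Multiset.toFinset_card_le (Polynomial.X ^ p - Polynomial.X : Polynomial F).roots
  omega

variable [Fintype F] (hF : Fintype.card F = p ^ 2) (hi : i * i = -1) (h2 : (2 : F) ≠ 0)
  (hip : i ^ p = -i)
include hF hip

/-- The element in the special linear group. -/
abbrev toSS (g : SUg 4 F p) : specialLinear (Fin 4) F := ⟨(g : GL (Fin 4) F), g.2.2⟩

theorem exists_descend (g : SUg 4 F p) (x : Fin 6 → ZMod p) :
    ∃ y : Fin 6 → ZMod p, lift6 y = kap hi h2 (toSS g) • lift6 (F := F) x := by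
  obtain ⟨σ, hq⟩ := CfsgLib.Geo.Asch.exists_isQPow (F := F) hF
  have hσi : σ i = -i := by rw [hq.eq_pow, hip]
  have hfix : ∀ l, (kap hi h2 (toSS g) • lift6 (F := F) x) l ^ p = (kap hi h2 (toSS g) • lift6 (F := F) x) l := by
    intro l
    rw [← hq.eq_pow, kap_commutes hi h2 hσi (Pauli.mul_map_of_mem hF hq g.2.1)]
    have e : (fun m => σ (lift6 (F := F) x m)) = lift6 (F := F) x := funext fun m => by
      rw [hq.eq_pow, lift6, ← map_pow, ZMod.pow_card]
    rw [e]
  choose c hc using fun l => exists_of_pow_eq (hfix l)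
  exact ⟨c, funext hc⟩

/-- The linear map of a unitary element on rational vectors. -/
noncomputable def desc (g : SUg 4 F p) (x : Fin 6 → ZMod p) : Fin 6 → ZMod p :=
  (exists_descend hF hi h2 hip g x).choose

theorem desc_spec (g : SUg 4 F p) (x : Fin 6 → ZMod p) :
    lift6 (desc hF hi h2 hip g x) = kap hi h2 (toSS g) • lift6 (F := F) x :=
  (exists_descend hF hi h2 hip g x).choose_spec

theorem desc_mul (g g' : SUg 4 F p) (x : Fin 6 → ZMod p) :
    desc hF hi h2 hip (g * g') x = desc hF hi h2 hip g (desc hF hi h2 hip g' x) := by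
  refine lift6_injective (F := F) ?_
  rw [desc_spec, desc_spec, desc_spec, ← mul_smul, ← map_mul]
  rfl

theorem desc_one (x : Fin 6 → ZMod p) : desc hF hi h2 hip 1 x = x := by
  refine lift6_injective (F := F) ?_
  rw [desc_spec, show toSS (1 : SUg 4 F p) = 1 from rfl, map_one, one_smul]

/-- The rational isometry of a unitary element. -/
noncomputable def descEquiv (g : SUg 4 F p) : (Fin 6 → ZMod p) ≃ₗ[ZMod p] (Fin 6 → ZMod p) where
  toFun := desc hF hi h2 hip g
  map_add' x y := lift6_injective (F := F) (by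
    rw [desc_spec, lift6_add, lift6_add, desc_spec, desc_spec, smul_add])
  map_smul' c x := lift6_injective (F := F) (by
    rw [desc_spec, RingHom.id_apply, lift6_smul, lift6_smul, desc_spec, Frame.gsmul_smul])
  invFun := desc hF hi h2 hip g⁻¹
  left_inv x := by rw [← desc_mul, inv_mul_cancel, desc_one]
  right_inv x := by rw [← desc_mul, mul_inv_cancel, desc_one]

/-- The rational Klein correspondence. -/
noncomputable def rho : SUg 4 F p →* OQ (fQ (ZMod p) (Fin 6)) :=
  MonoidHom.mk' (fun g => ⟨descEquiv hF hi h2 hip g, mem_OQ.2 fun x => (pf (F := F) (p := p)).injective (by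
    show pf (F := F) (fQ (ZMod p) (Fin 6) (desc hF hi h2 hip g x)) = _
    rw [← fQ_lift6, ← fQ_lift6, desc_spec, Frame.apply_gsmul])⟩)
    fun g g' => Frame.eq_of_smul fun x => desc_mul hF hi h2 hip g g' x

theorem rho_spec (g : SUg 4 F p) (x : Fin 6 → ZMod p) :
    lift6 (rho hF hi h2 hip g • x) = kap hi h2 (toSS g) • lift6 (F := F) x :=
  desc_spec hF hi h2 hip g x

theorem rho_ee_iff (g : SUg 4 F p) (a : Fin 6) (v : Fin 6 → ZMod p) :
    rho hF hi h2 hip g • (ee a : Fin 6 → ZMod p) = v ↔ kap hi h2 (toSS g) • (ee a : V6) = lift6 v := by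
  rw [← lift6_injective.eq_iff (f := lift6 (F := F)), rho_spec, lift6_ee]

theorem monBy_iff (g : SUg 4 F p) (π : Equiv.Perm (Fin 6)) :
    MonBy (rho hF hi h2 hip g) π ↔ MonBy (kap hi h2 (toSS g)) π :=
  forall_congr' fun a => by rw [rho_ee_iff, rho_ee_iff, lift6_ee, lift6_neg, lift6_ee]

theorem isMon_iff (g : SUg 4 F p) : IsMon (rho hF hi h2 hip g) ↔ IsMon (kap hi h2 (toSS g)) :=
  exists_congr fun π => monBy_iff hF hi h2 hip g π

theorem kap_eq_of_rho {g g' : SUg 4 F p} (h : rho hF hi h2 hip g = rho hF hi h2 hip g') :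
    kap hi h2 (toSS g) = kap hi h2 (toSS g') := by
  refine Frame.eq_of_smul_ee fun a => ?_
  rw [← lift6_ee (F := F) (p := p) a, ← rho_spec hF hi h2 hip, ← rho_spec hF hi h2 hip, h]

theorem rho_mem_eichGroup (g : SUg 4 F p) (h2' : (2 : ZMod p) ≠ 0) :
    rho hF hi h2 hip g ∈ eichGroup (Frame.fQ_nondegenerate (F := ZMod p) (ι := Fin 6) h2') := by
  rw [eichGroup_eq_commutator _ (by simp)]
  have hg : g ∈ commutator (SUg 4 F p) := by
    have h1 : (g : GL (Fin 4) F) ∈ (commutator (SUg 4 F p)).map (SUg 4 F p).subtype := by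
      rw [commutator_def, Subgroup.map_commutator, ← MonoidHom.range_eq_map, Subgroup.range_subtype,
        commutator_SUg hF]
      exact g.2
    obtain ⟨g', hg', e⟩ := h1
    rwa [← Subtype.ext (show (g' : GL (Fin 4) F) = g from e)]
  have h1 := Subgroup.mem_map_of_mem (rho hF hi h2 hip) hg
  rw [commutator_def, Subgroup.map_commutator] at h1
  exact Subgroup.commutator_mono le_top le_top h1

end

end CfsgLib.Geo.SUFour
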