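import Cfsg.Agent.Lib.Geo.Frame.Roots
import Cfsg.Agent.Lib.Geo.Frame.SixFusion

/-!
# Frame groups on six axes over the field of three elements
-/

set_option autoImplicit false

namespace CfsgLib.Geo.SUFour.FrameThree

open CfsgLib.Classical CfsgLib.Classical.Quad
open CfsgLib.Geo.Frame
open Matrix

/-- The support of a vector. -/
abbrev sp (x : Fin 6 → ZMod 3) : Finset (Fin 6) := Finset.univ.filter fun l => x l ≠ 0

/-- The vector with four coordinates equal to one. -/
def x0 : Fin 6 → ZMod 3 := ![1, 1, 1, 1, 0, 0]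

/-- Three unit vectors orthogonal to `x0` with the same support. -/
def mate : Fin 3 → Fin 6 → ZMod 3 :=
  ![![1, 1, 2, 2, 0, 0], ![1, 2, 1, 2, 0, 0], ![1, 2, 2, 1, 0, 0]]

/-- Four three-cycles on the first four coordinates. -/
def cyc : Fin 4 → Equiv.Perm (Fin 6) :=
  ![Equiv.swap 0 1 * Equiv.swap 1 2, Equiv.swap 0 1 * Equiv.swap 1 3,
    Equiv.swap 0 2 * Equiv.swap 2 3, Equiv.swap 1 2 * Equiv.swap 2 3]

/-- Five symmetries of `x0`. -/
def img : Fin 5 → (Fin 6 → ZMod 3) → Fin 6 → ZMod 3 :=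
  Fin.cons (fun y => ![y 0, y 1, y 2, y 3, -y 4, -y 5]) fun k y l => y ((cyc k).symm l)

theorem card_sp : ∀ x : Fin 6 → ZMod 3, x ⬝ᵥ x = 1 →
    (sp x).card = 4 ∨ ∃ a, x = Pi.single a 1 ∨ x = -Pi.single a 1 := by
  clear * -
  decide +kernel

theorem mate_cases : ∀ y : Fin 6 → ZMod 3, y ⬝ᵥ y = 1 → y ⬝ᵥ x0 = 0 →
    (sp y).card = 1 ∨ (∃ t, y = mate t ∨ y = -mate t) ∨
      ∃ k, img k y ≠ y ∧ img k y ≠ -y ∧ img k y ⬝ᵥ y ≠ 0 := by
  clear * -
  decide +kernel

theorem sp_x0 : sp x0 = {0, 1, 2, 3} := by decide +kernel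

theorem cyc_sign : ∀ k, Equiv.Perm.sign (cyc k) = 1 := by decide +kernel

theorem cyc_x0 : ∀ k l, x0 ((cyc k).symm l) = x0 l := by decide +kernel

/-- An even permutation with prescribed image of a four-set and of one further point. -/
theorem exists_perm {S S' : Finset (Fin 6)} (hS : S.card = 4) (hS' : S'.card = 4) {c j : Fin 6} (hc : c ∉ S)
    (hj : j ∉ S') :
    ∃ π : Equiv.Perm (Fin 6), Equiv.Perm.sign π = 1 ∧ π c = j ∧ ∀ l, π l ∈ S' ↔ l ∈ S := by
  classical
  have e : {x // x ∈ S} ≃ {x // x ∈ S'} := Fintype.equivOfCardEq (by simp [hS, hS'])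
  set π₁ := e.extendSubtype with hπ₁
  have h1 : ∀ l, π₁ l ∈ S' ↔ l ∈ S := fun l => by
    constructor
    · intro h
      by_contra hl
      exact Equiv.extendSubtype_not_mem e l hl h
    · exact fun h => Equiv.extendSubtype_mem e l h
  set π₂ := Equiv.swap (π₁ c) j * π₁ with hπ₂
  have hc1 : π₁ c ∉ S' := fun h => hc ((h1 c).1 h)
  have h2 : ∀ l, π₂ l ∈ S' ↔ l ∈ S := fun l => by
    rw [hπ₂, Equiv.Perm.mul_apply, Equiv.swap_apply_def, ← h1 l]
    split_ifs with ha hb
    · rw [ha]; exact ⟨fun h => absurd h hj, fun h => absurd h hc1⟩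
    · rw [hb]; exact ⟨fun h => absurd h hc1, fun h => absurd h hj⟩
    · rfl
  have hcj : π₂ c = j := by rw [hπ₂, Equiv.Perm.mul_apply, Equiv.swap_apply_left]
  rcases Int.units_eq_one_or (Equiv.Perm.sign π₂) with hs | hs
  · exact ⟨π₂, hs, hcj, h2⟩
  obtain ⟨a, ha, b, hb, hab⟩ := Finset.one_lt_card.1 (show 1 < S'.card by omega)
  refine ⟨Equiv.swap a b * π₂, by rw [map_mul, Equiv.Perm.sign_swap hab, hs]; decide, ?_, fun l => ?_⟩
  · rw [Equiv.Perm.mul_apply, hcj, Equiv.swap_apply_of_ne_of_ne (fun e => hj (by rw [e]; exact ha)) (fun e => hj (by rw [e]; exact hb))]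
  · rw [Equiv.Perm.mul_apply, Equiv.swap_apply_def, ← h2 l]
    split_ifs with h h'
    · rw [h]; exact ⟨fun _ => ha, fun _ => hb⟩
    · rw [h']; exact ⟨fun _ => hb, fun _ => ha⟩
    · rfl

section

local notation "OQ6" => OQ (fQ (ZMod 3) (Fin 6))

theorem two_ne : (2 : ZMod 3) ≠ 0 := by decide

variable {K : Subgroup (OQ (fQ (ZMod 3) (Fin 6)))}

/-- Vectors with four non-zero coordinates are moved to each other by monomial elements. -/
theorem exists_move (hK : IsFrame K) {x x' : Fin 6 → ZMod 3} (hx : (sp x).card = 4) (hx' : (sp x').card = 4)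
    {c j : Fin 6} (hc : x c = 0) (hj : x' j = 0) :
    ∃ m ∈ K, IsMon m ∧ m • x = x' ∧ (m • (ee c : Fin 6 → ZMod 3) = ee j ∨ m • (ee c : Fin 6 → ZMod 3) = -ee j) := by
  classical
  obtain ⟨π, hπ, hπc, hπS⟩ := exists_perm hx hx' (c := c) (j := j) (by simp [sp, hc]) (by simp [sp, hj])
  set y : Fin 6 → ZMod 3 := fun l => x (π.symm l) with hy
  have hsupp : ∀ l, y l ≠ 0 ↔ x' l ≠ 0 := fun l => by
    have := hπS (π.symm l)
    rw [Equiv.apply_symm_apply] at this
    simpa [sp, hy] using this.symm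
  have hval : ∀ l, y l = x' l ∨ (y l = -x' l ∧ x' l ≠ 0) := fun l => by
    have h := hsupp l
    revert h
    generalize y l = a
    generalize x' l = b
    revert a b
    decide
  set T := Finset.univ.filter fun l => y l ≠ x' l with hT
  obtain ⟨d, hd⟩ := exists_avoid (s := insert j (sp x'))
    (lt_of_le_of_lt (Finset.card_insert_le _ _) (by rw [hx', Fintype.card_fin]; norm_num))
  simp only [sp, Finset.mem_insert, Finset.mem_filter, Finset.mem_univ, true_and, not_or, not_not] at hd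
  have hdT : d ∉ T := fun h => by
    simp only [hT, Finset.mem_filter, Finset.mem_univ, true_and] at h
    rcases hval d with e | e
    · exact h e
    · exact e.2 hd.2
  obtain ⟨T', hev, hTT'⟩ : ∃ T' : Finset (Fin 6), Even T'.card ∧ ∀ l, (l ∈ T' → x' l = 0 ∨ y l ≠ x' l) ∧
      (y l ≠ x' l → l ∈ T') := by
    rcases Nat.even_or_odd T.card with h | h
    · exact ⟨T, h, fun l => ⟨fun hl => Or.inr (by simpa [hT] using hl), fun hl => by simp [hT, hl]⟩⟩
    · refine ⟨insert d T, by rw [Finset.card_insert_of_notMem hdT]; exact h.add_one, fun l => ⟨fun hl => ?_, fun hl => ?_⟩⟩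
      · rcases Finset.mem_insert.1 hl with rfl | hl
        · exact Or.inl hd.2
        · exact Or.inr (by simpa [hT] using hl)
      · exact Finset.mem_insert_of_mem (by simp [hT, hl])
  refine ⟨flipO (1 : Fin 6 → ZMod 3) T' * permO (ZMod 3) π, mul_mem (hK.flip_mem hev) (hK.perm π hπ),
    (isMon_flip T').mul (isMon_perm π), funext fun l => ?_, ?_⟩
  · rw [mul_smul, flipO_apply, permO_apply]
    show (if l ∈ T' then -y l else y l) = x' l
    by_cases hl : l ∈ T'
    · rw [if_pos hl]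
      rcases (hTT' l).1 hl with e | e
      · have : y l = 0 := by_contra fun h => (hsupp l).1 h e
        rw [this, e, neg_zero]
      · rcases hval l with e' | e'
        · exact absurd e' e
        · rw [e'.1, neg_neg]
    · rw [if_neg hl]
      exact by_contra fun h => hl ((hTT' l).2 h)
  · rw [mul_smul, permO_ee, hπc]
    by_cases h : j ∈ T'
    · exact Or.inr (flipO_ee_mem h)
    · exact Or.inl (flipO_ee_notMem h)

theorem unit_ee (g : OQ (fQ (ZMod 3) (Fin 6))) (a : Fin 6) :
    (g • ee a : Fin 6 → ZMod 3) ⬝ᵥ (g • ee a) = 1 := by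
  rw [dot_gsmul two_ne, dot_ee, ee_self]

theorem perp_ee (g : OQ (fQ (ZMod 3) (Fin 6))) {a b : Fin 6} (hab : a ≠ b) :
    (g • ee a : Fin 6 → ZMod 3) ⬝ᵥ (g • ee b) = 0 := by
  rw [dot_gsmul two_ne, dot_ee, ee_ne hab.symm]

theorem exists_four {g : OQ (fQ (ZMod 3) (Fin 6))} (hg : ¬ IsMon g) :
    ∃ a, (sp (g • ee a : Fin 6 → ZMod 3)).card = 4 := by
  by_contra! hc
  refine hg (isMon_of_axis two_ne fun a => ?_)
  rcases card_sp _ (unit_ee g a) with e | ⟨b, e | e⟩
  · exact absurd e (hc a)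
  all_goals exact ⟨b, fun l hl => by rw [e]; simp [hl]⟩

/-- A non-monomial element with an axis among the images of the axes. -/
theorem exists_axis (hK : IsFrame K) {g : OQ (fQ (ZMod 3) (Fin 6))} (hg : g ∈ K) (hgm : ¬ IsMon g) :
    ∃ k ∈ K, ¬ IsMon k ∧ ∃ a b, k • (ee a : Fin 6 → ZMod 3) = ee b ∨ k • (ee a : Fin 6 → ZMod 3) = -ee b := by
  classical
  by_contra! H
  have H' : ∀ k ∈ K, ∀ a b, (k • (ee a : Fin 6 → ZMod 3) = ee b ∨ k • (ee a : Fin 6 → ZMod 3) = -ee b) → IsMon k := by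
    intro k hk a b hab
    by_contra hm
    exact hab.elim (H k hk hm a b).1 (H k hk hm a b).2
  obtain ⟨a, ha⟩ := exists_four hgm
  obtain ⟨c, hc⟩ := exists_avoid (s := sp (g • ee a : Fin 6 → ZMod 3)) (by rw [ha, Fintype.card_fin]; norm_num)
  obtain ⟨m, hm, hmm, hmx, -⟩ := exists_move hK ha (x' := x0) (by rw [sp_x0]; decide) (c := c) (j := 4)
    (by simpa [sp] using hc) (by decide +kernel)
  have hg' : m * g ∈ K := mul_mem hm hg
  have hgm' : ¬ IsMon (m * g) := fun h => hgm (IsMon.of_mul_left hmm h)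
  have hga : (m * g) • (ee a : Fin 6 → ZMod 3) = x0 := by rw [mul_smul, hmx]
  set G := m * g
  have hperp : ∀ h ∈ K, h • x0 = x0 → ∀ l,
      h • (G • ee l : Fin 6 → ZMod 3) = G • ee l ∨ h • (G • ee l : Fin 6 → ZMod 3) = -(G • ee l) ∨
        (h • (G • ee l : Fin 6 → ZMod 3)) ⬝ᵥ (G • ee l) = 0 := by
    intro h hh hx l
    obtain ⟨π, hπ⟩ := H' (G⁻¹ * h * G) (mul_mem (mul_mem (inv_mem hg') hh) hg') a a
      (Or.inl (by rw [mul_smul, mul_smul, hga, hx, ← hga, inv_smul_smul]))
    have e : h • (G • ee l : Fin 6 → ZMod 3) = G • ((G⁻¹ * h * G) • ee l) := by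
      rw [← mul_smul h, ← mul_smul G]; congr 1; group
    rw [e]
    by_cases hl : π l = l
    · rcases hπ l with e' | e' <;> rw [e', hl]
      · exact Or.inl rfl
      · exact Or.inr (Or.inl (gsmul_neg _ _))
    · refine Or.inr (Or.inr ?_)
      rcases hπ l with e' | e' <;> rw [e']
      · exact perp_ee G hl
      · rw [gsmul_neg, neg_dotProduct, perp_ee G hl, neg_zero]
  have key : ∀ l, l ≠ a → ∃ t, (G • ee l : Fin 6 → ZMod 3) = mate t ∨ (G • ee l : Fin 6 → ZMod 3) = -mate t := by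
    intro l hl
    rcases mate_cases _ (unit_ee G l) (by rw [← hga]; exact perp_ee G hl) with h | h | ⟨k, h1, h2, h3⟩
    · obtain ⟨b, hb⟩ := Finset.card_eq_one.1 h
      rcases card_sp _ (unit_ee G l) with e | ⟨d, e⟩
      · omega
      · exact absurd (H' G hg' l d e) hgm'
    · exact h
    · exfalso
      obtain ⟨hh, hhK, hhx, hhy⟩ : ∃ hh ∈ K, hh • x0 = x0 ∧ ∀ y, hh • y = img k y := by
        refine Fin.cases ?_ (fun k => ?_) k
        · refine ⟨flipO (1 : Fin 6 → ZMod 3) {4, 5}, hK.flip_mem ⟨1, by decide⟩, funext fun i => ?_,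
            fun y => funext fun i => ?_⟩ <;> rw [flipO_apply] <;> fin_cases i <;> simp [x0, img]
        · exact ⟨permO (ZMod 3) (cyc k), hK.perm _ (cyc_sign k), funext fun i => by rw [permO_apply, cyc_x0],
            fun y => funext fun i => by rw [permO_apply]; simp [img]⟩
      rcases hperp hh hhK hhx l with e | e | e <;> rw [hhy] at e
      · exact h1 e
      · exact h2 e
      · exact h3 e
  choose t ht using key
  have hinj : Function.Injective fun l : {l // l ≠ a} => t l.1 l.2 := by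
    rintro ⟨l, hl⟩ ⟨l', hl'⟩ e
    by_contra hne
    have hne' : l ≠ l' := fun e' => hne (Subtype.ext e')
    have h0 := perp_ee G hne'
    have h1 : mate (t l hl) ⬝ᵥ mate (t l hl) = 1 := by
      have := unit_ee G l
      rcases ht l hl with e1 | e1 <;> simpa [e1] using this
    simp only at e
    rcases ht l hl with e1 | e1 <;> rcases ht l' hl' with e2 | e2 <;> rw [e1, e2, ← e] at h0 <;>
      simp [h1] at h0
  have := Fintype.card_le_of_injective _ hinj
  simp at this

/-- Everything is monomial, unless the group contains all Eichler transformations. -/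
theorem mon_six (hK : IsFrame K)
    (hne : ¬ eichGroup (fQ_nondegenerate (F := ZMod 3) (ι := Fin 6) two_ne) ≤ K) : ∀ g ∈ K, IsMon g := by
  classical
  intro g hg
  by_contra hgm
  obtain ⟨k, hk, hkm, c, d, hcd⟩ := exists_axis hK hg hgm
  obtain ⟨a, ha⟩ := exists_four hkm
  have hac : a ≠ c := fun e => by
    rcases hcd with h | h <;> rw [e, h] at ha <;> revert ha <;> clear * - <;> revert d <;> decide +kernel
  have hd : (k • ee a : Fin 6 → ZMod 3) d = 0 := by
    have := perp_ee k hac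
    rcases hcd with h | h <;> rw [h] at this
    · rwa [dot_ee] at this
    · rw [dotProduct_neg, dot_ee, neg_eq_zero] at this; exact this
  refine hne (le_of_all_root hK two_ne (by simp) fun u hu => ⟨hu, fun i => ?_⟩)
  rcases card_sp u hu with h4 | ⟨b, hb⟩
  · obtain ⟨j, hj⟩ := exists_avoid (s := sp u) (by rw [h4, Fintype.card_fin]; norm_num)
    obtain ⟨m, hm, -, hmx, hme⟩ := exists_move hK ha h4 hd (j := j) (by simpa [sp] using hj)
    have hneg : ∀ v : Fin 6 → ZMod 3, v ⬝ᵥ v = 1 → reflU (-v) = reflU v := fun v hv => eq_of_smul fun y => by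
      rw [reflU_smul hv, reflU_smul (by rw [neg_dotProduct_neg, hv]), dotProduct_neg]
      module
    have hj1 : reflU ((m * k) • ee c : Fin 6 → ZMod 3) = reflU (ee j : Fin 6 → ZMod 3) := by
      have e1 : (ee j : Fin 6 → ZMod 3) ⬝ᵥ ee j = 1 := by rw [dot_ee, ee_self]
      rw [mul_smul]
      rcases hcd with h | h <;> rcases hme with h' | h' <;> simp [h, h', gsmul_neg, hneg _ e1]
    have hmem : reflU u * flipO (1 : Fin 6 → ZMod 3) {j} ∈ K := by
      have hf := mul_mem (mul_mem (mul_mem hm hk) (hK.flip_single_mul a c)) (inv_mem (mul_mem hm hk))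
      convert hf using 1
      rw [← reflU_ee a, ← reflU_ee c, ← reflU_ee j, ← hj1, ← hmx, ← mul_smul,
        ← reflU_conj two_ne (m * k) (show (ee a : Fin 6 → ZMod 3) ⬝ᵥ ee a = 1 by rw [dot_ee, ee_self]),
        ← reflU_conj two_ne (m * k) (show (ee c : Fin 6 → ZMod 3) ⬝ᵥ ee c = 1 by rw [dot_ee, ee_self])]
      group
    have := mul_mem hmem (hK.flip_single_mul j i)
    rwa [mul_assoc (reflU u), ← mul_assoc (flipO (1 : Fin 6 → ZMod 3) {j}), flipO_sq, one_mul] at this
  · have hb' : reflU u = flipO (1 : Fin 6 → ZMod 3) {b} := by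
      rcases hb with rfl | rfl
      · exact reflU_ee b
      · rw [← reflU_ee b]
        refine eq_of_smul fun y => ?_
        rw [reflU_smul (u := (ee b : Fin 6 → ZMod 3)) (by rw [dot_ee, ee_self]),
          reflU_smul (u := -(ee b : Fin 6 → ZMod 3)) (by rw [neg_dotProduct_neg, dot_ee, ee_self]),
          dotProduct_neg]
        module
    rw [hb']
    exact hK.flip_single_mul b i

end

end CfsgLib.Geo.SUFour.FrameThree
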