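/-
The stabiliser of a pair of complementary totally isotropic planes is maximal in SU(4).
-/
import Cfsg.Agent.Lib.Geo.UnitPairMaximal
import Cfsg.Agent.Lib.Geo.SUFour.Blocks

set_option autoImplicit false
set_option linter.unusedSectionVars false
set_option linter.style.haveILetI false
set_option maxHeartbeats 1000000

namespace CfsgLib.Geo.SUFour

open CfsgLib.Classical CfsgLib.Classical.Herm CfsgLib.Geo.UnitMax CfsgLib.Geo.UnitPair
open CfsgLib.Geo.UnitDecomp (fixStar mem_fixStar card_fixStar nm)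

variable {F : Type*} [Field F] {V : Type*} [AddCommGroup V] [Module F V] {σ : F →+* F}
  {B : V →ₛₗ[σ] V →ₗ[F] F} [FiniteDimensional F V] (h : IsHerm B) {L₀ L₁ : Submodule F V}
include h

/-- A fixed scalar avoiding three given ones. -/
theorem exists_fixed_avoid [Finite F] (hq : 4 ≤ Nat.card (fixedSub σ)) (a b : F) :
    ∃ r : F, σ r = r ∧ r ≠ 0 ∧ r ≠ a ∧ r ≠ b := by
  classical
  haveI := Fintype.ofFinite F
  obtain ⟨r, hr, hr'⟩ := Finset.exists_mem_notMem_of_card_lt_card (s := ({a, b} : Finset F)) (t := fixStar σ)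
    (lt_of_le_of_lt Finset.card_le_two (by have := card_fixStar (σ := σ); omega))
  simp only [Finset.mem_insert, Finset.mem_singleton, not_or] at hr'
  exact ⟨r, (mem_fixStar.1 hr).1, (mem_fixStar.1 hr).2, hr'.1, hr'.2⟩

/-- Adding centres with a skew non-zero product. -/
theorem hasTr_add {K : Subgroup (HU B)} {v w : V} (hv : HasTr h K v) (hw : HasTr h K w) (hww : B w w = 0)
    (hne : B v w ≠ 0) (ht : B v w + σ (B v w) = 0) : HasTr h K (v + w) := by
  have hwv : B w v ≠ 0 := fun e => hne (h.eq_zero_symm e)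
  have hc : (B w v)⁻¹ + σ (B w v)⁻¹ = 0 := by
    rw [map_inv₀, h.symm, show B w v = σ (B v w) from (h.symm v w).symm, eq_neg_of_add_eq_zero_right ht,
      inv_neg, neg_add_cancel]
  have := hv.conj h (hw hww _ hc)
  rwa [IsHerm.tr_apply, inv_mul_cancel₀ hwv, one_smul] at this

theorem hasTr_smul {K : Subgroup (HU B)} {v : V} (hv : HasTr h K v) {a : F} (ha : a ≠ 0) :
    HasTr h K (a • v) := by
  refine HasTr.of_smul h (inv_ne_zero ha) ?_
  rwa [inv_smul_smul₀ ha]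

/-- A vector of one plane pairing with two given ones as prescribed. -/
theorem exists_pairing [Finite F] (hp : IsPair B 2 L₀ L₁) {u : V} (hu : u ∈ L₀) (hu0 : u ≠ 0) :
    ∃ f ∈ L₁, B u f = 1 := by
  obtain ⟨w, hw, hne⟩ : ∃ y ∈ L₁, B u y ≠ 0 := by
    by_contra! hc
    exact hu0 (eq_zero_of_perp h hp hu hc)
  exact ⟨(B u w)⁻¹ • w, L₁.smul_mem _ hw, by rw [smul_right, inv_mul_cancel₀ hne]⟩

theorem line_perp [Finite F] (hp : IsPair B 2 L₀ L₁) {u : V} (hu : u ∈ L₀) :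
    ∃ w ∈ L₁, w ≠ 0 ∧ B u w = 0 := by
  let L : L₁ →ₗ[F] F := (B u).domRestrict L₁
  have h1 := LinearMap.finrank_range_add_finrank_ker L
  have h3 := Submodule.finrank_le (LinearMap.range L)
  rw [Module.finrank_self] at h3
  rw [hp.rank₁] at h1
  obtain ⟨y, hy, hy0⟩ := (Submodule.ne_bot_iff _).1 (show LinearMap.ker L ≠ ⊥ from fun hb => by
    rw [hb, finrank_bot] at h1; omega)
  exact ⟨y, y.2, fun e => hy0 (Subtype.ext e), hy⟩

/-- The dilatation of a hyperbolic pair by a fixed scalar. -/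
theorem exists_dil_mem [Finite F] (hp : IsPair B 2 L₀ L₁) {K : Subgroup (HU B)}
    (hK : ∀ p ∈ HSU B, Pres L₀ L₁ p → p ∈ K) {u f : V} (hu : u ∈ L₀) (hf : f ∈ L₁) (huf : B u f = 1)
    {r : F} (hr : σ r = r) (hr0 : r ≠ 0) :
    ∃ k ∈ K, ∀ y, (k : V ≃ₗ[F] V) y = y + ((r - 1) * B f y) • u + ((r⁻¹ - 1) * B u y) • f := by
  obtain ⟨k, hdet, hk⟩ := exists_dil h (hp.iso₀ u hu u hu) (hp.iso₁ f hf f hf) huf hr0
  rw [hr] at hdet hk
  refine ⟨k, hK k ?_ (Or.inl ⟨fun x hx => ?_, fun x hx => ?_⟩), hk⟩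
  · rw [MonoidHom.mem_ker, Units.ext_iff, hdet, div_self hr0, Units.val_one]
  · rw [hk, hp.iso₀ u hu x hx, mul_zero, zero_smul, add_zero]
    exact L₀.add_mem hx (L₀.smul_mem _ hu)
  · rw [hk, hp.iso₁ f hf x hx, mul_zero, zero_smul, add_zero]
    exact L₁.add_mem hx (L₁.smul_mem _ hf)

/-- Any centre yields one in a plane. -/
theorem centre_in_plane [Finite F] (hq : 4 ≤ Nat.card (fixedSub σ)) (hp : IsPair B 2 L₀ L₁)
    {K : Subgroup (HU B)} (hK : ∀ p ∈ HSU B, Pres L₀ L₁ p → p ∈ K) {v : V} (hv0 : v ≠ 0) (hvv : B v v = 0)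
    (hv : HasTr h K v) : ∃ u, (u ∈ L₀ ∨ u ∈ L₁) ∧ u ≠ 0 ∧ HasTr h K u := by
  obtain ⟨p, hp', y, hy, rfl⟩ := Submodule.mem_sup.1 (hp.compl.sup_eq_top.ge (Submodule.mem_top : v ∈ ⊤))
  by_cases hp0 : p = 0
  · exact ⟨p + y, Or.inr (by rw [hp0, zero_add]; exact hy), hv0, hv⟩
  by_cases hy0 : y = 0
  · exact ⟨p + y, Or.inl (by rw [hy0, add_zero]; exact hp'), hv0, hv⟩
  have hpp := hp.iso₀ p hp' p hp'
  have hyy := hp.iso₁ y hy y hy
  -- a centre whose two parts are not orthogonal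
  suffices hgood : ∀ p ∈ L₀, ∀ y ∈ L₁, B (p + y) (p + y) = 0 → HasTr h K (p + y) → B p y ≠ 0 →
      ∃ u, (u ∈ L₀ ∨ u ∈ L₁) ∧ u ≠ 0 ∧ HasTr h K u by
    by_cases hθ : B p y = 0
    swap
    · exact hgood p hp' y hy hvv hv hθ
    obtain ⟨f, hf, hpf⟩ := exists_pairing h hp hp' hp0
    obtain ⟨p₀, hp₀, hp₀y⟩ := exists_pairing h hp.symm hy hy0
    -- a second vector of the first plane
    set p₂ := p₀ - B f p₀ • p with hp₂
    have hp₂m : p₂ ∈ L₀ := L₀.sub_mem hp₀ (L₀.smul_mem _ hp')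
    have hyp : B y p = 0 := h.eq_zero_symm hθ
    have hyp₂ : B y p₂ = 1 := by rw [hp₂, map_sub, smul_right, hyp, mul_zero, sub_zero, hp₀y]
    have hp₂y : B p₂ y = 1 := by rw [← h.symm, hyp₂, map_one]
    have hfp : B f p = 1 := by rw [← h.symm, hpf, map_one]
    have hfp₂ : B f p₂ = 0 := by rw [hp₂, map_sub, smul_right, hfp, mul_one, sub_self]
    have hp₂f : B p₂ f = 0 := h.eq_zero_symm hfp₂
    have hp22 := hp.iso₀ p₂ hp₂m p₂ hp₂m
    have hff := hp.iso₁ f hf f hf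
    obtain ⟨r, hr, hr0, hr1, hr1'⟩ := exists_fixed_avoid h hq 1 (-1)
    have hr2 : r * r ≠ 1 := fun e => (mul_self_eq_one_iff.1 e).elim hr1 hr1'
    have hsg := hK _ (sg_det h hp22 hff hp₂f 1) (sg_pres h hp hp₂m hf hp₂f 1)
    obtain ⟨k, hk, hky⟩ := exists_dil_mem h hp hK hp₂m hy hp₂y hr hr0
    have hv' := (hv.conj h hsg).conj h hk
    set p' := p + r • p₂
    set y' := r⁻¹ • y - f
    have himg : (k : V ≃ₗ[F] V) ((sg h hp22 hff hp₂f 1 : V ≃ₗ[F] V) (p + y)) = p' + y' := by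
      rw [sg_apply]
      simp only [map_one, one_mul, map_add, hp.iso₁ f hf y hy, hp.iso₀ p₂ hp₂m p hp', hfp, hp₂y,
        zero_add, add_zero, map_sub, map_smul, hky, hyy, hp22, hyp, hyp₂, hp₂f, hp.iso₁ y hy f hf,
        hp.iso₀ p₂ hp₂m p₂ hp₂m, mul_zero, zero_smul, p', y']
      match_scalars <;> ring
    rw [himg] at hv'
    have hv'iso : B (p' + y') (p' + y') = 0 := by
      rw [← himg, HU.map_eq, HU.map_eq, hvv]
    have hp'y : B p' y = r := by
      simp only [p', map_add, LinearMap.add_apply, smul_left, hθ, hp₂y, hr, zero_add, mul_one]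
    have hpy' : B p y' = -1 := by
      simp only [y', map_sub, map_smul, smul_eq_mul, hθ, hpf, mul_zero, zero_sub]
    have hyp' : B y p' = r := by rw [← h.symm, hp'y, hr]
    have hy'p : B y' p = -1 := by rw [← h.symm, hpy', map_neg, map_one]
    have hm : r - 1 ≠ 0 := sub_ne_zero.2 hr1
    obtain ⟨θ, hθ0, hθs⟩ := h.exists_skew
    set lam := θ / (r - 1)
    have hlam0 : lam ≠ 0 := div_ne_zero hθ0 hm
    have hlam : σ lam = -lam := by
      rw [map_div₀, map_sub, hr, map_one, eq_neg_of_add_eq_zero_right hθs, neg_div]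
    have hp'm : p' ∈ L₀ := L₀.add_mem hp' (L₀.smul_mem _ hp₂m)
    have hy'm : y' ∈ L₁ := L₁.sub_mem (L₁.smul_mem _ hy) hf
    have hprod : B (p + y) (lam • (p' + y')) = θ := by
      simp only [map_smul, map_add, LinearMap.add_apply, smul_eq_mul, hp.iso₀ p hp' p' hp'm, hpy',
        hp.iso₁ y hy y' hy'm, hyp', zero_add, add_zero]
      simp only [lam]
      field_simp
      ring
    have hw := hasTr_add h hv (hasTr_smul h hv' hlam0)
      (by rw [IsHerm.smul_self, hv'iso, mul_zero]) (by rw [hprod]; exact hθ0) (by rw [hprod]; exact hθs)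
    have heq : p + y + lam • (p' + y') = (p + lam • p') + (y + lam • y') := by module
    rw [heq] at hw
    refine hgood _ (L₀.add_mem hp' (L₀.smul_mem _ hp'm)) _ (L₁.add_mem hy (L₁.smul_mem _ hy'm)) ?_ hw ?_
    · rw [← heq]
      simp only [map_add _ (p + y), LinearMap.add_apply, IsHerm.smul_self, hvv, hv'iso, hprod]
      rw [← h.symm (p + y) (lam • (p' + y')), hprod]
      linear_combination hθs
    · have hp'y' : B p' y' + σ (B p' y') = 0 := by
        have e := hv'iso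
        simp only [map_add, LinearMap.add_apply, hp.iso₀ p' hp'm p' hp'm, hp.iso₁ y' hy'm y' hy'm, zero_add,
          add_zero] at e
        rw [← h.symm p' y', add_comm] at e
        exact e
      have hzero : B p' y' = 0 := by
        simp only [p', y', map_sub, map_smul, map_add, LinearMap.add_apply, smul_left, smul_eq_mul, hθ, hp₂y,
          hpf, hp₂f, hr, mul_zero, mul_one, zero_add, add_zero, inv_mul_cancel₀ hr0, sub_self]
      simp only [map_add, LinearMap.add_apply, map_smul, smul_left, smul_eq_mul, hθ, hpy', hp'y, hzero, hlam]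
      intro e
      have : lam * (r + 1) = 0 := by linear_combination -e
      exact hr1' (eq_neg_of_add_eq_zero_left ((mul_eq_zero.1 this).resolve_left hlam0))
  intro p hp' y hy hvv hv hθ
  have hskew : B p y + σ (B p y) = 0 := by
    have e := hvv
    simp only [map_add, LinearMap.add_apply, hp.iso₀ p hp' p hp', hp.iso₁ y hy y hy, zero_add, add_zero] at e
    rw [← h.symm p y, add_comm] at e
    exact e
  set θ := B p y
  obtain ⟨r, hr, hr0, hr1, hr1'⟩ := exists_fixed_avoid h hq 1 (-1)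
  have hr2 : r * r - 1 ≠ 0 := sub_ne_zero.2 fun e => (mul_self_eq_one_iff.1 e).elim hr1 hr1'
  obtain ⟨k, hk, hky⟩ := exists_dil_mem h hp hK hp' (L₁.smul_mem θ⁻¹ hy)
    (by rw [smul_right, inv_mul_cancel₀ hθ]) hr hr0
  have hσθ : σ θ = -θ := eq_neg_of_add_eq_zero_right hskew
  have hyp : B y p = -θ := by rw [← h.symm, hσθ]
  have hfp : B (θ⁻¹ • y) p = 1 := by rw [smul_left, map_inv₀, hσθ, hyp]; field_simp
  have hfy : B (θ⁻¹ • y) y = 0 := by rw [smul_left, hp.iso₁ y hy y hy, mul_zero]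
  have himg : (k : V ≃ₗ[F] V) (p + y) = r • p + r⁻¹ • y := by
    rw [hky]
    simp only [map_add, hfp, hfy, hp.iso₀ p hp' p hp', add_zero, zero_add]
    rw [show B p y = θ from rfl, smul_smul, mul_assoc, mul_inv_cancel₀ hθ]
    module
  have hv' := hv.conj h hk
  rw [himg] at hv'
  have hv'' := hasTr_smul h hv' (neg_ne_zero.2 hr0)
  have heq : (-r) • (r • p + r⁻¹ • y) = (-(r * r)) • p - y := by
    rw [smul_add, smul_smul, smul_smul, neg_mul, neg_mul, mul_inv_cancel₀ hr0]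
    module
  rw [heq] at hv''
  have hprod : B (p + y) ((-(r * r)) • p - y) = (r * r - 1) * θ := by
    simp only [map_sub, map_smul, map_add, LinearMap.add_apply, smul_eq_mul, hp.iso₀ p hp' p hp', hyp,
      hp.iso₁ y hy y hy, show B p y = θ from rfl]
    ring
  have hw := hasTr_add h hv hv'' (by
      rw [← heq, IsHerm.smul_self, ← himg, HU.map_eq, hvv, mul_zero])
    (by rw [hprod]; exact mul_ne_zero hr2 hθ)
    (by rw [hprod, map_mul, map_sub, map_mul, hr, map_one, ← mul_add, hskew, mul_zero])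
  rw [show p + y + ((-(r * r)) • p - y) = (1 - r * r) • p by module] at hw
  refine ⟨_, Or.inl (L₀.smul_mem _ hp'), ?_, hw⟩
  refine smul_ne_zero (fun e => hr2 (by linear_combination -e)) fun e => hθ ?_
  simp [θ, e]

/-- Two Siegel pairs spanning one plane give a centre. -/
theorem centre_of_two_pairs [Finite F] {K : Subgroup (HU B)} {a b a' b' : V} (haa : B a a = 0) (hbb : B b b = 0)
    (hab : B a b = 0) (hmem : ∀ d, sg h haa hbb hab d ∈ K) (hind : ∀ α β : F, α • a + β • b = 0 → α = 0 ∧ β = 0)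
    (haa' : B a' a' = 0) (hbb' : B b' b' = 0) (hab' : B a' b' = 0) (hmem' : ∀ d, sg h haa' hbb' hab' d ∈ K)
    {α β γ δ : F} (hα : α ≠ 0) (hβ : β ≠ 0) (hgd : γ ≠ 0 ∨ δ ≠ 0) (hea : a' = α • a + β • b)
    (heb : b' = γ • a + δ • b) : ∃ v : V, v ≠ 0 ∧ B v v = 0 ∧ HasTr h K v := by
  have hσ := h.invol
  have hba : B b a = 0 := h.eq_zero_symm hab
  obtain ⟨x₀, hx₀⟩ := hσ.exists_trace_eq (μ := (1 : F)) (map_one σ)
  set κ₁ := α * σ γ
  set κ₂ := β * σ δ
  -- the diagonal part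
  have hdiag : ∀ d e : F, ∃ T ∈ K, ∀ y, (T : V ≃ₗ[F] V) y = y + ((d * κ₁ - σ (d * κ₁)) * B a y) • a +
      ((d * κ₂ - σ (d * κ₂)) * B b y) • b + (e * B b y) • a - (σ e * B a y) • b := by
    intro d e
    refine ⟨_, K.mul_mem (hmem' d) (hmem (e - (d * α * σ δ - σ d * σ β * γ))), fun y => ?_⟩
    rw [Subgroup.coe_mul, LinearEquiv.mul_apply]
    simp only [sg_apply, hea, heb, map_add, map_sub, map_smul, LinearMap.add_apply, smul_left,
      smul_eq_mul, haa, hbb, hab, hba, mul_zero, add_zero, sub_zero, map_mul, hσ.invol, κ₁, κ₂]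
    match_scalars <;> ring
  have honly : ∀ {κ κ' : F}, κ ≠ 0 → κ' = 0 ∨ (∃ s : F, σ s ≠ s ∧ κ = s * κ') →
      ∀ c : F, c + σ c = 0 → ∃ d, d * κ - σ (d * κ) = c ∧ d * κ' - σ (d * κ') = 0 := by
    intro κ κ' hκ hk c hc
    have hσc : σ c = -c := eq_neg_of_add_eq_zero_right hc
    rcases hk with hk | ⟨s, hs, hk⟩
    · refine ⟨c * x₀ / κ, ?_, by rw [hk, mul_zero, map_zero, sub_zero]⟩
      rw [div_mul_cancel₀ _ hκ, map_mul, hσc]
      linear_combination c * hx₀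
    · have hκ' : κ' ≠ 0 := fun e => hκ (by rw [hk, e, mul_zero])
      have hs' : s - σ s ≠ 0 := sub_ne_zero.2 (Ne.symm hs)
      have hfix : σ (c / (s - σ s)) = c / (s - σ s) := by
        rw [map_div₀, map_sub, hσ.invol, hσc, ← neg_sub s (σ s), neg_div_neg_eq]
      refine ⟨c / (s - σ s) / κ', ?_, ?_⟩
      · rw [hk, show c / (s - σ s) / κ' * (s * κ') = c / (s - σ s) * s by field_simp, map_mul, hfix, ← mul_sub,
          div_mul_cancel₀ _ hs']
      · rw [div_mul_cancel₀ _ hκ', hfix, sub_self]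
  have ha0 : a ≠ 0 := fun e => one_ne_zero (hind 1 0 (by rw [e, smul_zero, zero_smul, add_zero])).1
  have hb0 : b ≠ 0 := fun e => one_ne_zero (hind 0 1 (by rw [e, smul_zero, zero_smul, add_zero])).2
  by_cases hκ₁ : κ₁ = 0
  · have hκ₂ : κ₂ ≠ 0 := by
      have hγ : γ = 0 := (map_eq_zero σ).1 ((mul_eq_zero.1 hκ₁).resolve_left hα)
      exact mul_ne_zero hβ ((map_ne_zero σ).2 (hgd.resolve_left (not_not.2 hγ)))
    refine ⟨b, hb0, hbb, fun hv c hc => ?_⟩
    obtain ⟨d, hd, hd'⟩ := honly hκ₂ (Or.inl hκ₁) c hc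
    obtain ⟨T, hT, hTy⟩ := hdiag d 0
    convert hT using 1
    ext y
    rw [hTy, hd, hd', IsHerm.tr_apply]
    simp
  by_cases hreal : ∃ r : F, σ r = r ∧ r ≠ 0 ∧ κ₁ = r * κ₂
  · obtain ⟨r, hr, hr0, hk⟩ := hreal
    have hκ₂ : κ₂ ≠ 0 := fun e => hκ₁ (by rw [hk, e, mul_zero])
    obtain ⟨κ, hκ⟩ := hσ.exists_norm_eq (μ := r) hr
    refine ⟨κ • a + b, fun e => one_ne_zero (hind κ 1 (by rwa [one_smul])).2, ?_, fun hv c hc => ?_⟩
    · simp only [map_add, LinearMap.add_apply, map_smul, smul_left, smul_eq_mul, haa, hbb, hab, hba, mul_zero,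
        add_zero]
    have hσc : σ c = -c := eq_neg_of_add_eq_zero_right hc
    obtain ⟨T, hT, hTy⟩ := hdiag (c * x₀ / κ₂) (c * κ)
    convert hT using 1
    ext y
    rw [hTy, IsHerm.tr_apply]
    have e2 : c * x₀ / κ₂ * κ₂ - σ (c * x₀ / κ₂ * κ₂) = c := by
      rw [div_mul_cancel₀ _ hκ₂, map_mul, hσc]
      linear_combination c * hx₀
    have e1 : c * x₀ / κ₂ * κ₁ - σ (c * x₀ / κ₂ * κ₁) = c * (κ * σ κ) := by
      rw [hκ, hk, show c * x₀ / κ₂ * (r * κ₂) = r * (c * x₀ / κ₂ * κ₂) by ring, map_mul, hr, ← mul_sub, e2, mul_comm]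
    rw [e1, e2]
    simp only [map_add, LinearMap.add_apply, smul_left, map_mul, hσc]
    match_scalars <;> ring
  refine ⟨a, ha0, haa, fun hv c hc => ?_⟩
  have hk' : κ₂ = 0 ∨ ∃ s : F, σ s ≠ s ∧ κ₁ = s * κ₂ := by
    by_cases hκ₂ : κ₂ = 0
    · exact Or.inl hκ₂
    refine Or.inr ⟨κ₁ / κ₂, fun e => hreal ⟨κ₁ / κ₂, e, div_ne_zero hκ₁ hκ₂, ?_⟩, ?_⟩ <;>
      rw [div_mul_cancel₀ _ hκ₂]
  obtain ⟨d, hd, hd'⟩ := honly hκ₁ hk' c hc
  obtain ⟨T, hT, hTy⟩ := hdiag d 0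
  convert hT using 1
  ext y
  rw [hTy, hd, hd', IsHerm.tr_apply]
  simp

/-- Moving a Siegel pair within its plane gives a centre. -/
theorem centre_of_move [Finite F] {K : Subgroup (HU B)} {a b : V} (haa : B a a = 0) (hbb : B b b = 0)
    (hab : B a b = 0) (hmem : ∀ d, sg h haa hbb hab d ∈ K) (hind : ∀ α β : F, α • a + β • b = 0 → α = 0 ∧ β = 0)
    {k : HU B} (hk : k ∈ K) {α β γ δ : F} (hα : α ≠ 0) (hβ : β ≠ 0)
    (hea : (k : V ≃ₗ[F] V) a = α • a + β • b) (heb : (k : V ≃ₗ[F] V) b = γ • a + δ • b) :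
    ∃ v : V, v ≠ 0 ∧ B v v = 0 ∧ HasTr h K v := by
  refine centre_of_two_pairs h haa hbb hab hmem hind ((HU.map_eq k a a).trans haa) ((HU.map_eq k b b).trans hbb)
    ((HU.map_eq k a b).trans hab) (fun d => by
      rw [← conj_sg h haa hbb hab d k]
      exact K.mul_mem (K.mul_mem hk (hmem d)) (K.inv_mem hk)) hα hβ ?_ hea heb
  by_contra! hc
  have hb0 : b = 0 := (k : V ≃ₗ[F] V).injective (by rw [heb, hc.1, hc.2, zero_smul, zero_smul, add_zero, map_zero])
  exact one_ne_zero (hind 0 1 (by rw [hb0, smul_zero, zero_smul, add_zero])).2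

/-- A Siegel pair with independent first projections gives a centre. -/
theorem centre_of_indep [Finite F] (hq : 4 ≤ Nat.card (fixedSub σ)) (hp : IsPair B 2 L₀ L₁)
    {K : Subgroup (HU B)} (hK : ∀ p ∈ HSU B, Pres L₀ L₁ p → p ∈ K) {a b a₀ a₁ b₀ b₁ : V}
    (haa : B a a = 0) (hbb : B b b = 0) (hab : B a b = 0) (hmem : ∀ d, sg h haa hbb hab d ∈ K)
    (ha₀ : a₀ ∈ L₀) (ha₁ : a₁ ∈ L₁) (hb₀ : b₀ ∈ L₀) (hb₁ : b₁ ∈ L₁) (hae : a₀ + a₁ = a) (hbe : b₀ + b₁ = b)
    (hind : ∀ α β : F, α • a₀ + β • b₀ = 0 → α = 0 ∧ β = 0) :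
    ∃ v : V, v ≠ 0 ∧ B v v = 0 ∧ HasTr h K v := by
  have hσ := h.invol
  have hd0 := Submodule.disjoint_def.1 hp.compl.disjoint
  have hind' : ∀ α β : F, α • a + β • b = 0 → α = 0 ∧ β = 0 := fun α β e => hind α β (by
    refine hd0 _ (L₀.add_mem (L₀.smul_mem _ ha₀) (L₀.smul_mem _ hb₀)) ?_
    have e' : α • a₀ + β • b₀ = -(α • a₁ + β • b₁) := by
      rw [← hae, ← hbe] at e
      rw [eq_neg_iff_add_eq_zero, ← e]
      module
    rw [e']
    exact L₁.neg_mem (L₁.add_mem (L₁.smul_mem _ ha₁) (L₁.smul_mem _ hb₁)))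
  -- a vector of the plane whose parts are orthogonal
  obtain ⟨μ, ν, hne, hiso⟩ : ∃ μ ν : F, (μ ≠ 0 ∨ ν ≠ 0) ∧
      B (μ • a₀ + ν • b₀) (μ • a₁ + ν • b₁) = 0 := by
    set X := B a₀ a₁
    by_cases hX : X = 0
    · exact ⟨1, 0, Or.inl one_ne_zero, by simpa using hX⟩
    set Y := B a₀ b₁
    set Z := B b₀ a₁
    set W := B b₀ b₁
    have hsk : ∀ {u u' v v' : V}, u ∈ L₀ → u' ∈ L₁ → v ∈ L₀ → v' ∈ L₁ → B (u + u') (v + v') = 0 →
        B u v' + σ (B v u') = 0 := fun {u u' v v'} hu hu' hv hv' e => by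
      simp only [map_add, LinearMap.add_apply, hp.iso₀ u hu v hv, hp.iso₁ u' hu' v' hv', zero_add, add_zero] at e
      rw [h.symm]
      linear_combination e
    have eX : X + σ X = 0 := hsk ha₀ ha₁ ha₀ ha₁ (by rw [hae]; exact haa)
    have eW : W + σ W = 0 := hsk hb₀ hb₁ hb₀ hb₁ (by rw [hbe]; exact hbb)
    have eY : Y + σ Z = 0 := hsk ha₀ ha₁ hb₀ hb₁ (by rw [hae, hbe]; exact hab)
    have eσX : σ X = -X := eq_neg_of_add_eq_zero_right eX
    have eσW : σ W = -W := eq_neg_of_add_eq_zero_right eW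
    have eσZ : σ Z = -Y := eq_neg_of_add_eq_zero_right eY
    have eσY : σ Y = -Z := by
      have e := congrArg σ eY
      rw [map_add, hσ.invol, map_zero] at e
      linear_combination e
    obtain ⟨s, hs⟩ := hσ.exists_norm_eq (μ := (Z * Y - W * X) / (X * X)) (by
      rw [map_div₀, map_sub, map_mul, map_mul, map_mul, eσX, eσW, eσY, eσZ]
      ring)
    refine ⟨s - Y / X, 1, Or.inr one_ne_zero, ?_⟩
    simp only [one_smul, map_add, LinearMap.add_apply, map_smul, smul_left, smul_eq_mul, map_sub, map_div₀,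
      eσX, eσY]
    field_simp at hs ⊢
    linear_combination X * hs
  set p := μ • a₀ + ν • b₀
  set p₁ := μ • a₁ + ν • b₁
  have hpm : p ∈ L₀ := L₀.add_mem (L₀.smul_mem _ ha₀) (L₀.smul_mem _ hb₀)
  have hp1m : p₁ ∈ L₁ := L₁.add_mem (L₁.smul_mem _ ha₁) (L₁.smul_mem _ hb₁)
  have hpv : p + p₁ = μ • a + ν • b := by rw [← hae, ← hbe]; module
  have hp0 : p ≠ 0 := fun e => hne.elim (fun h1 => h1 (hind μ ν e).1) fun h1 => h1 (hind μ ν e).2
  -- the moving Siegel element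
  obtain ⟨w, hw, hw0, hpw, hperp⟩ : ∃ w ∈ L₁, w ≠ 0 ∧ B p w = 0 ∧ (p₁ = 0 ∨ p₁ = w) := by
    by_cases h1 : p₁ = 0
    · obtain ⟨w, hw, hw0, hpw⟩ := line_perp h hp hpm
      exact ⟨w, hw, hw0, hpw, Or.inl h1⟩
    · exact ⟨p₁, hp1m, h1, hiso, Or.inr rfl⟩
  have hpp := hp.iso₀ p hpm p hpm
  have hww := hp.iso₁ w hw w hw
  have hmove : ∀ c : F, σ c = c → ∀ x x₀ x₁ : V, x₀ ∈ L₀ → x₁ ∈ L₁ → x₀ + x₁ = x → B (p + p₁) x = 0 →
      (sg h hpp hww hpw c : V ≃ₗ[F] V) x = x + (c * B w x₀) • (p + p₁) := by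
    intro c hc x x₀ x₁ hx₀ hx₁ hxe hperp'
    rw [sg_apply, hc, ← hxe]
    simp only [map_add, LinearMap.add_apply, hp.iso₁ w hw x₁ hx₁, hp.iso₀ p hpm x₀ hx₀, zero_add, add_zero,
      ← hxe, hp.iso₁ p₁ hp1m x₁ hx₁] at hperp' ⊢
    rcases hperp with h1 | h1
    · rw [h1, map_zero, LinearMap.zero_apply, zero_add] at hperp'
      rw [hperp', h1]
      simp
    · rw [h1] at hperp' ⊢
      rw [show B p x₁ = -B w x₀ by linear_combination hperp']
      module
  have hpa : B (p + p₁) a = 0 := by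
    rw [hpv, map_add, LinearMap.add_apply, smul_left, smul_left, haa, h.eq_zero_symm hab, mul_zero, mul_zero,
      add_zero]
  have hpb : B (p + p₁) b = 0 := by
    rw [hpv, map_add, LinearMap.add_apply, smul_left, smul_left, hbb, hab, mul_zero, mul_zero, add_zero]
  have hK' : ∀ c, sg h hpp hww hpw c ∈ K := fun c => hK _ (sg_det h _ _ _ c) (sg_pres h hp hpm hw hpw c)
  have hwp : B w p = 0 := h.eq_zero_symm hpw
  have hlin : μ * B w a₀ + ν * B w b₀ = 0 := by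
    rw [← smul_right, ← smul_right, ← map_add]
    exact hwp
  by_cases hwa : B w a₀ = 0
  swap
  · have hν : ν ≠ 0 := fun e => by
      rw [e, zero_mul, add_zero] at hlin
      exact (hne.resolve_right (not_not.2 e)) ((mul_eq_zero.1 hlin).resolve_right hwa)
    obtain ⟨c, hc, hc0, hc1, -⟩ := exists_fixed_avoid h hq (-1 / (B w a₀ * μ)) 0
    refine centre_of_move h haa hbb hab hmem hind' (hK' c) (α := 1 + c * B w a₀ * μ) (β := c * B w a₀ * ν)
      (γ := c * B w b₀ * μ) (δ := 1 + c * B w b₀ * ν) ?_ (mul_ne_zero (mul_ne_zero hc0 hwa) hν) ?_ ?_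
    · intro e
      rcases eq_or_ne μ 0 with hμ | hμ
      · rw [hμ, mul_zero, add_zero] at e
        exact one_ne_zero e
      · exact hc1 (by field_simp; linear_combination e)
    · rw [hmove c hc a a₀ a₁ ha₀ ha₁ hae hpa, hpv]; module
    · rw [hmove c hc b b₀ b₁ hb₀ hb₁ hbe hpb, hpv]; module
  have hwb : B w b₀ ≠ 0 := fun e => hw0 (eq_zero_of_perp h hp.symm hw fun x hx => by
    -- the two projections span the plane
    by_contra hne'
    have hli : LinearIndependent F ![(⟨a₀, ha₀⟩ : L₀), ⟨b₀, hb₀⟩] := by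
      rw [LinearIndependent.pair_iff]
      exact fun s t hst => hind s t (congrArg Subtype.val hst)
    have hspan := hli.span_eq_top_of_card_eq_finrank (by rw [Fintype.card_fin, hp.rank₀])
    have hmemx : (⟨x, hx⟩ : L₀) ∈ Submodule.span F (Set.range ![(⟨a₀, ha₀⟩ : L₀), ⟨b₀, hb₀⟩]) := by
      rw [hspan]; exact Submodule.mem_top
    rw [Matrix.range_cons, Matrix.range_cons, Matrix.range_empty, Set.union_empty] at hmemx
    obtain ⟨s, t, hst⟩ := Submodule.mem_span_pair.1 (by simpa using hmemx)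
    exact hne' (by
      rw [show x = s • b₀ + t • a₀ from (congrArg Subtype.val hst).symm, map_add, smul_right, smul_right, hwa, e,
        mul_zero, mul_zero, add_zero]))
  have hμ : μ ≠ 0 := fun e => by
    rw [e, zero_mul, zero_add] at hlin
    exact (hne.resolve_left (not_not.2 e)) ((mul_eq_zero.1 hlin).resolve_right hwb)
  obtain ⟨c, hc, hc0, hc1, -⟩ := exists_fixed_avoid h hq (-1 / (B w b₀ * ν)) 0
  refine centre_of_move h hbb haa (h.eq_zero_symm hab) (fun d => by rw [sg_comm h haa hbb hab]; exact hmem _)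
    (fun x y e => (hind' y x (by rwa [add_comm])).symm) (hK' c)
    (α := 1 + c * B w b₀ * ν) (β := c * B w b₀ * μ) (γ := c * B w a₀ * ν) (δ := 1 + c * B w a₀ * μ)
    ?_ (mul_ne_zero (mul_ne_zero hc0 hwb) hμ) ?_ ?_
  · intro e
    rcases eq_or_ne ν 0 with hν | hν
    · rw [hν, mul_zero, add_zero] at e
      exact one_ne_zero e
    · exact hc1 (by field_simp; linear_combination e)
  · rw [hmove c hc b b₀ b₁ hb₀ hb₁ hbe hpb, hpv]; module
  · rw [hmove c hc a a₀ a₁ ha₀ ha₁ hae hpa, hpv]; module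

/-- A Siegel pair which is not coordinate gives a centre. -/
theorem centre_of_mixed [Finite F] (hq : 4 ≤ Nat.card (fixedSub σ)) (hp : IsPair B 2 L₀ L₁)
    {K : Subgroup (HU B)} (hK : ∀ p ∈ HSU B, Pres L₀ L₁ p → p ∈ K) {a b : V}
    (haa : B a a = 0) (hbb : B b b = 0) (hab : B a b = 0) (hmem : ∀ d, sg h haa hbb hab d ∈ K)
    (hind : ∀ α β : F, α • a + β • b = 0 → α = 0 ∧ β = 0) (hmix : a ∉ L₀ ∧ a ∉ L₁) :
    ∃ v : V, v ≠ 0 ∧ B v v = 0 ∧ HasTr h K v := by
  obtain ⟨a₀, ha₀, a₁, ha₁, hae⟩ := Submodule.mem_sup.1 (hp.compl.sup_eq_top.ge (Submodule.mem_top : a ∈ ⊤))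
  obtain ⟨b₀, hb₀, b₁, hb₁, hbe⟩ := Submodule.mem_sup.1 (hp.compl.sup_eq_top.ge (Submodule.mem_top : b ∈ ⊤))
  by_cases h0 : ∀ α β : F, α • a₀ + β • b₀ = 0 → α = 0 ∧ β = 0
  · exact centre_of_indep h hq hp hK haa hbb hab hmem ha₀ ha₁ hb₀ hb₁ hae hbe h0
  by_cases h1 : ∀ α β : F, α • a₁ + β • b₁ = 0 → α = 0 ∧ β = 0
  · exact centre_of_indep h hq hp.symm (fun p hpS hpP => hK p hpS hpP.swap) haa hbb hab hmem ha₁ ha₀ hb₁ hb₀
      ((add_comm _ _).trans hae) ((add_comm _ _).trans hbe) h1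
  have ha00 : a₀ ≠ 0 := fun e => hmix.2 (by rw [← hae, e, zero_add]; exact ha₁)
  have ha10 : a₁ ≠ 0 := fun e => hmix.1 (by rw [← hae, e, add_zero]; exact ha₀)
  have hdep : ∀ {u v : V}, u ≠ 0 → (¬ ∀ α β : F, α • u + β • v = 0 → α = 0 ∧ β = 0) → ∃ s : F, v = s • u := by
    intro u v hu hd
    push Not at hd
    obtain ⟨x, y, e, hxy⟩ := hd
    have hy : y ≠ 0 := fun ey => hxy (by
      rw [ey, zero_smul, add_zero, smul_eq_zero] at e
      exact e.resolve_right hu) ey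
    exact ⟨-(x / y), by
      rw [← inv_smul_smul₀ hy v, eq_neg_of_add_eq_zero_right e, smul_neg, smul_smul, ← neg_smul, div_eq_inv_mul]⟩
  obtain ⟨s, hs⟩ := hdep ha00 h0
  obtain ⟨t, ht⟩ := hdep ha10 h1
  have hst : s - t ≠ 0 := fun e => one_ne_zero (hind (-s) 1 (by
    rw [← hae, ← hbe, hs, ht, ← sub_eq_zero.1 e]; module)).2
  have hX0 : B a₀ a₁ = 0 := by
    have e1 := haa
    have e2 := hab
    rw [← hbe, hs, ht, ← hae] at e2
    rw [← hae] at e1
    simp only [map_add, LinearMap.add_apply, map_smul, smul_eq_mul, hp.iso₀ a₀ ha₀ a₀ ha₀, hp.iso₁ a₁ ha₁ a₁ ha₁,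
      mul_zero, zero_add, add_zero] at e1 e2
    refine (mul_eq_zero.1 (show (t - s) * B a₀ a₁ = 0 by linear_combination e2 - s * e1)).resolve_left fun e => ?_
    exact hst (by linear_combination -e)
  obtain ⟨f, hf, haf⟩ := exists_pairing h hp ha₀ ha00
  obtain ⟨r, hr, hr0, hr1, hr2⟩ := exists_fixed_avoid h hq 1 (s / t)
  obtain ⟨k, hk, hky⟩ := exists_dil_mem h hp hK ha₀ hf haf hr hr0
  have hfa : B f a₀ = 1 := by rw [← h.symm, haf, map_one]
  have himg : ∀ x y : F, (k : V ≃ₗ[F] V) (x • a₀ + y • a₁) = (r * x) • a₀ + y • a₁ := by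
    intro x y
    rw [hky]
    simp only [map_add, map_smul, smul_eq_mul, hfa, hp.iso₁ f hf a₁ ha₁, hX0, hp.iso₀ a₀ ha₀ a₀ ha₀,
      mul_zero, mul_one, add_zero, zero_smul]
    module
  have hts : t - s ≠ 0 := fun e => hst (by linear_combination -e)
  refine centre_of_move h haa hbb hab hmem hind hk (α := (r * t - s) / (t - s)) (β := (1 - r) / (t - s))
    (γ := s * t * (r - 1) / (t - s)) (δ := (t - r * s) / (t - s)) (div_ne_zero ?_ hts)
    (div_ne_zero (sub_ne_zero.2 (Ne.symm hr1)) hts) ?_ ?_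
  · intro e
    rcases eq_or_ne t 0 with h0' | h0'
    · rw [h0', mul_zero, zero_sub, neg_eq_zero] at e
      exact hst (by rw [e, h0', sub_zero])
    · exact hr2 (by field_simp; linear_combination e)
  · have e1 : a = (1 : F) • a₀ + (1 : F) • a₁ := by rw [one_smul, one_smul, hae]
    conv_lhs => rw [e1, himg]
    rw [← hae, ← hbe, hs, ht]
    match_scalars <;> field_simp <;> ring
  · conv_lhs => rw [← hbe, hs, ht, himg]
    rw [← hae, ← hbe, hs, ht]
    match_scalars <;> field_simp <;> ring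

/-- An overgroup of the pair stabiliser with a further element is everything. -/
theorem le_of_pair_two [Finite F] (hq : 4 ≤ Nat.card (fixedSub σ)) (hp : IsPair B 2 L₀ L₁) {K : Subgroup (HU B)}
    (hK : ∀ p ∈ HSU B, Pres L₀ L₁ p → p ∈ K) {g : HU B} (hgK : g ∈ K) (hg : ¬ Pres L₀ L₁ g) :
    HSU B ≤ K := by
  obtain ⟨sw, hswS, hsw₀, hsw₁⟩ := exists_swap h hp
  have hswK : sw ∈ K := hK sw hswS (Or.inr ⟨hsw₀, hsw₁⟩)
  obtain ⟨u, hu, hu0, hut⟩ : ∃ u ∈ L₀, u ≠ 0 ∧ HasTr h K u := by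
    by_contra! hcon
    apply hg
    have hnone : ∀ v : V, v ≠ 0 → B v v = 0 → ¬ HasTr h K v := fun v hv0 hvv hv => by
      obtain ⟨u, hu, hu0, hut⟩ := centre_in_plane h hq hp hK hv0 hvv hv
      rcases hu with hu | hu
      · exact hcon u hu hu0 hut
      · exact hcon _ (hsw₁ u hu) (by simpa using hu0) (hut.conj h hswK)
    have hpure' : ∀ x ∈ L₀, ∀ y ∈ L₁, x ≠ 0 → y ≠ 0 → B x y = 0 →
        ((g : V ≃ₗ[F] V) x ∈ L₀ ∨ (g : V ≃ₗ[F] V) x ∈ L₁) ∧ ((g : V ≃ₗ[F] V) y ∈ L₀ ∨ (g : V ≃ₗ[F] V) y ∈ L₁) := by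
      intro x hx y hy hx0 hy0 hxy
      have haa := (HU.map_eq g x x).trans (hp.iso₀ x hx x hx)
      have hbb := (HU.map_eq g y y).trans (hp.iso₁ y hy y hy)
      have hab := (HU.map_eq g x y).trans hxy
      have hmem : ∀ d, sg h haa hbb hab d ∈ K := fun d => by
        rw [← conj_sg h (hp.iso₀ x hx x hx) (hp.iso₁ y hy y hy) hxy d g]
        exact K.mul_mem (K.mul_mem hgK (hK _ (sg_det h _ _ _ _) (sg_pres h hp hx hy hxy d))) (K.inv_mem hgK)
      have hind : ∀ α β : F, α • (g : V ≃ₗ[F] V) x + β • (g : V ≃ₗ[F] V) y = 0 → α = 0 ∧ β = 0 := by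
        intro α β e
        rw [← map_smul, ← map_smul, ← map_add, LinearEquiv.map_eq_zero_iff] at e
        have h1 : α • x = 0 := Submodule.disjoint_def.1 hp.compl.disjoint _ (L₀.smul_mem _ hx)
          (by rw [eq_neg_of_add_eq_zero_left e]; exact L₁.neg_mem (L₁.smul_mem _ hy))
        rw [h1, zero_add] at e
        exact ⟨(smul_eq_zero.1 h1).resolve_right hx0, (smul_eq_zero.1 e).resolve_right hy0⟩
      constructor <;> by_contra! hmix
      · obtain ⟨v, hv0, hvv, hv⟩ := centre_of_mixed h hq hp hK haa hbb hab hmem hind hmix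
        exact hnone v hv0 hvv hv
      · obtain ⟨v, hv0, hvv, hv⟩ := centre_of_mixed h hq hp hK hbb haa (h.eq_zero_symm hab)
          (fun d => by rw [sg_comm h haa hbb hab]; exact hmem _)
          (fun α β e => (hind β α (by rwa [add_comm])).symm) hmix
        exact hnone v hv0 hvv hv
    have horth : ∀ (A A' : Submodule F V), IsPair B 2 A A' → ∀ x ∈ A, ∃ y ∈ A', y ≠ 0 ∧ B x y = 0 := by
      intro A A' hp x hx
      let L : A' →ₗ[F] F := (B x).domRestrict A'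
      have h1 := LinearMap.finrank_range_add_finrank_ker L
      have h3 := Submodule.finrank_le (LinearMap.range L)
      rw [Module.finrank_self] at h3
      rw [hp.rank₁] at h1
      obtain ⟨y, hy, hy0⟩ := (Submodule.ne_bot_iff _).1 (show LinearMap.ker L ≠ ⊥ from fun hb => by
        rw [hb, finrank_bot] at h1; omega)
      exact ⟨y, y.2, fun e => hy0 (Subtype.ext e), hy⟩
    have hnb : ∀ z, z ∈ L₀ → z ∈ L₁ → z = 0 := fun z => Submodule.disjoint_def.1 hp.compl.disjoint z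
    have hpure : ∀ z, (z ∈ L₀ ∨ z ∈ L₁) → (g : V ≃ₗ[F] V) z ∈ L₀ ∨ (g : V ≃ₗ[F] V) z ∈ L₁ := by
      intro z hz
      by_cases hz0 : z = 0
      · rw [hz0, map_zero]; exact Or.inl L₀.zero_mem
      rcases hz with hz | hz
      · obtain ⟨y, hy, hy0, hzy⟩ := horth L₀ L₁ hp z hz
        exact (hpure' z hz y hy hz0 hy0 hzy).1
      · obtain ⟨y, hy, hy0, hzy⟩ := horth L₁ L₀ hp.symm z hz
        exact (hpure' y hy z hz hy0 hz0 (h.eq_zero_symm hzy)).2
    have himg : ∀ A : Submodule F V, (∀ z ∈ A, z ∈ L₀ ∨ z ∈ L₁) →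
        (∀ z ∈ A, (g : V ≃ₗ[F] V) z ∈ L₀) ∨ ∀ z ∈ A, (g : V ≃ₗ[F] V) z ∈ L₁ := by
      intro A hA'
      by_contra! hh
      obtain ⟨⟨p, hp', hp''⟩, ⟨q, hq, hq'⟩⟩ := hh
      have hp1 := (hpure p (hA' p hp')).resolve_left hp''
      have hq0 := (hpure q (hA' q hq)).resolve_right hq'
      rcases hpure (p + q) (hA' _ (A.add_mem hp' hq)) with e | e <;> rw [map_add] at e
      · exact hp'' (by simpa using L₀.sub_mem e hq0)
      · exact hq' (by simpa using L₁.sub_mem e hp1)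
    have hexcl : ∀ A : Submodule F V, A ≠ ⊤ → (∀ z ∈ L₀, (g : V ≃ₗ[F] V) z ∈ A) →
        (∀ z ∈ L₁, (g : V ≃ₗ[F] V) z ∈ A) → False := by
      intro A hAt hA0 hA1
      refine hAt (eq_top_iff.2 fun v _ => ?_)
      obtain ⟨v', rfl⟩ := (g : V ≃ₗ[F] V).surjective v
      obtain ⟨p, hp', q, hq, rfl⟩ := Submodule.mem_sup.1 (hp.compl.sup_eq_top.ge (Submodule.mem_top : v' ∈ ⊤))
      rw [map_add]
      exact A.add_mem (hA0 p hp') (hA1 q hq)
    have hne : ∀ A A' : Submodule F V, IsPair B 2 A A' → A ≠ ⊤ := fun A A' hp e => by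
      have h5 := hp.compl.disjoint
      rw [e, top_disjoint] at h5
      have := hp.rank₁
      rw [h5, finrank_bot] at this
      omega
    rcases himg L₀ (fun z hz => Or.inl hz) with e | e <;> rcases himg L₁ (fun z hz => Or.inr hz) with e' | e'
    · exact absurd e' fun e' => hexcl L₀ (hne L₀ L₁ hp) e e'
    · exact Or.inl ⟨e, e'⟩
    · exact Or.inr ⟨e, e'⟩
    · exact absurd e' fun e' => hexcl L₁ (hne L₁ L₀ hp.symm) e e'
  -- all of `L₀`
  have hL₀ : ∀ x ∈ L₀, HasTr h K x := by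
    intro x hx
    by_cases hdep : u ∈ Submodule.span F {x}
    · obtain ⟨k, hk⟩ := Submodule.mem_span_singleton.1 hdep
      have hk0 : k ≠ 0 := fun e => hu0 (by rw [← hk, e, zero_smul])
      refine HasTr.of_smul h hk0 ?_
      rw [hk]
      exact hut
    by_cases hx0 : x = 0
    · subst hx0
      intro hvv c hc
      convert K.one_mem using 1
      ext y
      simp [IsHerm.tr_apply]
    have hnot : (⟨u, hu⟩ : L₀) ∉ Submodule.span F {(⟨x, hx⟩ : L₀) - ⟨u, hu⟩} := by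
      intro hh
      obtain ⟨k, hk⟩ := Submodule.mem_span_singleton.1 hh
      have hk' : k • (x - u) = u := congrArg Subtype.val hk
      rw [smul_sub, sub_eq_iff_eq_add] at hk'
      by_cases hk1 : 1 + k = 0
      · rw [show u + k • u = (1 + k) • u from by rw [add_smul, one_smul], hk1, zero_smul, smul_eq_zero] at hk'
        rcases hk' with e | e
        · rw [e, add_zero] at hk1
          exact one_ne_zero hk1
        · exact hx0 e
      · refine hdep (Submodule.mem_span_singleton.2 ⟨(1 + k)⁻¹ * k, ?_⟩)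
        rw [mul_smul, hk', show u + k • u = (1 + k) • u from by rw [add_smul, one_smul], inv_smul_smul₀ hk1]
    obtain ⟨ψ, hψ, hψ'⟩ := Submodule.exists_dual_map_eq_bot_of_notMem hnot inferInstance
    have hψ0 : ψ ((⟨x, hx⟩ : L₀) - ⟨u, hu⟩) = 0 :=
      (Submodule.mem_bot F).1 (hψ' ▸ ⟨_, Submodule.mem_span_singleton_self _, rfl⟩)
    obtain ⟨w, hw⟩ := exists_dual h hp ((ψ ⟨u, hu⟩)⁻¹ • ψ)
    have hwd : B (w : V) (x - u) = 0 := by
      have := hw (⟨x, hx⟩ - ⟨u, hu⟩)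
      rwa [LinearMap.smul_apply, hψ0, smul_zero] at this
    have hwu : B (w : V) u = 1 := by
      rw [hw ⟨u, hu⟩, LinearMap.smul_apply, smul_eq_mul, inv_mul_cancel₀ hψ]
    have hxu := L₀.sub_mem hx hu
    have := hut.conj h (hK _ (sg_det h _ _ _ _) (sg_pres h hp hxu w.2 (h.eq_zero_symm hwd) 1))
    rw [sg_apply, hwu, hp.iso₀ _ hxu u hu, mul_one, one_smul, mul_zero, zero_smul, sub_zero, add_sub_cancel] at this
    exact this
  have hL₁ : ∀ x ∈ L₁, HasTr h K x := by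
    intro x hx
    have := (hL₀ _ (hsw₁ x hx)).conj h (K.inv_mem hswK)
    simpa using this
  have hadd : ∀ v w, HasTr h K v → HasTr h K w → B w w = 0 → B v w ≠ 0 → B v w + σ (B v w) = 0 →
      HasTr h K (v + w) := by
    intro v w hv hw hww hne ht
    have hwv : B w v ≠ 0 := fun e => hne (h.eq_zero_symm e)
    have hc : (B w v)⁻¹ + σ (B w v)⁻¹ = 0 := by
      rw [map_inv₀, h.symm, show B w v = σ (B v w) from (h.symm v w).symm, eq_neg_of_add_eq_zero_right ht,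
        inv_neg, neg_add_cancel]
    have := hv.conj h (hw hww _ hc)
    rwa [IsHerm.tr_apply, inv_mul_cancel₀ hwv, one_smul] at this
  refine le_of_hasTr h ?_ fun v hvv c hc => ?_
  · have := Submodule.finrank_add_eq_of_isCompl hp.compl
    rw [hp.rank₀, hp.rank₁] at this
    omega
  obtain ⟨p, hp', q, hq, rfl⟩ := Submodule.mem_sup.1 (hp.compl.sup_eq_top.ge (Submodule.mem_top : v ∈ ⊤))
  have htr : B p q + σ (B p q) = 0 := by
    have e := hvv
    simp only [map_add, LinearMap.add_apply, hp.iso₀ p hp' p hp', hp.iso₁ q hq q hq, zero_add, add_zero] at e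
    rw [← h.symm p q, add_comm] at e
    exact e
  suffices hh : HasTr h K (p + q) from hh hvv c hc
  by_cases hpq : B p q = 0
  · by_cases hp0 : p = 0
    · rw [hp0, zero_add]; exact hL₁ q hq
    obtain ⟨y₀, hy₀, hy₀'⟩ : ∃ y ∈ L₁, B p y ≠ 0 := by
      by_contra! hc'
      exact hp0 (eq_zero_of_perp h hp hp' hc')
    obtain ⟨θ, hθ0, hθ⟩ := h.exists_skew
    set y := (θ / B p y₀) • y₀ with hy_def
    have hy : y ∈ L₁ := L₁.smul_mem _ hy₀
    have hpy : B p y = θ := by rw [hy_def, smul_right, div_mul_cancel₀ _ hy₀']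
    have hqy : q - y ∈ L₁ := L₁.sub_mem hq hy
    have h1 := hadd p y (hL₀ p hp') (hL₁ y hy) (hp.iso₁ y hy y hy) (by rw [hpy]; exact hθ0) (by rw [hpy]; exact hθ)
    have hval : B (p + y) (q - y) = -θ := by
      rw [map_add, LinearMap.add_apply, map_sub, map_sub, hpq, hp.iso₁ y hy q hq, hp.iso₁ y hy y hy, hpy,
        zero_sub, sub_zero, add_zero]
    have h2 := hadd (p + y) (q - y) h1 (hL₁ _ hqy) (hp.iso₁ _ hqy _ hqy) (by rw [hval]; exact neg_ne_zero.2 hθ0)
      (by rw [hval, map_neg, ← neg_add, hθ, neg_zero])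
    rwa [show p + y + (q - y) = p + q by abel] at h2
  · exact hadd p q (hL₀ p hp') (hL₁ q hq) (hp.iso₁ q hq q hq) hpq htr

theorem exists_not_pres_two [Finite F] (hp : IsPair B 2 L₀ L₁) :
    ∃ g ∈ HSU B, ¬ Pres L₀ L₁ g := by
  obtain ⟨θ, hθ0, hθ⟩ := h.exists_skew
  obtain ⟨u, hu, hu0⟩ := (Submodule.ne_bot_iff _).1 (show L₀ ≠ ⊥ from fun hb => by
    have := hp.rank₀
    rw [hb, finrank_bot] at this
    omega)
  obtain ⟨y₀, hy₀, hy₀'⟩ : ∃ y ∈ L₁, B u y ≠ 0 := by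
    by_contra! hc'
    exact hu0 (eq_zero_of_perp h hp hu hc')
  set y := (θ / B u y₀) • y₀ with hy_def
  have hy : y ∈ L₁ := L₁.smul_mem _ hy₀
  have huy : B u y = θ := by rw [hy_def, smul_right, div_mul_cancel₀ _ hy₀']
  have hyu : B y u = σ θ := by rw [← h.symm, huy]
  have hvv : B (u + y) (u + y) = 0 := by
    simp only [map_add, LinearMap.add_apply, hp.iso₀ u hu u hu, hp.iso₁ y hy y hy, huy, hyu]
    linear_combination hθ
  obtain ⟨x, hx, hx0, hyx⟩ : ∃ x ∈ L₀, x ≠ 0 ∧ B y x = 0 := by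
    let L : L₀ →ₗ[F] F := (B y).domRestrict L₀
    have h1 := LinearMap.finrank_range_add_finrank_ker L
    have h3 := Submodule.finrank_le (LinearMap.range L)
    rw [Module.finrank_self] at h3
    rw [hp.rank₀] at h1
    obtain ⟨x, hx, hx0⟩ := (Submodule.ne_bot_iff _).1 (show LinearMap.ker L ≠ ⊥ from fun hb => by
      rw [hb, finrank_bot] at h1; omega)
    exact ⟨x, x.2, fun e => hx0 (Subtype.ext e), hx⟩
  refine ⟨h.tr hvv hθ, h.det_tr hvv hθ, fun hP => ?_⟩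
  have hfx : (h.tr hvv hθ : V ≃ₗ[F] V) x = x := h.tr_fix hvv hθ (by
    rw [map_add, LinearMap.add_apply, hp.iso₀ u hu x hx, hyx, add_zero])
  have himg : (h.tr hvv hθ : V ≃ₗ[F] V) u = u + (θ * σ θ) • (u + y) := by
    rw [IsHerm.tr_apply, map_add, LinearMap.add_apply, hp.iso₀ u hu u hu, hyu, zero_add]
  rcases hP with ⟨e, -⟩ | ⟨e, -⟩
  · have := e u hu
    rw [himg, L₀.add_mem_iff_right hu, L₀.smul_mem_iff (mul_ne_zero hθ0 fun e => hθ0 (IsInvol.apply_eq_zero_iff.1 e)),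
      L₀.add_mem_iff_right hu] at this
    rw [hp.iso₀ u hu y this] at huy
    exact hθ0 huy.symm
  · have := e x hx
    rw [hfx] at this
    exact hx0 (Submodule.disjoint_def.1 hp.compl.disjoint x hx this)

end CfsgLib.Geo.SUFour

namespace CfsgLib.Geo.SUFour

open Matrix CfsgLib.Classical CfsgLib.Classical.Herm CfsgLib.Geo.UnitPair

variable {F : Type*} [Field F] [Fintype F]

/-- Matrix form of the maximality of the stabiliser of a totally isotropic pair in SU. -/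
theorem isMaximalIn_isoPair {q : ℕ} (hF : Fintype.card F = q ^ 2) (hq : 4 ≤ q)
    {D : Fin 2 → Submodule F (Fin 4 → F)} (hD : Cfsg.Geo.IsMDecomposition 2 D)
    (hts : ∀ i, Cfsg.Geo.IsTotallySingularFor (Cfsg.hermForm 4 F q) (D i)) :
    Cfsg.Geo.IsMaximalIn (Cfsg.GU 4 F q ⊓ Cfsg.Geo.specialLinear (Fin 4) F)
      (Cfsg.Geo.decompositionStabilizer D ⊓ (Cfsg.GU 4 F q ⊓ Cfsg.Geo.specialLinear (Fin 4) F)) := by
  have h := hermStd_isHerm (n := 4) hF
  have hd := hD.finrank_eq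
  have hp : IsPair (hermStd 4 hF) 2 (D 0) (D 1) := by
    refine ⟨⟨hD.indep.pairwiseDisjoint (show (0 : Fin 2) ≠ 1 by decide), codisjoint_iff.2 ?_⟩, hd 0, hd 1,
      fun x hx y hy => hts 0 y hy x hx, fun x hx y hy => hts 1 y hy x hx⟩
    rw [eq_top_iff, ← hD.iSup_eq_top]
    refine iSup_le fun i => ?_
    fin_cases i
    · exact le_sup_left
    · exact le_sup_right
  let e := guEquiv 4 hF
  have hS : ∀ g : Cfsg.GU 4 F q, (g : GL (Fin 4) F) ∈ Cfsg.Geo.specialLinear (Fin 4) F ↔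
      e g ∈ HSU (hermStd 4 hF) := by
    intro g
    rw [MonoidHom.mem_ker, Units.ext_iff]
    show Matrix.GeneralLinearGroup.det (g : GL (Fin 4) F) = 1 ↔ _
    rw [Units.ext_iff, guEquiv_det]
    rfl
  have hin : ∀ g : Cfsg.GU 4 F q, (g : GL (Fin 4) F) ∈
      Cfsg.Geo.decompositionStabilizer D ↔ Pres (D 0) (D 1) (e g) := by
    intro g
    constructor
    · rintro ⟨τ, hτ⟩
      have hmaps : ∀ i, ∀ x ∈ D i, (e g : (Fin 4 → F) ≃ₗ[F] (Fin 4 → F)) x ∈ D (τ i) :=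
        fun i x hx => by rw [guEquiv_apply, ← hτ i]; exact ⟨x, hx, Matrix.toLin'_apply _ _⟩
      have h01 : τ 0 ≠ τ 1 := fun h => by simpa using τ.injective h
      obtain ⟨a, ha⟩ : ∃ a, τ 0 = a := ⟨_, rfl⟩
      obtain ⟨c, hc⟩ : ∃ c, τ 1 = c := ⟨_, rfl⟩
      fin_cases a <;> fin_cases c <;> simp only [Fin.zero_eta, Fin.mk_one] at ha hc
      · exact absurd (ha.trans hc.symm) h01
      · exact Or.inl ⟨fun x hx => ha ▸ hmaps 0 x hx, fun x hx => hc ▸ hmaps 1 x hx⟩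
      · exact Or.inr ⟨fun x hx => ha ▸ hmaps 0 x hx, fun x hx => hc ▸ hmaps 1 x hx⟩
      · exact absurd (ha.trans hc.symm) h01
    · intro hP
      have hinj : Function.Injective (Matrix.toLin' ((g : GL (Fin 4) F) : Matrix (Fin 4) (Fin 4) F)) := fun x y hxy =>
        (e g : (Fin 4 → F) ≃ₗ[F] (Fin 4 → F)).injective (by
          rw [guEquiv_apply, guEquiv_apply]
          simpa only [Matrix.toLin'_apply] using hxy)
      have hmap : ∀ i j, (∀ x ∈ D i, (e g : (Fin 4 → F) ≃ₗ[F] (Fin 4 → F)) x ∈ D j) →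
          (D i).map (Matrix.toLin' ((g : GL (Fin 4) F) : Matrix (Fin 4) (Fin 4) F)) = D j := fun i j hij => by
        refine Submodule.eq_of_le_of_finrank_eq ?_ ?_
        · rintro _ ⟨x, hx, rfl⟩
          rw [Matrix.toLin'_apply, ← guEquiv_apply hF]
          exact hij x hx
        · rw [hd, ← (Submodule.equivMapOfInjective _ hinj _).finrank_eq, hd]
      rcases hP with ⟨h0, h1⟩ | ⟨h0, h1⟩
      · exact ⟨1, fun i => hmap i _ (by fin_cases i <;> assumption)⟩
      · exact ⟨Equiv.swap 0 1, fun i => hmap i _ (by fin_cases i <;> simpa using (by assumption))⟩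
  refine ⟨lt_of_le_of_ne inf_le_right fun heq => ?_, fun M hM hMS => ?_⟩
  · obtain ⟨t, htS, htP⟩ := exists_not_pres_two h hp
    obtain ⟨g, rfl⟩ := e.surjective t
    exact htP ((hin g).1 (heq.ge ⟨g.2, (hS g).2 htS⟩).1)
  refine (eq_or_lt_of_le hM).imp Eq.symm fun hlt => le_antisymm hMS ?_
  obtain ⟨g, hgM, hgn⟩ := SetLike.exists_of_lt hlt
  have hfull := le_of_pair_two h (by rw [fixed_card hF]; exact hq) hp (K := (M.subgroupOf (Cfsg.GU 4 F q)).map e.toMonoidHom)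
    (fun p hpS hpp => ⟨e.symm p, hM ⟨(hin _).2 (by rw [MulEquiv.apply_symm_apply]; exact hpp), (e.symm p).2,
      (hS _).2 (by rw [MulEquiv.apply_symm_apply]; exact hpS)⟩, MulEquiv.apply_symm_apply e p⟩)
    (g := e ⟨g, (hMS hgM).1⟩) ⟨⟨g, (hMS hgM).1⟩, hgM, rfl⟩
    (fun hpp => hgn ⟨(hin ⟨g, (hMS hgM).1⟩).2 hpp, hMS hgM⟩)
  intro x hx
  obtain ⟨y, hy, hye⟩ := hfull ((hS ⟨x, hx.1⟩).1 hx.2)
  have : y = ⟨x, hx.1⟩ := e.injective hye
  subst this
  exact hy

end CfsgLib.Geo.SUFour
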