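import Cfsg.Agent.Lib.Geo.SUFour.Descent
import Cfsg.Agent.Lib.Geo.SUFour.FrameThree
import Cfsg.Agent.Lib.Geo.SLFour.PauliCoord
import Cfsg.Agent.Lib.Geo.OrthSubfieldGL

/-!
# The normaliser of a two-group of symplectic type is maximal in `SU₄(p)`
-/

set_option autoImplicit false
set_option maxHeartbeats 1600000

namespace CfsgLib.Geo.SUFour

open Matrix Cfsg.Geo
open CfsgLib.Classical CfsgLib.Classical.Quad
open CfsgLib.Geo.Frame (fQ ee flipO permO IsMon MonBy dO)
open CfsgLib.Geo.SLFour.Klein (E6 kLin kap uS gS pu pg pauliR stA stB stC stD)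

variable {F : Type*} [Field F] [Fintype F] {p : ℕ} [Fact p.Prime] [CharP F p]

local notation "M4" => Matrix (Fin 4) (Fin 4) F
local notation "G4" => GL (Fin 4) F

section Std

variable (hF : Fintype.card F = p ^ 2) {i : F} (hi : i * i = -1) (h2 : (2 : F) ≠ 0) (hip : i ^ p = -i)
include hF hip

theorem uS_mem (k : Fin 5) : (uS hi k : G4) ∈ SUg 4 F p := by
  obtain ⟨σ, hq⟩ := CfsgLib.Geo.Asch.exists_isQPow (F := F) hF
  have hσi : σ i = -i := by rw [hq.eq_pow, hip]
  refine ⟨CfsgLib.Geo.Asch.mem_GU_of_mul hq ?_, (uS hi k).2⟩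
  show (pu i k)ᵀ * (pu i k).map σ = 1
  ext a b
  fin_cases k <;> fin_cases a <;> fin_cases b <;>
    simp [pu, Matrix.mul_apply, Fin.sum_univ_succ, hσi, hi]

theorem gS_mem (k : Fin 4) : (gS hi h2 k : G4) ∈ SUg 4 F p := by
  obtain ⟨σ, hq⟩ := CfsgLib.Geo.Asch.exists_isQPow (F := F) hF
  have hσi : σ i = -i := by rw [hq.eq_pow, hip]
  have hσ2 : σ 2 = 2 := map_ofNat σ 2
  refine ⟨CfsgLib.Geo.Asch.mem_GU_of_mul hq ?_, (gS hi h2 k).2⟩
  show (pg i k)ᵀ * (pg i k).map σ = 1
  have p2 : i ^ 2 = -1 := by rw [pow_two, hi]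
  ext a b
  fin_cases k <;> fin_cases a <;> fin_cases b <;>
    simp [pg, Matrix.mul_apply, Fin.sum_univ_succ, hσi, hσ2] <;>
    (try field_simp) <;> (try ring_nf) <;> (try simp [p2]) <;> (try ring_nf)

omit [Fintype F] hF hip in
theorem cast_two_ne {p : ℕ} [CharP F p] (h2 : (2 : F) ≠ 0) : (2 : ZMod p) ≠ 0 := fun e => h2 (by
  rw [← map_ofNat (ZMod.castHom (dvd_refl p) F) 2, e, map_zero])

include h2 in
/-- The normaliser of the standard group is maximal. -/
theorem isMaximalIn_std (h4 : p % 4 = 3) (hne : ¬ SUg 4 F p ≤ subgroupNormalizer (pauliR hi)) :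
    Cfsg.Geo.IsMaximalIn (SUg 4 F p) (subgroupNormalizer (pauliR hi) ⊓ SUg 4 F p) := by
  classical
  have h2' : (2 : ZMod p) ≠ 0 := cast_two_ne h2
  refine ⟨lt_of_le_of_ne inf_le_right fun e => hne (e.ge.trans inf_le_left), fun M hM hMS => ?_⟩
  set K := (M.subgroupOf (SUg 4 F p)).map (rho hF hi h2 hip) with hK
  set ρ := rho hF hi h2 hip with hρ
  -- monomial elements
  have hmon : ∀ g : SUg 4 F p, IsMon (kap hi h2 (toSS g)) → (g : G4) ∈ M := fun g hg =>
    hM ⟨SLFour.Klein.mem_normalizer_of_mon hi h2 (g := toSS g) hg, g.2⟩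
  have hdet : ∀ x ∈ K, dO x = 1 := by
    rintro _ ⟨g, -, rfl⟩
    have h := rho_mem_eichGroup hF hi h2 hip g h2'
    rw [eichGroup_eq_commutator _ (by simp)] at h
    exact MonoidHom.mem_ker.1 (Abelianization.commutator_subset_ker dO h)
  -- preimages of pair flips
  have hflipS : ∀ a b : Fin 6, a ≠ b → ∃ g : SUg 4 F p, (g : G4) ∈ M ∧
      ρ g = flipO (1 : Fin 6 → ZMod p) {a, b} := by
    intro a b hab
    obtain ⟨w, hw, e⟩ := SLFour.Klein.exists_pre_flip hi h2 hab
    have key : ∀ x ∈ Subgroup.closure (Set.range (uS hi)), (x : G4) ∈ SUg 4 F p := fun x hx => by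
      induction hx using Subgroup.closure_induction with
      | mem y hy =>
        obtain ⟨k, rfl⟩ := hy
        exact uS_mem hF hi hip k
      | one => exact (SUg 4 F p).one_mem
      | mul x y _ _ hx hy => exact (SUg 4 F p).mul_mem hx hy
      | inv x _ hx => exact (SUg 4 F p).inv_mem hx
    have hwS : (w : G4) ∈ SUg 4 F p := key w hw
    refine ⟨⟨w, hwS⟩, hmon _ ?_, Frame.eq_of_smul_ee fun c => lift6_injective (F := F) ?_⟩
    · show IsMon (kap hi h2 w)
      rw [e]; exact Frame.isMon_flip _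
    · rw [hρ, rho_spec]
      show kap hi h2 w • lift6 (ee c) = _
      rw [e, lift6_ee]
      by_cases hc : c ∈ ({a, b} : Finset (Fin 6))
      · rw [Frame.flipO_ee_mem hc, Frame.flipO_ee_mem hc, lift6_neg, lift6_ee]
      · rw [Frame.flipO_ee_notMem hc, Frame.flipO_ee_notMem hc, lift6_ee]
  have hpairK : ∀ a b : Fin 6, a ≠ b → flipO (1 : Fin 6 → ZMod p) {a, b} ∈ K := fun a b hab => by
    obtain ⟨g, hg, e⟩ := hflipS a b hab
    rw [← e]
    exact Subgroup.mem_map_of_mem _ (Subgroup.mem_subgroupOf.2 hg)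
  -- the group over the large field
  set KF := (M.subgroupOf (SUg 4 F p)).map ((kap hi h2).comp
    ((SUg 4 F p).subtype.codRestrict (specialLinear (Fin 4) F) fun g => g.2.2)) with hKF
  have memKF : ∀ g : SUg 4 F p, (g : G4) ∈ M → kap hi h2 (toSS g) ∈ KF := fun g hg =>
    ⟨g, Subgroup.mem_subgroupOf.2 hg, rfl⟩
  have hpairF : ∀ a b : Fin 6, a ≠ b → flipO (1 : Fin 6 → F) {a, b} ∈ KF := fun a b hab => by
    obtain ⟨g, hg, e⟩ := hflipS a b hab
    convert memKF g hg using 1
    refine Frame.eq_of_smul_ee fun c => ?_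
    rw [← lift6_ee (F := F) (p := p) c, ← rho_spec hF hi h2 hip, ← hρ, e, lift6_ee]
    by_cases hc : c ∈ ({a, b} : Finset (Fin 6))
    · rw [Frame.flipO_ee_mem hc, Frame.flipO_ee_mem hc, lift6_neg, lift6_ee]
    · rw [Frame.flipO_ee_notMem hc, Frame.flipO_ee_notMem hc, lift6_ee]
  have hflipF : ∀ T : Finset (Fin 6), Even T.card → flipO (1 : Fin 6 → F) T ∈ KF := by
    intro T
    induction T using Finset.strongInduction with
    | H T ih =>
      intro hT
      rcases T.eq_empty_or_nonempty with rfl | ⟨a, ha⟩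
      · rw [Frame.flipO_empty]; exact one_mem KF
      obtain ⟨b, hb⟩ : (T.erase a).Nonempty := by
        rw [← Finset.card_pos, Finset.card_erase_of_mem ha]
        have := Finset.card_pos.2 ⟨a, ha⟩
        obtain ⟨k, hk⟩ := hT
        omega
      have hab : b ≠ a := (Finset.mem_erase.1 hb).1
      have hbT : b ∈ T := (Finset.mem_erase.1 hb).2
      have hcard : Even ((T.erase a).erase b).card := by
        rw [Finset.card_erase_of_mem hb, Finset.card_erase_of_mem ha]
        obtain ⟨k, hk⟩ := hT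
        exact ⟨k - 1, by omega⟩
      have := mul_mem (hpairF a b hab.symm)
        (ih _ ((Finset.erase_subset _ _).trans_ssubset (Finset.erase_ssubset ha)) hcard)
      rw [Frame.flipO_mul] at this
      convert this using 2
      ext l
      simp only [Finset.mem_symmDiff, Finset.mem_insert, Finset.mem_singleton, Finset.mem_erase]
      by_cases la : l = a <;> by_cases lb : l = b <;> simp [la, lb, ha, hbT, hab, hab.symm]
  have hgenF : ∀ k, kap hi h2 (gS hi h2 k) ∈ KF := fun k =>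
    memKF ⟨gS hi h2 k, gS_mem hF hi h2 hip k⟩ (hmon _ ⟨_, SLFour.Klein.monBy_gS hi h2 k⟩)
  have hdetF : ∀ x ∈ KF, dO x = 1 := by
    rintro _ ⟨g, -, rfl⟩
    exact SLFour.Klein.dO_kap hi h2 _
  have hperm : ∀ π : Equiv.Perm (Fin 6), Equiv.Perm.sign π = 1 → permO (ZMod p) π ∈ K := by
    intro π hπ
    obtain ⟨g, hg, e⟩ := SLFour.Klein.perm_mem hi h2 hflipF hdetF hgenF π hπ
    refine ⟨g, hg, Frame.eq_of_smul_ee fun c => lift6_injective (F := F) ?_⟩
    rw [rho_spec, show kap hi h2 (toSS g) = permO F π from e, Frame.permO_ee, lift6_ee, lift6_ee, Frame.permO_ee]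
  have hfr : Frame.IsFrame K := ⟨hperm, fun a b hab => by
    rw [Frame.flipO_mul, show symmDiff ({a} : Finset (Fin 6)) {b} = {a, b} by
      ext l
      simp only [Finset.mem_symmDiff, Finset.mem_insert, Finset.mem_singleton]
      constructor
      · rintro (⟨h, -⟩ | ⟨h, -⟩) <;> simp [h]
      · rintro (rfl | rfl)
        exacts [Or.inl ⟨rfl, hab⟩, Or.inr ⟨rfl, hab.symm⟩]]
    exact hpairK a b hab⟩
  have hneg : (-1 : G4) ∈ M := by
    refine hM ⟨Subgroup.le_normalizer (Subgroup.mem_sup_right (SympNorm.neg_mem_scalars (one_mem _))), ?_, ?_⟩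
    · obtain ⟨σ, hq⟩ := CfsgLib.Geo.Asch.exists_isQPow (F := F) hF
      refine CfsgLib.Geo.Asch.mem_GU_of_mul hq ?_
      rw [Units.val_neg, Units.val_one, Matrix.transpose_neg, Matrix.transpose_one,
        show (-1 : M4).map σ = -1 from by ext a b; by_cases h : a = b <;> simp [h, Matrix.one_apply]]
      simp
    · exact MonoidHom.mem_ker.2 (Units.ext (by simp [Matrix.det_neg, Even.neg_one_pow (⟨2, rfl⟩ : Even 4)]))
  by_cases hle : eichGroup (Frame.fQ_nondegenerate (F := ZMod p) (ι := Fin 6) h2') ≤ K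
  · refine Or.inr (le_antisymm hMS fun g hg => ?_)
    obtain ⟨m, hm, e⟩ := Subgroup.mem_map.1 (hle (rho_mem_eichGroup hF hi h2 hip ⟨g, hg⟩ h2'))
    have hm' : (m : G4) ∈ M := Subgroup.mem_subgroupOf.1 hm
    rcases SLFour.Klein.eq_or_eq_neg_of_kap hi h2 (kap_eq_of_rho hF hi h2 hip e.symm) with h | h
    · exact (show g = (m : G4) from h) ▸ hm'
    · rw [show g = -(m : G4) from h, ← neg_one_mul]; exact mul_mem hneg hm'
  · refine Or.inl (le_antisymm (fun g hg => ⟨?_, hMS hg⟩) hM)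
    have hk : ρ ⟨g, hMS hg⟩ ∈ K := Subgroup.mem_map_of_mem _ (Subgroup.mem_subgroupOf.2 hg)
    have hn6 : IsMon (ρ ⟨g, hMS hg⟩) := by
      by_cases h5 : 5 ≤ p
      · exact Frame.mon_six hfr (ZMod.card p) h5 h2' (Fintype.card_fin 6) hdet hle _ hk
      · obtain rfl : p = 3 := by
          have := (Fact.out : p.Prime).two_le
          omega
        exact FrameThree.mon_six hfr hle _ hk
    exact SLFour.Klein.mem_normalizer_of_mon hi h2 (g := ⟨g, (hMS hg).2⟩)
      ((isMon_iff hF hi h2 hip ⟨g, hMS hg⟩).1 hn6)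

end Std

/-- `SU` does not normalise the group. -/
theorem not_le_normalizer (hF : Fintype.card F = p ^ 2) (hodd : Odd p) {R : Subgroup G4}
    (h : Pauli.IsPauli R) : ¬ SUg 4 F p ≤ subgroupNormalizer R := by
  intro hle
  have hB := Herm.hermStd_isHerm (n := 4) hF
  obtain ⟨u, hu0, huu⟩ := hB.exists_isotropic (by simp)
  obtain ⟨c, hc0, hc⟩ := hB.exists_skew
  obtain ⟨g, hg⟩ : ∃ g, g = (Herm.guEquiv 4 hF).symm (hB.tr huu hc) := ⟨_, rfl⟩
  set φ : Fin 4 → F := fun l => c * u l ^ p with hφ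
  have happ : ∀ y, ((g : G4) : M4) *ᵥ y = y + (φ ⬝ᵥ y) • u := fun y => by
    rw [← Herm.guEquiv_apply hF, hg, MulEquiv.apply_symm_apply, hB.tr_apply, Herm.hermStd_apply]
    congr 2
    simp only [Cfsg.hermForm, dotProduct, hφ, Finset.mul_sum]
    exact Finset.sum_congr rfl fun l _ => by ring
  have hval : ((g : G4) : M4) = 1 + vecMulVec u φ := by
    refine Matrix.toLin'.injective (LinearMap.ext fun y => ?_)
    rw [Matrix.toLin'_apply, Matrix.toLin'_apply, happ, Matrix.add_mulVec, Matrix.one_mulVec,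
      Matrix.vecMulVec_mulVec, op_smul_eq_smul]
  have hS : (g : G4) ∈ SUg 4 F p := by
    refine ⟨g.2, MonoidHom.mem_ker.2 (Units.ext ?_)⟩
    rw [Matrix.GeneralLinearGroup.val_det_apply, ← Herm.guEquiv_det hF, hg, MulEquiv.apply_symm_apply, hB.det_tr]
  have hperp : φ ⬝ᵥ u = 0 := by
    have : c * Herm.hermStd 4 hF u u = 0 := by rw [huu, mul_zero]
    rw [Herm.hermStd_apply] at this
    rw [← this]
    simp only [Cfsg.hermForm, dotProduct, hφ, Finset.mul_sum]
    exact Finset.sum_congr rfl fun l _ => by ring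
  have hpow : ∀ k : ℕ, ((g : G4) : M4) ^ k = 1 + (k : F) • vecMulVec u φ := by
    intro k
    induction k with
    | zero => simp
    | succ k ih =>
      rw [pow_succ, ih, hval, add_mul, one_mul, smul_mul_assoc, mul_add, mul_one, vecMulVec_mul_vecMulVec, hperp,
        zero_smul, Nat.cast_succ, add_smul, one_smul]
      simp only [smul_add, show vecMulVec u (0 : Fin 4 → F) = 0 from by ext a b; simp [vecMulVec_apply], smul_zero,
        add_zero]
      abel
  have hgp : (g : G4) ^ p = 1 := Units.ext (by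
    rw [Units.val_pow_eq_pow_val, hpow, CharP.cast_eq_zero, zero_smul, add_zero, Units.val_one])
  have h1 := h.no_pseudo_reflection hodd (hle hS) hgp hval
  refine hu0 (hB.nondeg u fun y => ?_)
  have := happ y
  rw [h1, Units.val_one, Matrix.one_mulVec, left_eq_add, smul_eq_zero] at this
  have h0 := this.resolve_right hu0
  have : c * Herm.hermStd 4 hF u y = 0 := by
    rw [Herm.hermStd_apply, ← h0]
    simp only [Cfsg.hermForm, dotProduct, hφ, Finset.mul_sum]
    exact Finset.sum_congr rfl fun l _ => by ring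
  exact (mul_eq_zero.1 this).resolve_left hc0

/-- Unitary coordinates in which the group is the standard one. -/
theorem exists_coords (hF : Fintype.card F = p ^ 2) {i : F} (hi : i * i = -1) {R : Subgroup G4}
    (hR : R ≤ Cfsg.GU 4 F p) (h : Pauli.IsPauli R) (hZ : Nat.card (Subgroup.center R) = 4)
    (hsymp : SympNorm.IsSymp (R ⊔ scalars (Fin 4) F)) :
    ∃ P ∈ Cfsg.GU 4 F p, (pauliR hi).map (MulAut.conj P).toMonoidHom = R ⊔ scalars (Fin 4) F := by
  obtain ⟨z, hz, hzs, hzz⟩ := h.exists_i hZ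
  obtain ⟨f⟩ := h.exists_frame_scalar hz hzs hzz
  obtain ⟨a, ha⟩ : ∃ a, a = z * f.a₁ := ⟨_, rfl⟩
  obtain ⟨b, hb⟩ : ∃ b, b = z * f.b₁ := ⟨_, rfl⟩
  have hcz : ∀ x : G4, Commute z x := fun x => Pauli.scalar_comm hzs x
  have sq : ∀ x : G4, x * x = -1 → z * x * (z * x) = 1 := fun x hx => by
    rw [mul_assoc, ← mul_assoc x z, ← (hcz x).eq, mul_assoc z x x, hx, ← mul_assoc, hzz, neg_mul_neg, one_mul]
  have q : SLFour.Klein.Quad (R ⊔ scalars (Fin 4) F) a b f.a₂ f.b₂ :=
    { ma := ha ▸ Subgroup.mem_sup_left (mul_mem hz f.a₁R)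
      mb := hb ▸ Subgroup.mem_sup_left (mul_mem hz f.b₁R)
      mc := Subgroup.mem_sup_left f.a₂R
      md := Subgroup.mem_sup_left f.b₂R
      sa := by rw [ha]; exact sq _ f.a₁s
      sb := by rw [hb]; exact sq _ f.b₁s
      sc' := f.a₂s
      sd := f.b₂s
      ab := by
        rw [ha, hb]
        exact SympNorm.Ac.mul_left' (SympNorm.commute_scalar hzs _) (SympNorm.Ac.mul_right' (hcz f.a₁).symm f.ab₁)
      cd := f.ab₂
      ac := by rw [ha]; exact (hcz _).mul_left f.aa
      ad := by rw [ha]; exact (hcz _).mul_left f.ab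
      bc := by rw [hb]; exact (hcz _).mul_left f.ba
      bd := by rw [hb]; exact (hcz _).mul_left f.bb }
  obtain ⟨P, eA, eB, eC, eD⟩ := SLFour.Klein.exists_basis hsymp q
  have hmap := SLFour.Klein.pauliR_eq hi hsymp q eA eB eC eD
  obtain ⟨σ, hq⟩ := CfsgLib.Geo.Asch.exists_isQPow (F := F) hF
  set G : M4 := (P : M4)ᵀ * (P : M4).map σ with hG
  have hcomm : ∀ (x : G4) (S : M4), x ∈ Cfsg.GU 4 F p → (↑(P⁻¹ * x * P) : M4) = S → Sᵀ = S → S.map σ = S →
      S * S = 1 → S * G = G * S := by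
    intro x S hx hS hT hM hSS
    have e : (x : M4) * (P : M4) = (P : M4) * S := by
      rw [← hS, ← Units.val_mul, ← Units.val_mul]
      congr 1
      group
    have e1 : G = S * G * S := by
      calc G = (P : M4)ᵀ * ((x : M4)ᵀ * (x : M4).map σ) * (P : M4).map σ := by
            rw [Pauli.mul_map_of_mem hF hq hx, mul_one]
        _ = ((x : M4) * (P : M4))ᵀ * ((x : M4) * (P : M4)).map σ := by
            rw [transpose_mul, Matrix.map_mul]; simp only [Matrix.mul_assoc]
        _ = S * G * S := by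
            rw [e, transpose_mul, Matrix.map_mul, hT, hM, hG]; simp only [Matrix.mul_assoc]
    calc S * G = S * G * (S * S) := by rw [hSS, mul_one]
      _ = G * S := by rw [← Matrix.mul_assoc, ← e1]
  have ha' : a ∈ Cfsg.GU 4 F p := hR (ha ▸ mul_mem hz f.a₁R)
  have hb' : b ∈ Cfsg.GU 4 F p := hR (hb ▸ mul_mem hz f.b₁R)
  have cA := hcomm a stA ha' eA (by ext r s; fin_cases r <;> fin_cases s <;> simp [stA])
    (by ext r s; fin_cases r <;> fin_cases s <;> simp [stA])
    (by ext r s; fin_cases r <;> fin_cases s <;> simp [stA, Matrix.mul_apply, Fin.sum_univ_succ])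
  have cB := hcomm b stB hb' eB (by ext r s; fin_cases r <;> fin_cases s <;> simp [stB])
    (by ext r s; fin_cases r <;> fin_cases s <;> simp [stB])
    (by ext r s; fin_cases r <;> fin_cases s <;> simp [stB, Matrix.mul_apply, Fin.sum_univ_succ])
  have cC := hcomm _ stC (hR f.a₂R) eC (by ext r s; fin_cases r <;> fin_cases s <;> simp [stC])
    (by ext r s; fin_cases r <;> fin_cases s <;> simp [stC])
    (by ext r s; fin_cases r <;> fin_cases s <;> simp [stC, Matrix.mul_apply, Fin.sum_univ_succ])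
  have cD := hcomm _ stD (hR f.b₂R) eD (by ext r s; fin_cases r <;> fin_cases s <;> simp [stD])
    (by ext r s; fin_cases r <;> fin_cases s <;> simp [stD])
    (by ext r s; fin_cases r <;> fin_cases s <;> simp [stD, Matrix.mul_apply, Fin.sum_univ_succ])
  have q2 : ∀ t : F, t = -t → t = 0 := fun t e =>
    (mul_eq_zero.1 (show (2 : F) * t = 0 by linear_combination e)).resolve_left h.two
  have hdiag : ∀ r s : Fin 4, r ≠ s → G r s = 0 := fun r s hrs => by
    have h1 := congrFun (congrFun cA r) s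
    have h3 := congrFun (congrFun cC r) s
    fin_cases r <;> fin_cases s <;>
      simp [stA, stC, Matrix.mul_apply, Fin.sum_univ_succ] at hrs h1 h3 <;>
      first
        | exact q2 _ h1
        | exact q2 _ h3
        | exact q2 _ h1.symm
        | exact q2 _ h3.symm
  have b01 : G 0 0 = G 1 1 := by
    have := congrFun (congrFun cB 0) 1
    simpa [stB, Matrix.mul_apply, Fin.sum_univ_succ] using this.symm
  have b23 : G 2 2 = G 3 3 := by
    have := congrFun (congrFun cB 2) 3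
    simpa [stB, Matrix.mul_apply, Fin.sum_univ_succ] using this.symm
  have d02 : G 0 0 = G 2 2 := by
    have := congrFun (congrFun cD 0) 2
    simpa [stD, Matrix.mul_apply, Fin.sum_univ_succ] using this.symm
  have hGs : G = G 0 0 • (1 : M4) := by
    ext r s
    rcases eq_or_ne r s with rfl | hrs
    · fin_cases r <;> simp [← b01, ← d02, ← b23]
    · simp [hdiag r s hrs, Matrix.one_apply_ne hrs]
  have hl0 : G 0 0 ≠ 0 := fun e => by
    have hd : G.det ≠ 0 := by
      rw [hG, det_mul, det_transpose, ← RingEquiv.mapMatrix_apply, ← RingEquiv.map_det]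
      exact mul_ne_zero (P.isUnit.map Matrix.detMonoidHom).ne_zero
        ((map_ne_zero σ).2 (P.isUnit.map Matrix.detMonoidHom).ne_zero)
    rw [hGs, e, zero_smul, Matrix.det_zero] at hd
    exact hd rfl
  have hfix : σ (G 0 0) = G 0 0 := by
    simp only [hG, Matrix.mul_apply, Matrix.transpose_apply, Matrix.map_apply, map_sum, map_mul, hq.involutive]
    exact Finset.sum_congr rfl fun l _ => mul_comm _ _
  obtain ⟨μ, hμ⟩ := Pauli.exists_norm hF (c := (G 0 0)⁻¹) (by rw [inv_pow, ← hq.eq_pow, hfix]) (inv_ne_zero hl0)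
  have hμ0 : μ ≠ 0 := fun e => inv_ne_zero hl0 (by rw [← hμ, e, zero_pow (Nat.succ_ne_zero p)])
  refine ⟨SympNorm.sc μ hμ0 * P, CfsgLib.Geo.Asch.mem_GU_of_mul hq ?_, ?_⟩
  · show ((μ • (1 : M4)) * (P : M4))ᵀ * ((μ • (1 : M4)) * (P : M4)).map σ = 1
    rw [smul_mul_assoc, one_mul, transpose_smul, show (μ • (P : M4)).map σ = σ μ • (P : M4).map σ from by
      ext r s; simp, smul_mul_smul_comm, ← hG, hGs, smul_smul, hq.eq_pow, ← pow_succ', hμ,
      inv_mul_cancel₀ hl0, one_smul]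
  · rw [← hmap]
    ext x
    have e : ∀ y : G4, (MulAut.conj (SympNorm.sc μ hμ0 * P)).toMonoidHom y = (MulAut.conj P).toMonoidHom y :=
      fun y => by
        show SympNorm.sc μ hμ0 * P * y * (SympNorm.sc μ hμ0 * P)⁻¹ = P * y * P⁻¹
        rw [_root_.mul_inv_rev, show SympNorm.sc μ hμ0 * P * y * (P⁻¹ * (SympNorm.sc μ hμ0)⁻¹) =
            SympNorm.sc μ hμ0 * (P * y * P⁻¹) * (SympNorm.sc μ hμ0)⁻¹ by group,
          (SympNorm.commute_scalar (SympNorm.sc_mem μ hμ0) (P * y * P⁻¹)).eq, mul_inv_cancel_right]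
    simp only [Subgroup.mem_map, e]

/-- Maximality of the normaliser in `SU₄(p)`. -/
theorem isMaximalIn_sympType (hF : Fintype.card F = p ^ 2) (h4 : p % 4 = 3) (R : Subgroup G4)
    (hs : IsSymplecticTypeGroup 2 R) (hirr : ActsAbsolutelyIrreducibly (matrixSet R)) (hR : R ≤ Cfsg.GU 4 F p)
    (hcard : Nat.card R = 64) (hZ : Nat.card (Subgroup.center R) = 4) :
    Cfsg.Geo.IsMaximalIn (Cfsg.GU 4 F p ⊓ specialLinear (Fin 4) F)
      (subgroupNormalizer R ⊓ (Cfsg.GU 4 F p ⊓ specialLinear (Fin 4) F)) := by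
  classical
  have hp2 : p ≠ 2 := by omega
  have hodd : Odd p := Nat.odd_iff.2 (by omega)
  have h2 : (2 : F) ≠ 0 := Ring.two_ne_zero (by rw [ringChar.eq F p]; exact hp2)
  have h : Pauli.IsPauli R := Pauli.isPauli_of hp2 (Fintype.card_fin 4) hs hirr (by rw [hcard]) hZ
  obtain ⟨i, hi⟩ : ∃ i : F, i * i = -1 := by
    obtain ⟨i, hi⟩ : IsSquare (-1 : F) := FiniteField.isSquare_neg_one_iff.2 (by
      rw [hF, Nat.pow_mod, h4]; norm_num)
    exact ⟨i, hi.symm⟩
  have hip : i ^ p = -i := by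
    obtain ⟨k, hk⟩ : ∃ k, p = 4 * k + 3 := ⟨p / 4, by omega⟩
    have hi4 : i ^ 4 = 1 := by rw [show i ^ 4 = (i * i) * (i * i) by ring, hi]; ring
    rw [hk, pow_add, pow_mul, hi4, one_pow, one_mul, pow_succ, pow_two, hi, neg_one_mul]
  have hnF : (Fintype.card (Fin 4) : F) ≠ 0 := by
    rw [Fintype.card_fin, show ((4 : ℕ) : F) = 2 * 2 by norm_num]
    exact mul_ne_zero h2 h2
  have h2c : 2 ≤ Fintype.card (Fin 4) := by simp
  have hsymp := SympNorm.isSymp_of_type h2 hnF h2c ⟨i, hi⟩ hs hirr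
  have hN := SympNorm.normalizer_sup_scalars h2 h2c hs hirr hZ
  obtain ⟨P, hP, hmap⟩ := exists_coords hF hi hR h hZ hsymp
  have hNmap : (subgroupNormalizer (pauliR hi)).map (MulAut.conj P).toMonoidHom = subgroupNormalizer R := by
    rw [← hN, ← hmap]
    exact Subgroup.map_equiv_normalizer_eq _ (MulAut.conj P)
  have hconj : ∀ x : G4, ∀ g ∈ SUg 4 F p, x ∈ Cfsg.GU 4 F p → x * g * x⁻¹ ∈ SUg 4 F p := fun x g hg hx =>
    ⟨(Cfsg.GU 4 F p).mul_mem ((Cfsg.GU 4 F p).mul_mem hx hg.1) ((Cfsg.GU 4 F p).inv_mem hx), (MonoidHom.normal_ker _).conj_mem g hg.2 x⟩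
  have hS : (SUg 4 F p).map (MulAut.conj P).toMonoidHom = SUg 4 F p := by
    refine le_antisymm (Subgroup.map_le_iff_le_comap.2 fun g hg => hconj P g hg hP) fun g hg => ⟨P⁻¹ * g * P, ?_, ?_⟩
    · simpa using hconj P⁻¹ g hg ((Cfsg.GU 4 F p).inv_mem hP)
    · show P * (P⁻¹ * g * P) * P⁻¹ = g
      group
  have hne : ¬ SUg 4 F p ≤ subgroupNormalizer (pauliR hi) := fun hle =>
    not_le_normalizer hF hodd h (hS.ge.trans ((Subgroup.map_mono hle).trans hNmap.le))
  have hM := CfsgLib.Geo.OrthSub.isMaximalIn_map (MulAut.conj P) (isMaximalIn_std hF hi h2 hip h4 hne)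
  rwa [hS, Subgroup.map_inf _ _ _ (MulAut.conj P).injective, hNmap, hS] at hM

end CfsgLib.Geo.SUFour
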