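/-
An overgroup of the monomial subgroup of the four-dimensional special unitary group with a further
element contains a non-monomial element fixing a coordinate line, for at least four elements in the
fixed field.
-/
import Cfsg.Agent.Lib.Geo.UnitDecomp.One

set_option autoImplicit false
set_option linter.unusedSectionVars false
set_option linter.style.haveILetI false
set_option maxHeartbeats 1000000

namespace CfsgLib.Geo.SUFour

open CfsgLib.Classical CfsgLib.Classical.Herm CfsgLib.Geo.UnitMax CfsgLib.Geo.UnitDecomp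

variable {F : Type*} [Field F] {σ : F →+* F} {V : Type*} [AddCommGroup V] [Module F V]
  {B : V →ₛₗ[σ] V →ₗ[F] F} {e : Module.Basis (Fin 4) F V} [DecidableEq F]
  [FiniteDimensional F V]

theorem exists_outside_pair : ∀ a b : Fin 4, a ≠ b →
    ∃ i j : Fin 4, i ≠ j ∧ i ≠ a ∧ i ≠ b ∧ j ≠ a ∧ j ≠ b := by decide

theorem inter_of_pairs : ∀ (k : Fin 4) (S S' : Finset (Fin 4)), S.card = 2 → S'.card = 2 → k ∉ S → k ∉ S' →
    S ≠ S' → (S ∩ S').card = 1 := by decide

theorem exists_fourth : ∀ (k : Fin 4) (S : Finset (Fin 4)), S.card = 2 → k ∉ S → ∃ k', k' ≠ k ∧ k' ∉ S := by decide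

theorem eq_or_eq_of_outside : ∀ a b i j z : Fin 4, a ≠ b → i ≠ j → i ≠ a → i ≠ b → j ≠ a → j ≠ b → z ≠ a → z ≠ b →
    z = i ∨ z = j := by decide

theorem cases_of_four : ∀ a b c d : Fin 4, a ≠ b → a ≠ c → a ≠ d → b ≠ c → b ≠ d → c ≠ d →
    ∀ x : Fin 4, x = a ∨ x = b ∨ x = c ∨ x = d := by decide

theorem inv_apply (g : HU B) (w : V) : ((g⁻¹ : HU B) : V ≃ₗ[F] V) ((g : V ≃ₗ[F] V) w) = w := by
  show ((g⁻¹ * g : HU B) : V ≃ₗ[F] V) w = w
  rw [inv_mul_cancel]; rfl

theorem apply_inv (g : HU B) (w : V) : (g : V ≃ₗ[F] V) (((g⁻¹ : HU B) : V ≃ₗ[F] V) w) = w := by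
  show ((g * g⁻¹ : HU B) : V ≃ₗ[F] V) w = w
  rw [mul_inv_cancel]; rfl

theorem apply_ne_zero (g : HU B) (k : Fin 4) : (g : V ≃ₗ[F] V) (e k) ≠ 0 := fun h0 =>
  e.ne_zero k ((g : V ≃ₗ[F] V).injective (by rw [h0, map_zero]))

/-- A unit-circle element of order more than four. -/
theorem exists_pow_four [Finite F] (hσ : IsInvol σ) (hq : 4 ≤ Nat.card (fixedSub σ)) :
    ∃ μ : F, nm σ μ = 1 ∧ μ ^ 4 ≠ 1 := by
  classical
  haveI := Fintype.ofFinite F
  by_contra! hc
  have h := (Finset.card_le_card (t := (Polynomial.nthRoots 4 (1 : F)).toFinset) fun x (hx : x ∈ circ σ) => by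
    rw [Multiset.mem_toFinset, Polynomial.mem_nthRoots (by omega)]
    exact hc x (mem_circ.1 hx)).trans ((Multiset.toFinset_card_le _).trans (Polynomial.card_nthRoots _ _))
  rw [card_circ hσ] at h
  omega

variable (h : IsHerm B) {M : Subgroup (HU B)} (he : IsFrame B e) (hH : ∀ g ∈ HSU B, Mon e g → g ∈ M)
include h he

/-- The entries of the inverse. -/
theorem repr_inv (g : HU B) (i x : Fin 4) :
    e.repr (((g⁻¹ : HU B) : V ≃ₗ[F] V) (e i)) x = σ (e.repr ((g : V ≃ₗ[F] V) (e x)) i) := by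
  rw [repr_eq he, repr_eq he, h.symm, ← HU.map_eq g, apply_inv]

include hH

theorem fix_scal_four [Finite F] (hq : 4 ≤ Nat.card (fixedSub σ)) {g : HU B} (hg : g ∈ M) {k : Fin 4}
    (hs : (supp e ((g : V ≃ₗ[F] V) (e k))).card = 3) : FixLine e M := by
  classical
  haveI := Fintype.ofFinite F
  have hσ := h.invol
  obtain ⟨μ, hμ, hμ4⟩ := exists_pow_four hσ hq
  set u := (g : V ≃ₗ[F] V) (e k) with hu
  obtain ⟨m, -, hm⟩ := Finset.exists_mem_notMem_of_card_lt_card (s := supp e u) (t := Finset.univ)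
    (by rw [hs, Finset.card_univ, Fintype.card_fin]; omega)
  have hm0 := not_mem_supp.1 hm
  have hum : B u (e m) = 0 := h.eq_zero_symm (by rw [← repr_eq he]; exact hm0)
  have hμ0 := ne_zero_of_norm_one hμ
  set α := (μ ^ 3)⁻¹
  have hα : nm σ α = 1 := by rw [nm_inv, norm_one_pow hσ hμ, inv_one]
  have hαμ : α ≠ μ := fun e' => hμ4 (by
    rw [pow_succ]
    nth_rw 2 [← e']
    exact mul_inv_cancel₀ (pow_ne_zero _ hμ0))
  obtain ⟨d, hd, hdv⟩ := exists_dia_mem h he hH (l := Function.update (fun _ => μ) k α) (fun x => by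
    rw [Function.update_apply]; split_ifs <;> assumption) (by
    rw [Finset.prod_update_of_mem (Finset.mem_univ _), Finset.prod_const, Finset.card_sdiff_of_subset
      (Finset.subset_univ _), Finset.card_univ, Finset.card_singleton, Fintype.card_fin]
    exact inv_mul_cancel₀ (pow_ne_zero _ hμ0))
  have hyz : ∀ z, ((g * d * g⁻¹ : HU B) : V ≃ₗ[F] V) z = μ • z + ((α - μ) * B u z) • u := by
    intro z
    obtain ⟨w, rfl⟩ := (g : V ≃ₗ[F] V).surjective z
    rw [Subgroup.coe_mul, Subgroup.coe_mul, LinearEquiv.mul_apply, LinearEquiv.mul_apply,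
      inv_apply, hu, HU.map_eq, ← repr_eq he]
    have hdw : (d : V ≃ₗ[F] V) w = μ • w + ((α - μ) * e.repr w k) • e k := by
      refine e.repr.injective (Finsupp.ext fun x => ?_)
      rw [dia_repr h he hdv]
      simp only [map_add, map_smul, Finsupp.coe_add, Finsupp.coe_smul, Pi.add_apply, Pi.smul_apply, repr_single,
        smul_eq_mul, Function.update_apply]
      by_cases hx : x = k
      · subst hx; simp; ring
      · simp [hx, Ne.symm hx]
    rw [hdw, map_add, map_smul, map_smul]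
  refine ⟨g * d * g⁻¹, M.mul_mem (M.mul_mem hg hd) (M.inv_mem hg), ?_, m, m, μ, by
    rw [hyz, hum, mul_zero, zero_smul, add_zero]⟩
  obtain ⟨a, ha⟩ := Finset.card_pos.1 (show 0 < (supp e u).card by omega)
  have hua : B u (e a) ≠ 0 := fun e' => mem_supp.1 ha (by rw [repr_eq he, ← h.symm, e', map_zero])
  have hsub : (supp e u).erase a ⊆ supp e (((g * d * g⁻¹ : HU B) : V ≃ₗ[F] V) (e a)) := by
    intro x hx
    obtain ⟨hxa, hxu⟩ := Finset.mem_erase.1 hx
    rw [mem_supp, hyz, map_add, map_smul, map_smul, Finsupp.add_apply, Finsupp.smul_apply, Finsupp.smul_apply,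
      repr_single, if_neg hxa.symm, smul_zero, zero_add, smul_eq_mul]
    exact mul_ne_zero (mul_ne_zero (sub_ne_zero.2 hαμ) hua) (mem_supp.1 hxu)
  refine not_mon_of_supp (x := a) ?_
  have := Finset.card_le_card hsub
  rw [Finset.card_erase_of_mem ha, hs] at this
  omega

/-- A non-monomial element with a zero entry gives a line stabiliser. -/
theorem fix_of_zero_four [Finite F] (hq : 4 ≤ Nat.card (fixedSub σ)) {g : HU B} (hg : g ∈ M) (hnm : ¬ Mon e g)
    {k i₀ : Fin 4} (h0 : e.repr ((g : V ≃ₗ[F] V) (e k)) i₀ = 0) : FixLine e M := by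
  classical
  haveI := Fintype.ofFinite F
  have hσ := h.invol
  by_contra hfix
  have hcols : ∀ g ∈ M, ¬ Mon e g → ∀ x, (supp e ((g : V ≃ₗ[F] V) (e x))).card ≠ 3 ∧
      2 ≤ (supp e ((g : V ≃ₗ[F] V) (e x))).card := fun g hg hnm x => by
    refine ⟨fun e3 => hfix (fix_scal_four h he hH hq hg e3), ?_⟩
    by_contra hc
    obtain ⟨m, hm⟩ := supp_single_iff (e := e) (v := (g : V ≃ₗ[F] V) (e x)) (apply_ne_zero g x) (by omega)
    exact hfix ⟨g, hg, hnm, x, m, _, hm⟩
  have hg' := M.inv_mem hg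
  have hnm' := inv_not_mon hnm
  set u := (g : V ≃ₗ[F] V) (e k) with hu
  have hu3 : (supp e u).card ≤ 3 := by
    have := Finset.card_le_card (show supp e u ⊆ Finset.univ.erase i₀ from fun x hx =>
      Finset.mem_erase.2 ⟨fun e' => mem_supp.1 hx (e' ▸ h0), Finset.mem_univ _⟩)
    simpa using this
  have hu2 : (supp e u).card = 2 := by
    have := hcols g hg hnm k
    rw [← hu] at this
    omega
  obtain ⟨a, b, hab, hs⟩ := Finset.card_eq_two.1 hu2
  obtain ⟨i, j, hij, hia, hib, hja, hjb⟩ := exists_outside_pair a b hab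
  have hui : ∀ z, z ≠ a → z ≠ b → e.repr u z = 0 := fun z h1 h2 => not_mem_supp.1 (by rw [hs]; simp [h1, h2])
  set gi := ((g⁻¹ : HU B) : V ≃ₗ[F] V) with hgi
  -- the two rows outside the support live on one pair of columns
  have hrow : ∀ z, z ≠ a → z ≠ b → (supp e (gi (e z))).card = 2 ∧ k ∉ supp e (gi (e z)) := fun z h1 h2 => by
    have hk : e.repr (gi (e z)) k = 0 := by rw [hgi, repr_inv h he, ← hu, hui z h1 h2, map_zero]
    refine ⟨?_, not_mem_supp.2 hk⟩
    have := hcols g⁻¹ hg' hnm' z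
    have h3 := Finset.card_le_card (show supp e (gi (e z)) ⊆ Finset.univ.erase k from fun x hx =>
      Finset.mem_erase.2 ⟨fun e' => mem_supp.1 hx (e' ▸ hk), Finset.mem_univ _⟩)
    rw [Finset.card_erase_of_mem (Finset.mem_univ _), Finset.card_univ, Fintype.card_fin] at h3
    rw [hgi] at h3 ⊢
    omega
  obtain ⟨hi2, hik⟩ := hrow i hia hib
  obtain ⟨hj2, hjk⟩ := hrow j hja hjb
  have hsame : supp e (gi (e i)) = supp e (gi (e j)) := by
    by_contra hne
    obtain ⟨x, hx⟩ := Finset.card_eq_one.1 (inter_of_pairs k _ _ hi2 hj2 hik hjk hne)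
    have h1 := HU.map_eq g⁻¹ (e i) (e j)
    rw [he i j, if_neg hij, apply_eq he, Finset.sum_eq_single x] at h1
    · obtain ⟨hx1, hx2⟩ := Finset.mem_inter.1 (hx ▸ Finset.mem_singleton_self x)
      exact mul_ne_zero ((map_ne_zero σ).2 (mem_supp.1 hx1)) (mem_supp.1 hx2) h1
    · intro z _ hz
      by_cases h2 : z ∈ supp e (gi (e i))
      · have h3 : z ∉ supp e (gi (e j)) := fun h3 => hz (Finset.mem_singleton.1 (hx ▸ Finset.mem_inter.2 ⟨h2, h3⟩))
        rw [hgi] at h3
        rw [not_mem_supp.1 h3, mul_zero]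
      · rw [hgi] at h2
        rw [not_mem_supp.1 h2, map_zero, zero_mul]
    · simp
  obtain ⟨k', hk'k, hk'⟩ := exists_fourth k _ hi2 hik
  set f := (g : V ≃ₗ[F] V) (e k') with hf
  have hfz : ∀ z, z ≠ a → z ≠ b → e.repr f z = 0 := by
    intro z h1 h2
    have hz : k' ∉ supp e (gi (e z)) := by
      rcases (eq_or_eq_of_outside a b i j z hab hij hia hib hja hjb h1 h2) with e' | e'
      · rw [e']; exact hk'
      · rw [e', ← hsame]; exact hk'
    rw [not_mem_supp, hgi, repr_inv h he, map_eq_zero] at hz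
    exact hz
  -- the pair element
  obtain ⟨α, hα, hα4⟩ := exists_pow_four hσ hq
  obtain ⟨y, hy, hyz⟩ := pair_family h he hH hg hk'k.symm hα
  rw [← hu, ← hf] at hyz
  have huu : B u u = 1 := by rw [hu, HU.map_eq, he k k, if_pos rfl]
  have hff : B f f = 1 := by rw [hf, HU.map_eq, he k' k', if_pos rfl]
  have huf : B u f = 0 := by rw [hu, hf, HU.map_eq, he k k', if_neg hk'k.symm]
  have hfu : B f u = 0 := h.eq_zero_symm huf
  have hfix_i : (y : V ≃ₗ[F] V) (e i) = (1 : F) • e i := by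
    rw [hyz, h.eq_zero_symm ((repr_eq he u i).symm.trans (hui i hia hib)),
      h.eq_zero_symm ((repr_eq he f i).symm.trans (hfz i hia hib))]
    simp
  by_cases hm : Mon e y
  swap
  · exact hfix ⟨y, hy, hm, i, i, 1, hfix_i⟩
  choose π hπ using fun x => supp_single_iff (e := e) (v := (y : V ≃ₗ[F] V) (e x)) (apply_ne_zero y x)
    (Finset.card_le_one.2 fun p hp r hr => hm x x rfl p r (mem_supp.1 hp) (mem_supp.1 hr))
  set c : Fin 4 → F := fun x => e.repr ((y : V ≃ₗ[F] V) (e x)) (π x) with hc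
  have hy' : ∀ x, (y : V ≃ₗ[F] V) (e x) = c x • e (π x) := hπ
  have hinj : Function.Injective π := fun p r hpr => by
    by_contra hne
    have h4 := HU.map_eq y (e p) (e r)
    rw [hy', hy', hpr, smul_left, smul_right, he p r, if_neg hne, he (π r) (π r), if_pos rfl, mul_one] at h4
    rcases mul_eq_zero.1 h4 with e' | e'
    · exact apply_ne_zero y p (by rw [hy', (map_eq_zero σ).1 e', zero_smul])
    · exact apply_ne_zero y r (by rw [hy', e', zero_smul])
  have hdec : ∀ v : V, (∀ z, z ≠ a → z ≠ b → e.repr v z = 0) → v = e.repr v a • e a + e.repr v b • e b :=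
    fun v hv => by
      conv_lhs => rw [← e.sum_repr v]
      exact Finset.sum_eq_add a b hab (fun z _ hz => by rw [hv z hz.1 hz.2, zero_smul]) (by simp) (by simp)
  have hyu : (y : V ≃ₗ[F] V) u = α • u := by rw [hyz, huu, hfu]; module
  have hyf : (y : V ≃ₗ[F] V) f = σ α • f := by rw [hyz, hff, huf]; module
  -- the square is diagonal on the two coordinates
  have hπab : ({π a, π b} : Finset (Fin 4)) = {a, b} := by
    have hua : e.repr u a ≠ 0 := mem_supp.1 (by rw [hs]; simp)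
    have hub : e.repr u b ≠ 0 := mem_supp.1 (by rw [hs]; simp)
    have e1 : supp e ((y : V ≃ₗ[F] V) u) = {π a, π b} := by
      conv_lhs => rw [hdec u hui, map_add, map_smul, map_smul, hy', hy', smul_smul, smul_smul]
      exact supp_pair (hinj.ne hab) (mul_ne_zero hua fun e' => apply_ne_zero y a (by rw [hy', e', zero_smul]))
        (mul_ne_zero hub fun e' => apply_ne_zero y b (by rw [hy', e', zero_smul]))
    rw [← e1, hyu, ← hs]
    ext z
    simp [mem_supp, ne_zero_of_norm_one hα]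
  have hcases : (π a = a ∧ π b = b) ∨ (π a = b ∧ π b = a) := by
    have h1 : π a = a ∨ π a = b := by
      have : π a ∈ ({a, b} : Finset (Fin 4)) := by rw [← hπab]; simp
      simpa using this
    have h2 : π b = a ∨ π b = b := by
      have : π b ∈ ({a, b} : Finset (Fin 4)) := by rw [← hπab]; simp
      simpa using this
    have h3 := hinj.ne hab
    rcases h1 with h1 | h1 <;> rcases h2 with h2 | h2
    · exact absurd (h1.trans h2.symm) h3
    · exact Or.inl ⟨h1, h2⟩
    · exact Or.inr ⟨h1, h2⟩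
    · exact absurd (h1.trans h2.symm) h3
  set D : Fin 4 → F := fun x => c x * c (π x)
  have hsq : ∀ x, x = a ∨ x = b → (y : V ≃ₗ[F] V) ((y : V ≃ₗ[F] V) (e x)) = D x • e x := by
    intro x hx
    rw [hy', map_smul, hy', smul_smul]
    have : π (π x) = x := by
      rcases hcases with ⟨p, r⟩ | ⟨p, r⟩ <;> rcases hx with rfl | rfl <;> simp [p, r]
    rw [this]
  have heig : ∀ (v : V) (lam : F), (y : V ≃ₗ[F] V) v = lam • v → (∀ z, z ≠ a → z ≠ b → e.repr v z = 0) →
      ∀ x, x = a ∨ x = b → e.repr v x ≠ 0 → D x = lam * lam := by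
    intro v lam hv hv0 x hx hne
    have h1 : (y : V ≃ₗ[F] V) ((y : V ≃ₗ[F] V) v) = (lam * lam) • v := by rw [hv, map_smul, hv, smul_smul]
    conv_lhs at h1 => rw [hdec v hv0, map_add, map_smul, map_smul, map_add, map_smul, map_smul,
      hsq a (Or.inl rfl), hsq b (Or.inr rfl), smul_smul, smul_smul]
    have h2 := congrArg (fun w => e.repr w x) h1
    simp only [map_add, map_smul, Finsupp.add_apply, Finsupp.smul_apply, repr_single, smul_eq_mul] at h2
    refine mul_right_cancel₀ hne ?_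
    rcases hx with rfl | rfl
    · simp [hab.symm] at h2
      linear_combination h2
    · simp [hab] at h2
      linear_combination h2
  obtain ⟨x, hx, hfx⟩ : ∃ x, (x = a ∨ x = b) ∧ e.repr f x ≠ 0 := by
    by_contra! hc'
    apply apply_ne_zero g k'
    rw [← hf, hdec f hfz, hc' a (Or.inl rfl), hc' b (Or.inr rfl)]
    simp
  have hux : e.repr u x ≠ 0 := mem_supp.1 (by rw [hs]; rcases hx with rfl | rfl <;> simp)
  have h5 := (heig u α hyu hui x hx hux).symm.trans (heig f (σ α) hyf hfz x hx hfx)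
  have hαa : α * σ α = 1 := hα
  exact hα4 (by linear_combination (α * α) * h5 + (α * σ α + 1) * hαa)

/-- The element moved by a double phased transposition, seen through a monomial image. -/
theorem double_target [Finite F] (hq : 4 ≤ Nat.card (fixedSub σ)) (hfix : ¬ FixLine e M) {g : HU B} (hg : g ∈ M)
    {a b c d : Fin 4} (hd : [a, b, c, d].Nodup) (i : Fin 4) {l m : F} (hl : nm σ l = 1) (hm : nm σ m = 1)
    (hsum : nm σ (e.repr ((g : V ≃ₗ[F] V) (e i)) a + l * e.repr ((g : V ≃ₗ[F] V) (e i)) b) +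
      nm σ (e.repr ((g : V ≃ₗ[F] V) (e i)) c + m * e.repr ((g : V ≃ₗ[F] V) (e i)) d) = 1) :
    ∃ j, j ≠ i ∧ ∃ z : F, nm σ z = 1 ∧
      z * e.repr ((g : V ≃ₗ[F] V) (e j)) a = -(l * e.repr ((g : V ≃ₗ[F] V) (e i)) b) ∧
      z * e.repr ((g : V ≃ₗ[F] V) (e j)) b = -(σ l * e.repr ((g : V ≃ₗ[F] V) (e i)) a) ∧
      z * e.repr ((g : V ≃ₗ[F] V) (e j)) c = -(m * e.repr ((g : V ≃ₗ[F] V) (e i)) d) ∧
      z * e.repr ((g : V ≃ₗ[F] V) (e j)) d = -(σ m * e.repr ((g : V ≃ₗ[F] V) (e i)) c) := by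
  classical
  have hσ := h.invol
  simp only [List.nodup_cons, List.mem_cons, List.not_mem_nil, not_or, or_false, List.nodup_nil, and_true,
    not_false_eq_true] at hd
  obtain ⟨⟨hab, hac, had⟩, ⟨hbc, hbd⟩, hcd⟩ := hd
  obtain ⟨n, hn, hnz⟩ := double_swap_mem h he hH (l := σ l) (m := σ m) hab hcd hac had hbc hbd
    (by rw [nm_conj hσ, hl]) (by rw [nm_conj hσ, hm])
  set gl := (g : V ≃ₗ[F] V) with hgl
  set r := gl (e i) with hr
  have hl' : l * σ l = 1 := hl
  have hm' : m * σ m = 1 := hm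
  have huniv := cases_of_four a b c d hab hac had hbc hbd hcd
  have hnr : ∀ v : V, e.repr ((n : V ≃ₗ[F] V) v) a = -(l * e.repr v b) ∧
      e.repr ((n : V ≃ₗ[F] V) v) b = -(σ l * e.repr v a) ∧
      e.repr ((n : V ≃ₗ[F] V) v) c = -(m * e.repr v d) ∧
      e.repr ((n : V ≃ₗ[F] V) v) d = -(σ m * e.repr v c) := by
    intro v
    simp only [hnz, map_add, map_smul, Finsupp.add_apply, Finsupp.smul_apply, smul_eq_mul, repr_single,
      LinearMap.add_apply, smul_left, hσ.invol, ← repr_eq he]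
    simp only [hab, hac, had, hbc, hbd, hcd, Ne.symm hab, Ne.symm hac, Ne.symm had, Ne.symm hbc, Ne.symm hbd, Ne.symm hcd,
      if_true, if_false]
    refine ⟨by ring, ?_, by ring, ?_⟩
    · linear_combination (-(e.repr v b)) * hl'
    · linear_combination (-(e.repr v d)) * hm'
  set y := g⁻¹ * n * g with hy_def
  have hyM : y ∈ M := M.mul_mem (M.mul_mem (M.inv_mem hg) hn) hg
  have hgy : gl ((y : V ≃ₗ[F] V) (e i)) = (n : V ≃ₗ[F] V) r := by
    show (g : V ≃ₗ[F] V) (((g⁻¹ : HU B) : V ≃ₗ[F] V) ((n : V ≃ₗ[F] V) r)) = _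
    rw [apply_inv]
  have hzero : e.repr ((y : V ≃ₗ[F] V) (e i)) i = 0 := by
    rw [repr_eq he, ← HU.map_eq g, ← hgl, hgy, ← hr, apply_eq he]
    have hs1 : ∀ s : Fin 4 → F, ∑ x, s x = s a + s b + s c + s d := fun s => by
      rw [← Finset.sum_subset (Finset.subset_univ ({a, b, c, d} : Finset (Fin 4))) (fun x _ hx => by
        rcases huniv x with rfl | rfl | rfl | rfl <;> simp at hx),
        Finset.sum_insert (by simp [hab, hac, had]), Finset.sum_insert (by simp [hbc, hbd]), Finset.sum_pair hcd]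
      ring
    have hrr : B r r = 1 := by rw [hr, hgl, HU.map_eq, he i i, if_pos rfl]
    rw [self_eq he, hs1] at hrr
    rw [hs1, (hnr r).1, (hnr r).2.1, (hnr r).2.2.1, (hnr r).2.2.2]
    simp only [nm, map_add, map_mul] at hsum hrr ⊢
    linear_combination -hsum + hrr + (e.repr r b * σ (e.repr r b)) * hl' + (e.repr r d * σ (e.repr r d)) * hm'
  by_cases hmon : Mon e y
  swap
  · exact absurd (fix_of_zero_four h he hH hq hyM hmon hzero) hfix
  obtain ⟨j, hj⟩ := supp_single_iff (e := e) (v := (y : V ≃ₗ[F] V) (e i)) (apply_ne_zero y i)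
    (Finset.card_le_one.2 fun p hp p' hp' => hmon i i rfl p p' (mem_supp.1 hp) (mem_supp.1 hp'))
  set z := e.repr ((y : V ≃ₗ[F] V) (e i)) j with hz
  have hz1 : nm σ z = 1 := by
    have h1 := HU.map_eq y (e i) (e i)
    rw [hj, IsHerm.smul_self, he j j, he i i, if_pos rfl, if_pos rfl, mul_one] at h1
    exact h1
  have hgz : (n : V ≃ₗ[F] V) r = z • gl (e j) := by rw [← hgy, hj, map_smul]
  have hcoord : ∀ x, z * e.repr (gl (e j)) x = e.repr ((n : V ≃ₗ[F] V) r) x := fun x => by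
    rw [hgz, map_smul, Finsupp.smul_apply, smul_eq_mul]
  refine ⟨j, fun e' => ?_, z, hz1, ?_, ?_, ?_, ?_⟩
  · rw [e'] at hj
    rw [hj, map_smul, Finsupp.smul_apply, repr_single, if_pos rfl, smul_eq_mul, mul_one] at hzero
    exact ne_zero_of_norm_one hz1 hzero
  all_goals rw [hcoord]
  exacts [(hnr r).1, (hnr r).2.1, (hnr r).2.2.1, (hnr r).2.2.2]

/-- Many solutions of the norm condition give many columns with permuted norms. -/
theorem many_targets [Finite F] (hq : 4 ≤ Nat.card (fixedSub σ)) (hfix : ¬ FixLine e M) {g : HU B} (hg : g ∈ M)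
    (hfull : ∀ x y, e.repr ((g : V ≃ₗ[F] V) (e x)) y ≠ 0)
    {a b c d : Fin 4} (hd : [a, b, c, d].Nodup) (i : Fin 4) (S : Finset (F × F))
    (hS : ∀ p ∈ S, nm σ p.1 = 1 ∧ nm σ p.2 = 1 ∧
      nm σ (e.repr ((g : V ≃ₗ[F] V) (e i)) a + p.1 * e.repr ((g : V ≃ₗ[F] V) (e i)) b) +
        nm σ (e.repr ((g : V ≃ₗ[F] V) (e i)) c + p.2 * e.repr ((g : V ≃ₗ[F] V) (e i)) d) = 1) :
    ∃ J : Finset (Fin 4), S.card ≤ 2 * J.card ∧ ∀ j ∈ J, j ≠ i ∧
      nm σ (e.repr ((g : V ≃ₗ[F] V) (e j)) a) = nm σ (e.repr ((g : V ≃ₗ[F] V) (e i)) b) ∧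
      nm σ (e.repr ((g : V ≃ₗ[F] V) (e j)) b) = nm σ (e.repr ((g : V ≃ₗ[F] V) (e i)) a) ∧
      nm σ (e.repr ((g : V ≃ₗ[F] V) (e j)) c) = nm σ (e.repr ((g : V ≃ₗ[F] V) (e i)) d) ∧
      nm σ (e.repr ((g : V ≃ₗ[F] V) (e j)) d) = nm σ (e.repr ((g : V ≃ₗ[F] V) (e i)) c) := by
  classical
  haveI := Fintype.ofFinite F
  have hσ := h.invol
  set G : Fin 4 → Fin 4 → F := fun x y => e.repr ((g : V ≃ₗ[F] V) (e x)) y with hG
  have := fun p : {p // p ∈ S} => double_target h he hH hq hfix hg hd i (hS p p.2).1 (hS p p.2).2.1 (hS p p.2).2.2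
  choose t hti z hz hA hB hC hD using this
  refine ⟨Finset.univ.image t, ?_, fun j hj => ?_⟩
  · rw [← Fintype.card_coe S, ← Finset.card_univ]
    refine Finset.card_le_mul_card_image _ 2 fun j hj => ?_
    obtain ⟨p₀, -, hp₀⟩ := Finset.mem_image.1 hj
    set T := Finset.univ.filter fun p => t p = j
    have hT : ∀ p ∈ T, z p * z p * (G j a * G j b) = G i a * G i b := fun p hp => by
      have h1 : (1 : F) = p.1.1 * σ p.1.1 := (hS p p.2).1.symm
      have e1 := hA p
      have e2 := hB p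
      rw [(Finset.mem_filter.1 hp).2] at e1 e2
      simp only [hG]
      linear_combination (z p * e.repr ((g : V ≃ₗ[F] V) (e j)) b) * e1 -
        (p.1.1 * e.repr ((g : V ≃ₗ[F] V) (e i)) b) * e2 -
        (e.repr ((g : V ≃ₗ[F] V) (e i)) a * e.repr ((g : V ≃ₗ[F] V) (e i)) b) * h1
    have hinj : Set.InjOn z (T : Set {p // p ∈ S}) := fun p hp p' hp' ez => by
      obtain ⟨-, hpj⟩ := Finset.mem_filter.1 (Finset.mem_coe.1 hp)
      obtain ⟨-, hpj'⟩ := Finset.mem_filter.1 (Finset.mem_coe.1 hp')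
      have a1 := hA p; have a2 := hA p'; have c1 := hC p; have c2 := hC p'
      rw [hpj] at a1 c1; rw [hpj'] at a2 c2
      rw [ez] at a1 c1
      refine Subtype.ext (Prod.ext ?_ ?_)
      · exact mul_right_cancel₀ (hfull i b) (by linear_combination a1 - a2)
      · exact mul_right_cancel₀ (hfull i d) (by linear_combination c1 - c2)
    rw [← Finset.card_image_of_injOn hinj]
    have hmem : ∀ x ∈ T.image z, x = z p₀ ∨ x = -z p₀ := fun x hx => by
      obtain ⟨p, hp, rfl⟩ := Finset.mem_image.1 hx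
      refine mul_self_eq_mul_self_iff.1 (mul_right_cancel₀ (mul_ne_zero (hfull j a) (hfull j b)) ?_)
      exact (hT p hp).trans (hT p₀ (Finset.mem_filter.2 ⟨Finset.mem_univ _, hp₀⟩)).symm
    exact (Finset.card_le_card (t := ({z p₀, -z p₀} : Finset F)) fun x hx => by simpa using hmem x hx).trans
      Finset.card_le_two
  · obtain ⟨p, -, rfl⟩ := Finset.mem_image.1 hj
    have key : ∀ {x w v : F}, nm σ w = 1 → z p * x = -(w * v) → nm σ x = nm σ v := fun {x w v} hw e' => by
      have := congrArg (nm σ) e'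
      rwa [nm_mul, hz p, one_mul, show nm σ (-(w * v)) = nm σ (w * v) by simp [nm], nm_mul, hw, one_mul] at this
    exact ⟨hti p, key (hS p p.2).1 (hA p), key (by rw [nm_conj hσ, (hS p p.2).1]) (hB p),
      key (hS p p.2).2.1 (hC p), key (by rw [nm_conj hσ, (hS p p.2).2.1]) (hD p)⟩

end CfsgLib.Geo.SUFour
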