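/-
The norms of the entries of a non-monomial element without zero entries cannot be permuted by all
three double transpositions, so an overgroup of the monomial subgroup of SU(4) fixes a coordinate line.
-/
import Cfsg.Agent.Lib.Geo.SUFour.MonomialZero

set_option autoImplicit false
set_option linter.unusedSectionVars false
set_option linter.style.haveILetI false
set_option maxHeartbeats 1000000

namespace CfsgLib.Geo.SUFour

open CfsgLib.Classical CfsgLib.Classical.Herm CfsgLib.Geo.UnitMax CfsgLib.Geo.UnitDecomp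

/-- The three double transpositions of four points. -/
def pairing : Fin 3 → Fin 4 → Fin 4 := ![![1, 0, 3, 2], ![2, 3, 0, 1], ![3, 2, 1, 0]]

theorem pairing_invol : ∀ k x, pairing k (pairing k x) = x := by decide

theorem pairing_comp : ∀ x, pairing 0 (pairing 1 x) = pairing 2 x := by decide

theorem pairing_sq_pair : ∀ c d : Fin 4, c ≠ d → ∃ k a b, pairing k a = b ∧ pairing k c = d ∧
    [a, b, c, d].Nodup := by decide

theorem pairing_cover : ∀ k : Fin 3, ∃ a b c d, pairing k a = b ∧ pairing k c = d ∧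
    [a, b, c, d].Nodup := by decide

theorem exists_fourth_of : ∀ i j j' : Fin 4, j ≠ i → j' ≠ i → j ≠ j' →
    ∃ j'', j'' ≠ i ∧ j'' ≠ j ∧ j'' ≠ j' ∧ ∀ x, x = i ∨ x = j ∨ x = j' ∨ x = j'' := by decide

theorem outside_two : ∀ i j j' p p' : Fin 4, j ≠ i → j' ≠ i → j ≠ j' → p ≠ i → p' ≠ i → p ≠ p' →
    p = j ∨ p = j' ∨ p' = j ∨ p' = j' := by decide

theorem two_others : ∀ i j j' j'' p p' : Fin 4, j ≠ i → j' ≠ i → j ≠ j' → j'' ≠ i → j'' ≠ j → j'' ≠ j' →
    p ≠ j → p' ≠ j → p ≠ p' →
      (p = i ∧ p' = j') ∨ (p' = i ∧ p = j') ∨ (p = i ∧ p' = j'') ∨ (p' = i ∧ p = j'') ∨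
        (p = j' ∧ p' = j'') ∨ (p' = j' ∧ p = j'') := by decide

/-- Four rows: every pairing moves a row to another row, some pairing to two rows, and a pairing
fixing the row of values to two rows; then all rows are equal. -/
theorem all_rows_equal {α : Type*} (W : Fin 4 → Fin 4 → α)
    (h1 : ∀ k i, ∃ j, j ≠ i ∧ W j = W i ∘ pairing k)
    (h2 : ∀ i, ∃ k j j', j ≠ i ∧ j' ≠ i ∧ j ≠ j' ∧ W j = W i ∘ pairing k ∧ W j' = W i ∘ pairing k)
    (h3 : ∀ k i, W i ∘ pairing k = W i → ∃ j j', j ≠ i ∧ j' ≠ i ∧ j ≠ j' ∧ W j = W i ∧ W j' = W i) :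
    ∀ i j, W i = W j := by
  classical
  -- no row has two others with one different value and the fourth with one of the two values
  have two : ∀ i j j', j ≠ i → j' ≠ i → j ≠ j' → W j = W j' → (∀ x, W x = W i ∨ W x = W j) → W j = W i := by
    intro i j j' hji hj'i hjj hjj' hx
    by_contra hne
    have hπ : ∀ k, W i ∘ pairing k = W j := by
      intro k
      obtain ⟨p, -, hP⟩ := h1 k i
      rcases hx p with e | e
      swap
      · exact hP.symm.trans e
      obtain ⟨p, p', hp, hp', hpp, hP1, hP2⟩ := h3 k i (hP.symm.trans e)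
      exfalso
      rcases outside_two i j j' p p' hji hj'i hjj hp hp' hpp with rfl | rfl | rfl | rfl
      exacts [hne hP1, hne (hjj'.trans hP1), hne hP2, hne (hjj'.trans hP2)]
    refine hne ((hπ 2).symm.trans (funext fun x => ?_))
    rw [Function.comp_apply, ← pairing_comp]
    have e1 := congrFun (hπ 0) (pairing 1 x)
    have e2 := congrFun (hπ 1) (pairing 1 x)
    rw [Function.comp_apply] at e1 e2
    rw [pairing_invol] at e2
    exact e1.trans e2.symm
  have key : ∀ i x, W x = W i := by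
    intro i
    obtain ⟨k, j, j', hji, hj'i, hjj, hj, hj'⟩ := h2 i
    have hjj' : W j = W j' := hj.trans hj'.symm
    obtain ⟨j'', hi'', hj1, hj2, hall⟩ := exists_fourth_of i j j' hji hj'i hjj
    by_cases hc : W j'' = W i ∨ W j'' = W j
    · have hx : ∀ x, W x = W i ∨ W x = W j := fun x => by
        rcases hall x with rfl | rfl | rfl | rfl
        exacts [Or.inl rfl, Or.inr rfl, Or.inr hjj'.symm, hc]
      have hv := two i j j' hji hj'i hjj hjj' hx
      exact fun x => (hx x).elim id fun e => e.trans hv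
    rw [not_or] at hc
    exfalso
    by_cases hv : W j = W i
    · -- the fourth row alone differs
      refine hc.1 (two j'' i j hi''.symm hj1.symm hji.symm hv.symm (fun x => ?_)).symm
      rcases hall x with rfl | rfl | rfl | rfl
      exacts [Or.inr rfl, Or.inr hv, Or.inr (hjj'.symm.trans hv), Or.inl rfl]
    · -- the row of `j` would need two equal rows among three different ones
      obtain ⟨k', p, p', hp, hp', hpp, hP, hP'⟩ := h2 j
      have e := hP.trans hP'.symm
      rcases two_others i j j' j'' p p' hji hj'i hjj hi'' hj1 hj2 hp hp' hpp with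
        ⟨rfl, rfl⟩ | ⟨rfl, rfl⟩ | ⟨rfl, rfl⟩ | ⟨rfl, rfl⟩ | ⟨rfl, rfl⟩ | ⟨rfl, rfl⟩
      exacts [hv (hjj'.trans e.symm), hv (hjj'.trans e), hc.1 e.symm, hc.1 e,
        hc.2 (e.symm.trans hjj'.symm), hc.2 (e.trans hjj'.symm)]
  exact fun i j => (key i j).symm

variable {F : Type*} [Field F] {σ : F →+* F}

/-- At least two solutions of the norm condition, for any pairing. -/
theorem norm_circles_two [Fintype F] [DecidableEq F] (hσ : IsInvol σ) {x y x' y' : F} (hx : x ≠ 0) (hy : y ≠ 0)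
    (hx' : x' ≠ 0) (hy' : y' ≠ 0) {s : F} (hs : σ s = s) :
    ∃ L : Finset F, 2 ≤ L.card ∧ ∀ l ∈ L, nm σ l = 1 ∧
      ∃ m, nm σ m = 1 ∧ nm σ (x + l * y) + nm σ (x' + m * y') = s := by
  set S := (circ σ).image fun τ => nm σ (x' + τ * y')
  set L := (circ σ).filter fun τ => s - nm σ (x + τ * y) ∈ S
  set N := (circ σ).filter fun τ => ¬ s - nm σ (x + τ * y) ∈ S
  set fx := Finset.univ.filter fun z : F => σ z = z
  have hS : S ⊆ fx := fun z hz => by
    obtain ⟨τ, -, rfl⟩ := Finset.mem_image.1 hz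
    simp [fx, nm_fixed hσ]
  have h1 := circle_fibre hσ hx' hy' (circ σ) subset_rfl
  have hN : N.card ≤ 2 * (fx \ S).card := by
    refine (circle_fibre hσ hx hy N (Finset.filter_subset _ _)).trans (Nat.mul_le_mul_left 2 ?_)
    rw [← Finset.card_image_of_injective (f := fun z : F => s - z) _ sub_right_injective]
    refine Finset.card_le_card fun z hz => ?_
    obtain ⟨u, hu, rfl⟩ := Finset.mem_image.1 hz
    obtain ⟨τ, hτ, rfl⟩ := Finset.mem_image.1 hu
    refine Finset.mem_sdiff.2 ⟨?_, (Finset.mem_filter.1 hτ).2⟩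
    simp [fx, hs, nm_fixed hσ]
  rw [Finset.card_sdiff_of_subset hS] at hN
  have hc := card_circ hσ
  have hf : fx.card = Nat.card (fixedSub σ) := card_fixed
  have hsum : L.card + N.card = (circ σ).card :=
    Finset.card_filter_add_card_filter_not (s := circ σ) (fun τ => s - nm σ (x + τ * y) ∈ S)
  have hSle := Finset.card_le_card hS
  change (circ σ).card ≤ 2 * S.card at h1
  refine ⟨L, by omega, fun l hl => ?_⟩
  obtain ⟨h2, h3⟩ := Finset.mem_filter.1 hl
  obtain ⟨m, hm, hm1⟩ := Finset.mem_image.1 h3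
  exact ⟨mem_circ.1 h2, m, mem_circ.1 hm, by linear_combination hm1⟩

variable {V : Type*} [AddCommGroup V] [Module F V] {B : V →ₛₗ[σ] V →ₗ[F] F} {e : Module.Basis (Fin 4) F V}
  [DecidableEq F] [FiniteDimensional F V] (h : IsHerm B) {M : Subgroup (HU B)} (he : IsFrame B e)
  (hH : ∀ g ∈ HSU B, Mon e g → g ∈ M)
include h he hH

/-- An overgroup with a non-monomial element stabilises a coordinate line non-monomially. -/
theorem fixLine_of_not_mon [Finite F] (hq : 4 ≤ Nat.card (fixedSub σ)) {g : HU B} (hg : g ∈ M) (hnm : ¬ Mon e g) :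
    FixLine e M := by
  classical
  haveI := Fintype.ofFinite F
  have hσ := h.invol
  by_contra hfix
  have hfull : ∀ x y, e.repr ((g : V ≃ₗ[F] V) (e x)) y ≠ 0 := fun x y h0 =>
    hfix (fix_of_zero_four h he hH hq hg hnm h0)
  set G : Fin 4 → Fin 4 → F := fun x y => e.repr ((g : V ≃ₗ[F] V) (e x)) y with hG
  set W : Fin 4 → Fin 4 → F := fun x y => nm σ (G x y) with hW
  have hW0 : ∀ x y, W x y ≠ 0 := fun x y e' => hfull x y (nm_eq_zero.1 e')
  have huniv : ∀ {a b c d : Fin 4}, [a, b, c, d].Nodup → ∀ x, x = a ∨ x = b ∨ x = c ∨ x = d := by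
    intro a b c d hd
    simp only [List.nodup_cons, List.mem_cons, List.not_mem_nil, not_or, or_false, List.nodup_nil, and_true,
      not_false_eq_true] at hd
    exact cases_of_four a b c d hd.1.1 hd.1.2.1 hd.1.2.2 hd.2.1.1 hd.2.1.2 hd.2.2
  -- targets from a set of solutions
  have targets : ∀ {a b c d : Fin 4} {k : Fin 3}, [a, b, c, d].Nodup → pairing k a = b → pairing k c = d →
      ∀ i (L : Finset F), (∀ l ∈ L, nm σ l = 1 ∧
        ∃ m, nm σ m = 1 ∧ nm σ (G i a + l * G i b) + nm σ (G i c + m * G i d) = 1) →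
      ∃ J : Finset (Fin 4), L.card ≤ 2 * J.card ∧ ∀ j ∈ J, j ≠ i ∧ W j = W i ∘ pairing k := by
    intro a b c d k hd hab hcd i L hL
    choose m hm hsum using fun l : L => (hL l l.2).2
    obtain ⟨J, hJ, hJ'⟩ := many_targets h he hH hq hfix hg hfull hd i
      (Finset.univ.image fun l : L => ((l : F), m l)) (fun p hp => by
        obtain ⟨l, -, rfl⟩ := Finset.mem_image.1 hp
        exact ⟨(hL l l.2).1, hm l, hsum l⟩)
    rw [Finset.card_image_of_injective _ (fun l l' e' => Subtype.ext (congrArg Prod.fst e')), Finset.card_univ,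
      Fintype.card_coe] at hJ
    refine ⟨J, hJ, fun j hj => ⟨(hJ' j hj).1, funext fun x => ?_⟩⟩
    obtain ⟨-, e1, e2, e3, e4⟩ := hJ' j hj
    have hba : pairing k b = a := by rw [← hab, pairing_invol]
    have hdc : pairing k d = c := by rw [← hcd, pairing_invol]
    rcases huniv hd x with rfl | rfl | rfl | rfl
    exacts [e1.trans (by simp [W, G, hab]), e2.trans (by simp [W, G, hba]), e3.trans (by simp [W, G, hcd]),
      e4.trans (by simp [W, G, hdc])]
  have sq_targets : ∀ {a b c d : Fin 4} {k : Fin 3}, [a, b, c, d].Nodup → pairing k a = b → pairing k c = d →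
      ∀ i (w : F), σ w = w → w * w = W i c * W i d →
      ∃ j j', j ≠ i ∧ j' ≠ i ∧ j ≠ j' ∧ W j = W i ∘ pairing k ∧ W j' = W i ∘ pairing k := by
    intro a b c d k hd hab hcd i w hw hsq
    obtain ⟨L, hL3, hL⟩ := norm_circles_sum hσ (s := (1 : F)) (hfull i a) (hfull i b) (hfull i c) (hfull i d)
      hw hsq (map_one σ)
    obtain ⟨J, hJ, hJ'⟩ := targets hd hab hcd i L hL
    obtain ⟨j, j', hj, hj', hjj⟩ := Finset.one_lt_card_iff.1 (show 1 < J.card by omega)
    exact ⟨j, j', (hJ' j hj).1, (hJ' j' hj').1, hjj, (hJ' j hj).2, (hJ' j' hj').2⟩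
  have hall := all_rows_equal W ?_ ?_ ?_
  rotate_left
  · intro k i
    obtain ⟨a, b, c, d, hab, hcd, hd⟩ := pairing_cover k
    obtain ⟨L, hL2, hL⟩ := norm_circles_two hσ (s := (1 : F)) (hfull i a) (hfull i b) (hfull i c) (hfull i d)
      (map_one σ)
    obtain ⟨J, hJ, hJ'⟩ := targets hd hab hcd i L hL
    obtain ⟨j, hj⟩ := Finset.card_pos.1 (show 0 < J.card by omega)
    exact ⟨j, hJ' j hj⟩
  · intro i
    obtain ⟨p, p', hpp, w, hw, hsq⟩ := exists_sq_pair hσ (u := fun z : Fin 3 => W i z.castSucc)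
      (fun z => nm_fixed hσ _) (fun z => hW0 _ _)
    obtain ⟨k, a, b, hab, hcd, hd⟩ := pairing_sq_pair p.castSucc p'.castSucc
      (fun e' => hpp (Fin.castSucc_injective _ e'))
    exact ⟨k, sq_targets hd hab hcd i w hw hsq⟩
  · intro k i hfixrow
    obtain ⟨a, b, c, d, hab, hcd, hd⟩ := pairing_cover k
    have e1 : W i d = W i c := by
      rw [← congrFun hfixrow c, Function.comp_apply, hcd]
    obtain ⟨j, j', h1, h2, h3, h4, h5⟩ := sq_targets hd hab hcd i (W i c) (nm_fixed hσ _) (by rw [e1])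
    exact ⟨j, j', h1, h2, h3, h4.trans hfixrow, h5.trans hfixrow⟩
  -- all rows have one value, a quarter
  have hcol : ∀ y, (4 : F) * W 0 y = 1 := by
    intro y
    have h1 := HU.map_eq g⁻¹ (e y) (e y)
    rw [self_eq he, he y y, if_pos rfl] at h1
    rw [← h1, Fin.sum_univ_four]
    simp only [repr_inv h he, nm_conj hσ]
    show _ = W 0 y + W 1 y + W 2 y + W 3 y
    rw [hall 1 0, hall 2 0, hall 3 0]
    ring
  have h40 : (4 : F) ≠ 0 := fun e' => by
    have := hcol 0
    rw [e', zero_mul] at this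
    exact zero_ne_one this
  set r : Fin 4 → F := G 0 with hr
  have hwxy : ∀ x y, nm σ (r x) = nm σ (r y) := fun x y =>
    mul_left_cancel₀ h40 ((hcol x).trans (hcol y).symm)
  have hr0 : ∀ x, r x ≠ 0 := hfull 0
  have hrow : nm σ (r 0) + nm σ (r 1) + nm σ (r 2) + nm σ (r 3) = 1 := by
    have h1 := HU.map_eq g (e 0) (e 0)
    rw [self_eq he, he 0 0, if_pos rfl, Fin.sum_univ_four] at h1
    exact h1
  -- two families of solutions
  set X : F → F := fun l => -(r 0 * σ (r 1) * σ l) with hX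
  have hnX : ∀ l, nm σ l = 1 → nm σ (X l) = nm σ (r 2) * nm σ (r 3) := fun l hl => by
    simp only [hX]
    rw [show nm σ (-(r 0 * σ (r 1) * σ l)) = nm σ (r 0 * σ (r 1) * σ l) by simp [nm], nm_mul, nm_mul,
      nm_conj hσ, nm_conj hσ, hl, hwxy 1 2, hwxy 0 3]
    ring
  set m₁ : F → F := fun l => σ (X l / (r 2 * σ (r 3))) with hm₁
  set m₂ : F → F := fun l => σ (σ (X l) / (r 2 * σ (r 3))) with hm₂
  have hden : r 2 * σ (r 3) ≠ 0 := mul_ne_zero (hr0 2) ((map_ne_zero σ).2 (hr0 3))
  have hnden : nm σ (r 2) * nm σ (r 3) ≠ 0 :=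
    mul_ne_zero (fun e' => hr0 2 (nm_eq_zero.1 e')) (fun e' => hr0 3 (nm_eq_zero.1 e'))
  have hnm₁ : ∀ l, nm σ l = 1 → nm σ (m₁ l) = 1 := fun l hl => by
    simp only [hm₁]
    rw [nm_conj hσ, nm_div, hnX l hl, nm_mul, nm_conj hσ, div_self hnden]
  have hnm₂ : ∀ l, nm σ l = 1 → nm σ (m₂ l) = 1 := fun l hl => by
    simp only [hm₂]
    rw [nm_conj hσ, nm_div, nm_conj hσ, hnX l hl, nm_mul, nm_conj hσ, div_self hnden]
  have hzero : ∀ l m, nm σ l = 1 → nm σ m = 1 →
      r 2 * σ (r 3) * σ m + σ (r 2 * σ (r 3) * σ m) = X l + σ (X l) →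
      nm σ (r 0 + l * r 1) + nm σ (r 2 + m * r 3) = 1 := by
    intro l m hl hm hs
    have hl' : l * σ l = 1 := hl
    have hm' : m * σ m = 1 := hm
    simp only [hX, nm, map_add, map_mul, map_neg, hσ.invol] at hs hrow ⊢
    linear_combination hs + hrow + (r 1 * σ (r 1)) * hl' + (r 3 * σ (r 3)) * hm'
  set S₁ := (circ σ).image fun l => (l, m₁ l)
  set S₂ := (circ σ).image fun l => (l, m₂ l)
  obtain ⟨J, hJ, hJ'⟩ := many_targets h he hH hq hfix hg hfull (a := 0) (b := 1) (c := 2) (d := 3) (by decide) 0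
    (S₁ ∪ S₂) (fun p hp => by
      rcases Finset.mem_union.1 hp with hp | hp <;> obtain ⟨l, hl, rfl⟩ := Finset.mem_image.1 hp <;>
        have hl' := mem_circ.1 hl
      · refine ⟨hl', hnm₁ l hl', hzero l _ hl' (hnm₁ l hl') ?_⟩
        simp only [hm₁, hσ.invol, mul_div_cancel₀ _ hden]
      · refine ⟨hl', hnm₂ l hl', hzero l _ hl' (hnm₂ l hl') ?_⟩
        simp only [hm₂, hσ.invol, mul_div_cancel₀ _ hden]
        exact add_comm _ _)
  have hJ3 : J.card ≤ 3 := by
    have := Finset.card_le_card (show J ⊆ Finset.univ.erase 0 from fun j hj =>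
      Finset.mem_erase.2 ⟨(hJ' j hj).1, Finset.mem_univ _⟩)
    simpa using this
  have hinter : (S₁ ∩ S₂).card ≤ 2 := by
    set ρ := r 0 * σ (r 1) * 4 with hρ
    refine le_trans (Finset.card_le_card (t := {(ρ, m₁ ρ), (-ρ, m₁ (-ρ))}) fun p hp => ?_) Finset.card_le_two
    obtain ⟨hp1, hp2⟩ := Finset.mem_inter.1 hp
    obtain ⟨l, hl, hlp⟩ := Finset.mem_image.1 hp1
    obtain ⟨l₂, -, hlp₂⟩ := Finset.mem_image.1 hp2
    have e1 : l₂ = l := (congrArg Prod.fst hlp₂).trans (congrArg Prod.fst hlp).symm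
    have e' : m₂ l = m₁ l := by
      rw [← e1]
      exact (congrArg Prod.snd hlp₂).trans ((congrArg Prod.snd hlp).symm.trans (by rw [e1]))
    simp only [hm₁, hm₂] at e'
    have hreal : σ (X l) = X l := (div_left_inj' hden).1 (σ.injective e')
    have hl' : l * σ l = 1 := mem_circ.1 hl
    have e4 : (4 : F) * nm σ (r 1) = 1 := hcol 1
    have e40 : (4 : F) * nm σ (r 0) = 1 := hcol 0
    have hsq : ρ * ρ = l * l := by
      simp only [hX, map_neg, map_mul, hσ.invol, neg_inj] at hreal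
      simp only [nm] at e4 e40
      simp only [hρ]
      linear_combination (-16 * r 0 * σ (r 1) * l) * hreal + (l * l * (4 * (r 0 * σ (r 0)))) * e4 +
        (l * l) * e40 - (16 * (r 0 * σ (r 1)) * (r 0 * σ (r 1))) * hl'
    rw [Finset.mem_insert, Finset.mem_singleton, ← hlp]
    rcases mul_self_eq_mul_self_iff.1 hsq with e2 | e2
    · exact Or.inl (by rw [e2])
    · exact Or.inr (by rw [e2, neg_neg])
  have hcirc := card_circ hσ
  have h1 : S₁.card = Nat.card (fixedSub σ) + 1 := by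
    rw [Finset.card_image_of_injective _ fun a b e' => congrArg Prod.fst e', hcirc]
  have h2 : S₂.card = Nat.card (fixedSub σ) + 1 := by
    rw [Finset.card_image_of_injective _ fun a b e' => congrArg Prod.fst e', hcirc]
  have := Finset.card_union_add_card_inter S₁ S₂
  omega

end CfsgLib.Geo.SUFour
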