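/-
The stabiliser of four mutually orthogonal non-degenerate lines is maximal in SU(4) unless the fixed
field has three elements.
-/
import Cfsg.Agent.Lib.Geo.SUFour.MonomialFix
import Cfsg.Agent.Lib.Geo.SUFour.Blocks

set_option autoImplicit false
set_option linter.unusedSectionVars false
set_option linter.style.haveILetI false
set_option maxHeartbeats 1000000

namespace CfsgLib.Geo.SUFour

open CfsgLib.Classical CfsgLib.Classical.Herm CfsgLib.Geo.UnitMax CfsgLib.Geo.UnitDecomp

variable {F : Type*} [Field F] {σ : F →+* F} {V : Type*} [AddCommGroup V] [Module F V]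
  {B : V →ₛₗ[σ] V →ₗ[F] F} {e : Module.Basis (Fin 4) F V} [DecidableEq F]
  [FiniteDimensional F V] (h : IsHerm B) {M : Subgroup (HU B)} (he : IsFrame B e)
  (hH : ∀ g ∈ HSU B, Mon e g → g ∈ M)
include h he hH

/-- Over the field with four elements: all centres. -/
theorem ctr_all_four_two [Finite F] (hq : Nat.card (fixedSub σ) = 2) {g : HU B} (hg : g ∈ M) (hnm : ¬ Mon e g) :
    ∀ w : V, B w w = 0 → w ∈ Ctr h M := by
  classical
  haveI := Fintype.ofFinite F
  have hσ := h.invol
  obtain ⟨h2, hone, -⟩ := four_facts hσ hq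
  have hpair : ∀ (a b : Fin 4), a ≠ b → ∀ τ : F, nm σ τ = 1 → e a + τ • e b ∈ Ctr h M := by
    intro a b hab τ hτ
    obtain ⟨hw, hc, ht⟩ := swap_tr_mem h he hH h2 hab hτ
    refine ⟨hw, fun hw' c hc' => ?_⟩
    by_cases hc0 : c = 0
    · subst hc0
      rw [show h.tr hw' hc' = 1 from Subtype.ext (LinearEquiv.ext fun y => by simp [h.tr_apply])]
      exact M.one_mem
    · have hfix : σ c = c := by linear_combination hc' - c * h2
      have hc1 : c = 1 := by
        have h1 := hone c hc0
        rw [nm, hfix] at h1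
        have h3 : (c - 1) * (c - 1) = 0 := by linear_combination h1 - (c - 1) * h2
        exact sub_eq_zero.1 (mul_self_eq_zero.1 h3)
      subst hc1
      exact ht
  have hodd : ∀ (g : HU B) (x : Fin 4), (supp e ((g : V ≃ₗ[F] V) (e x))).card = 1 ∨
      (supp e ((g : V ≃ₗ[F] V) (e x))).card = 3 := by
    intro g x
    have h1 := self_card h he hone ((g : V ≃ₗ[F] V) (e x))
    rw [HU.map_eq, he x x, if_pos rfl] at h1
    have h4 := Finset.card_le_univ (supp e ((g : V ≃ₗ[F] V) (e x)))
    rw [Fintype.card_fin] at h4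
    revert h1 h4
    generalize (supp e ((g : V ≃ₗ[F] V) (e x))).card = n
    intro h1 h4
    interval_cases n
    · simp at h1
    · exact Or.inl rfl
    · exact absurd h1 (by rw [Nat.cast_ofNat, h2]; exact one_ne_zero)
    · exact Or.inr rfl
    · exfalso
      push_cast at h1
      exact one_ne_zero (α := F) (by linear_combination h1 + 2 * h2)
  -- a centre with full support
  obtain ⟨v, hv, hfullv⟩ : ∃ v ∈ Ctr h M, ∀ z, e.repr v z ≠ 0 := by
    obtain ⟨x, hx⟩ := exists_col_of_not_mon hnm
    set u := (g : V ≃ₗ[F] V) (e x) with hu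
    have hu3 : (supp e u).card = 3 := (hodd g x).resolve_left (by rw [← hu]; omega)
    obtain ⟨d, -, hd⟩ := Finset.exists_mem_notMem_of_card_lt_card (s := supp e u) (t := Finset.univ)
      (by rw [hu3, Finset.card_univ, Fintype.card_fin]; omega)
    obtain ⟨x', hx'⟩ : ∃ x', d ∈ supp e ((g : V ≃ₗ[F] V) (e x')) := by
      by_contra! hc
      have := col_card h he g Finset.univ (Finset.univ.erase d) (fun z _ w hw =>
        Finset.mem_erase.2 ⟨fun e' => hc z (e' ▸ hw), Finset.mem_univ _⟩)
      simp at this
    have hxx : x ≠ x' := fun e' => hd (by rw [hu, e']; exact hx')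
    set u' := (g : V ≃ₗ[F] V) (e x') with hu'
    set I := supp e u ∩ supp e u'
    have hI : I.card ≤ 2 := by
      have h1 : (supp e u').card ≤ 3 := by rcases hodd g x' with e' | e' <;> rw [← hu'] at e' <;> omega
      have h3 := Finset.card_le_card (show I ⊆ (supp e u').erase d from fun z hz =>
        Finset.mem_erase.2 ⟨fun e' => hd (e' ▸ (Finset.mem_inter.1 hz).1), (Finset.mem_inter.1 hz).2⟩)
      rw [Finset.card_erase_of_mem hx'] at h3
      omega
    obtain ⟨τ, hτ, hτI⟩ := Finset.exists_mem_notMem_of_card_lt_card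
      (s := I.image fun z => -(e.repr u z / e.repr u' z)) (t := circ σ) (by
        rw [card_circ hσ, hq]
        exact lt_of_le_of_lt (Finset.card_image_le.trans hI) (by omega))
    refine ⟨_, ctr_conj h (hpair x x' hxx τ (mem_circ.1 hτ)) hg, fun z => ?_⟩
    rw [map_add, map_smul, map_add, map_smul, Finsupp.add_apply, Finsupp.smul_apply, smul_eq_mul, ← hu, ← hu']
    by_cases h1 : z ∈ supp e u
    · by_cases h3 : z ∈ supp e u'
      · intro e'
        refine hτI (Finset.mem_image.2 ⟨z, Finset.mem_inter.2 ⟨h1, h3⟩, ?_⟩)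
        have := mem_supp.1 h3
        field_simp
        linear_combination -e'
      · rw [not_mem_supp.1 h3, mul_zero, add_zero]
        exact mem_supp.1 h1
    · rw [not_mem_supp.1 h1, zero_add]
      refine mul_ne_zero (ne_zero_of_norm_one (mem_circ.1 hτ)) (mem_supp.1 ?_)
      have : supp e u = Finset.univ.erase d := Finset.eq_of_subset_of_card_le
        (fun w hw => Finset.mem_erase.2 ⟨fun e' => hd (e' ▸ hw), Finset.mem_univ _⟩) (by simp [hu3])
      rw [this] at h1
      simp only [Finset.mem_erase, Finset.mem_univ, and_true, not_not] at h1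
      rw [h1]
      exact hx'
  intro w hww
  by_cases hw0 : w = 0
  · rw [hw0]; exact ctr_zero h
  obtain ⟨r, hr⟩ := even_card h he h2 hone hww
  have h4 := Finset.card_le_univ (supp e w)
  rw [Fintype.card_fin] at h4
  have hpos := (supp_nonempty (e := e) hw0).card_pos
  rcases (show (supp e w).card = 2 ∨ (supp e w).card = 4 by omega) with hc | hc
  · obtain ⟨a, b, hab, hs⟩ := Finset.card_eq_two.1 hc
    have ha : e.repr w a ≠ 0 := mem_supp.1 (by rw [hs]; simp)
    have hb : e.repr w b ≠ 0 := mem_supp.1 (by rw [hs]; simp)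
    have := ctr_smul h (hpair a b hab (e.repr w b / e.repr w a) (by rw [nm_div, hone _ ha, hone _ hb, div_one]))
      (e.repr w a)
    rw [smul_add, smul_smul, mul_div_cancel₀ _ ha] at this
    convert this using 1
    conv_lhs => rw [← e.sum_repr w]
    exact Finset.sum_eq_add a b hab (fun z _ hz => by
      rw [not_mem_supp.1 (by rw [hs]; simp [hz.1, hz.2]), zero_smul]) (by simp) (by simp)
  · have hwz : ∀ z, e.repr w z ≠ 0 := fun z => mem_supp.1 (by
      rw [Finset.eq_of_subset_of_card_le (Finset.subset_univ (supp e w))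
        (by rw [hc, Finset.card_univ, Fintype.card_fin])]
      exact Finset.mem_univ z)
    set c : F := ∏ z, e.repr w z / e.repr v z with hc_def
    have hc0 : c ≠ 0 := Finset.prod_ne_zero_iff.2 fun z _ => div_ne_zero (hwz z) (hfullv z)
    have hc3 : c * c * c = 1 := by
      have h3 : c * σ c = 1 := hone c hc0
      have : σ c = c * c := by rw [hσ.apply_eq_pow, hq, sq]
      rw [this] at h3
      linear_combination h3
    set L : Fin 4 → F := fun z => e.repr w z / (c * e.repr v z)
    obtain ⟨v', hv', hvr⟩ := ctr_scale h he hH hv (l := L) (fun z => hone _ (div_ne_zero (hwz z) (mul_ne_zero hc0 (hfullv z))))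
      (Or.inl (by
        simp only [L, hc_def]
        rw [Finset.prod_div_distrib, Finset.prod_mul_distrib, Finset.prod_const, Finset.card_univ, Fintype.card_fin,
          ← hc_def]
        have h5 : ∏ z, e.repr w z = c * ∏ z, e.repr v z := by
          rw [hc_def, Finset.prod_div_distrib, div_mul_cancel₀ _ (Finset.prod_ne_zero_iff.2 fun z _ => hfullv z)]
        rw [h5, show c ^ 4 = c by linear_combination c * hc3]
        exact div_self (mul_ne_zero hc0 (Finset.prod_ne_zero_iff.2 fun z _ => hfullv z))))
    convert ctr_smul h hv' c using 1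
    refine e.repr.injective (Finsupp.ext fun z => ?_)
    rw [map_smul, Finsupp.smul_apply, hvr, smul_eq_mul]
    have := hfullv z
    simp only [L]
    field_simp

/-- An overgroup of the monomial group with a further element is everything. -/
theorem top_of_not_mon [Finite F] (hq : Nat.card (fixedSub σ) = 2 ∨ 4 ≤ Nat.card (fixedSub σ)) {g : HU B}
    (hg : g ∈ M) (hnm : ¬ Mon e g) : HSU B ≤ M := by
  classical
  have hfr : Module.finrank F V = 4 := by rw [Module.finrank_eq_card_basis e, Fintype.card_fin]
  refine mem_one_of_all h (by omega) (fun h3 => by omega) ?_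
  rcases hq with hq | hq
  · exact ctr_all_four_two h he hH hq hg hnm
  · obtain ⟨a₀, c₀, hac, y, hy, hys⟩ := pair_of_fix h he hH (by omega) (fixLine_of_not_mon h he hH hq hg hnm)
    refine ctr_all h he hH (by simp) (fun a b hab w hw hww => ?_) (by omega)
    obtain ⟨π, ea, ec⟩ : ∃ π : Equiv.Perm (Fin 4), π a₀ = a ∧ π c₀ = b := by
      clear * - hac hab
      revert a₀ c₀ a b; decide
    exact two_perm h he hH (by simp) hac hy hys π (fun x x' hx => congrArg π hx) w (by rw [ea, ec]; exact hw) hww

end CfsgLib.Geo.SUFour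

namespace CfsgLib.Geo.SUFour

open CfsgLib.Classical CfsgLib.Classical.Herm CfsgLib.Geo.UnitMax CfsgLib.Geo.UnitDecomp

variable {F : Type*} [Field F] [Fintype F]

/-- The stabiliser of four mutually orthogonal non-degenerate lines is maximal. -/
theorem isMaximalIn_monomial {q : ℕ} (hF : Fintype.card F = q ^ 2) (hq : q ≠ 3)
    {D : Fin 4 → Submodule F (Fin 4 → F)}
    (hD : Cfsg.Geo.IsNondegenerateMDecomposition (Cfsg.hermForm 4 F q) 1 D) :
    Cfsg.Geo.IsMaximalIn (Cfsg.GU 4 F q ⊓ Cfsg.Geo.specialLinear (Fin 4) F)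
      (Cfsg.Geo.decompositionStabilizer D ⊓ (Cfsg.GU 4 F q ⊓ Cfsg.Geo.specialLinear (Fin 4) F)) := by
  classical
  refine decomp_maximal_of_top hF le_rfl hD fun e he M hH g hg hnb => ?_
  have h := hermStd_isHerm (n := 4) hF
  let ψ : Fin 4 × Fin 1 ≃ Fin 4 := Equiv.prodUnique _ _
  set e' := e.reindex ψ
  have he' : IsFrame (hermStd 4 hF) e' := fun i j => by
    simp only [e', Module.Basis.reindex_apply]
    rw [he]
    simp [ψ.symm.injective.eq_iff]
  have hiff : ∀ g : HU (hermStd 4 hF), Mon e' g ↔ Blk e Prod.fst g := fun g => by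
    have hinj : ∀ x x' : Fin 4 × Fin 1, x.1 = x'.1 → x = x' := fun x x' e1 => Prod.ext e1 (Subsingleton.elim _ _)
    constructor
    · intro hm x x' hx y y' hy hy'
      have := hm (ψ x) (ψ x') (congrArg ψ (hinj x x' hx)) (ψ y) (ψ y')
        (by simpa [e', Module.Basis.repr_reindex_apply] using hy)
        (by simpa [e', Module.Basis.repr_reindex_apply] using hy')
      exact congrArg Prod.fst (ψ.injective this)
    · intro hb x x' hx y y' hy hy'
      have := hb (ψ.symm x) (ψ.symm x') (by rw [show x = x' from hx]) (ψ.symm y) (ψ.symm y')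
        (by simpa [e', Module.Basis.repr_reindex_apply] using hy)
        (by simpa [e', Module.Basis.repr_reindex_apply] using hy')
      exact ψ.symm.injective (hinj _ _ this)
  have hq' : Nat.card (fixedSub (powHom hF)) = 2 ∨ 4 ≤ Nat.card (fixedSub (powHom hF)) := by
    rw [fixed_card hF]
    have : 1 < Fintype.card F := Fintype.one_lt_card
    rw [hF] at this
    rcases (show q = 0 ∨ q = 1 ∨ q = 2 ∨ 4 ≤ q by omega) with rfl | rfl | h2 | h4
    · norm_num at this
    · norm_num at this
    · exact Or.inl h2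
    · exact Or.inr h4
  exact top_of_not_mon h he' (fun x hx hm => hH x hx ((hiff x).1 hm)) hq' hg fun hm => hnb ((hiff g).1 hm)

end CfsgLib.Geo.SUFour
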