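import Cfsg.Agent.Lib.Geo.UnitMaximal

/-!
# Stabilisers of non-degenerate points are maximal in unitary groups of dimension at least four
-/

set_option autoImplicit false

namespace CfsgLib.Geo.SUFour

open CfsgLib.Classical CfsgLib.Classical.Herm CfsgLib.Geo.UnitMax

variable {F : Type*} [Field F] {V : Type*} [AddCommGroup V] [Module F V] {σ : F →+* F}
  {B : V →ₛₗ[σ] V →ₗ[F] F} [FiniteDimensional F V] (h : IsHerm B)
include h

/-- The stabiliser of a non-degenerate point is maximal. -/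
theorem isMaximalIn_point [Finite F] (h4 : 4 ≤ Module.finrank F V) {W : Submodule F V}
    (hW : ∀ x ∈ W, (∀ y ∈ W, B x y = 0) → x = 0) (h1 : Module.finrank F W = 1) :
    Cfsg.Geo.IsMaximalIn (HSU B) (stab B W) := by
  have hU := h.orth_nondeg hW
  have hfin := h.finrank_orth hW
  have hU3 : 3 ≤ Module.finrank F (h.orth W) := by omega
  have hWU := Submodule.disjoint_def.1 (h.isCompl_orth hW).disjoint
  have aniso : ∀ a ∈ W, a ≠ 0 → B a a ≠ 0 := by
    intro a ha ha0 haa
    refine ha0 (hW a ha fun y hy => ?_)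
    obtain ⟨c, hc⟩ := exists_smul_eq_of_finrank_eq_one h1 (x := (⟨a, ha⟩ : W))
      (fun e => ha0 (congrArg Subtype.val e)) ⟨y, hy⟩
    have hc' : c • a = y := congrArg Subtype.val hc
    rw [← hc', smul_right, haa, mul_zero]
  obtain ⟨θ, hθ0, hθ⟩ := h.exists_skew
  refine ⟨lt_of_le_of_ne inf_le_right ?_, fun M hM hMS => ?_⟩
  · intro e
    obtain ⟨a, ha, haa⟩ := h.exists_norm_in hW (by omega) (map_one σ)
    obtain ⟨b, hb, hb0, hbb⟩ := exists_ne_zero_norm h hU (μ := (-1 : F)) (by omega) (by simp)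
    have hab : B a b = 0 := h.mem_orth.1 hb a ha
    have hvv : B (a + b) (a + b) = 0 := by rw [h.add_self_of_perp hab, haa, hbb, add_neg_cancel]
    have hmem : h.tr hvv hθ ∈ stab B W := e.ge (h.det_tr hvv hθ)
    have h1' := (hmem.1 a).1 ha
    rw [h.tr_apply, W.add_mem_iff_right ha, add_left, haa, h.eq_zero_symm hab, add_zero, mul_one,
      W.smul_mem_iff hθ0, W.add_mem_iff_right ha] at h1'
    exact hb0 (hWU b h1' hb)
  rcases eq_or_lt_of_le hM with e | e
  · exact Or.inl e.symm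
  obtain ⟨g, hgM, hg⟩ := SetLike.exists_of_lt e
  refine Or.inr (le_antisymm hMS (le_of_hasTr h h4 fun v hvv => ?_))
  obtain ⟨u, hu, huu, hguW, hguU⟩ := exists_isotropic_mixed h hW (by omega) hU3 (fun hc => hg ⟨hc, hMS hgM⟩)
  have hz := (hasTr_stab h hM (Or.inr hu)).conj h hgM
  have hzz : B ((g : V ≃ₗ[F] V) u) ((g : V ≃ₗ[F] V) u) = 0 := (HU.map_eq g u u).trans huu
  obtain ⟨a, b, ha, hb, hab⟩ := Submodule.codisjoint_iff_exists_add_eq.1
    (h.isCompl_orth hW).codisjoint ((g : V ≃ₗ[F] V) u)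
  rw [← hab] at hz hzz hguW hguU
  have ha0 : a ≠ 0 := fun e => hguU (by rw [e, zero_add]; exact hb)
  have hb0 : b ≠ 0 := fun e => hguW (by rw [e, add_zero]; exact ha)
  obtain ⟨a', b', ha', hb', rfl⟩ := Submodule.codisjoint_iff_exists_add_eq.1
    (h.isCompl_orth hW).codisjoint v
  rcases eq_or_ne a' 0 with rfl | ha'0
  · exact hasTr_stab h hM (Or.inr (by rwa [zero_add])) hvv
  have hμ := aniso a ha ha0
  have hμ' := aniso a' ha' ha'0
  obtain ⟨c, hc⟩ := h.invol.exists_norm_eq (μ := B a a / B a' a')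
    (by rw [map_div₀, h.self_fixed, h.self_fixed])
  have hc0 : c ≠ 0 := by
    rintro rfl
    rw [zero_mul] at hc
    exact div_ne_zero hμ hμ' hc.symm
  have hb'0 : b' ≠ 0 := fun e => hμ' (by rwa [e, add_zero] at hvv)
  have hn : B a a = B (c • a') (c • a') := by rw [IsHerm.smul_self, hc, div_mul_cancel₀ _ hμ']
  have hv2 : B (c • a' + c • b') (c • a' + c • b') = 0 := by rw [← smul_add, IsHerm.smul_self, hvv, mul_zero]
  obtain ⟨s, hs, hsv⟩ := transitive_mixed h hW hU3 ha (W.smul_mem c ha') hb (Submodule.smul_mem _ c hb') ha0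
    (smul_ne_zero hc0 ha'0) hb0 (smul_ne_zero hc0 hb'0) hn (by
      rw [h.add_self_of_perp (h.mem_orth.1 hb a ha)] at hzz
      rw [h.add_self_of_perp (h.mem_orth.1 (Submodule.smul_mem _ c hb') _ (W.smul_mem c ha')), ← hn] at hv2
      linear_combination hzz - hv2)
  have hT := hz.conj h (hM hs)
  rw [hsv, ← smul_add] at hT
  exact (HasTr.of_smul h hc0 hT) hvv

end CfsgLib.Geo.SUFour
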