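/-
Orthogonal subfield subgroups are maximal in four-dimensional SU, for fields of odd order at least five.
-/
import Cfsg.Agent.Lib.Geo.UnitaryOrthSubfield
import Cfsg.Agent.Lib.Classical.Quad.Universal
import Cfsg.Agent.Lib.Classical.Quad.Sym
import Cfsg.Agent.Lib.Classical.ClassTheory.UnitaryTwoGenerated

set_option autoImplicit false

namespace CfsgLib.Geo.SUFour.OrthSub

open Matrix CfsgLib.Classical CfsgLib.Classical.Herm CfsgLib.Geo.UnitMax CfsgLib.Geo.UnitSympSub
open CfsgLib.Geo.QuadSim CfsgLib.Classical.ClassTheory.UnitaryGen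
open QuadraticMap (polar polarBilin)

variable {F : Type*} [Field F] {σ : F →+* F}

/-- The form restricted to the rational vectors is the polar form of `Q`; the element `γ` is skew. -/
structure Setup (B : (Fin 4 → F) →ₛₗ[σ] (Fin 4 → F) →ₗ[F] F) (F₀ : Subfield F)
    (P : Matrix.GeneralLinearGroup (Fin 4) F) (Q : QuadraticForm F₀ (Fin 4 → F₀)) (γ : F) : Prop where
  herm : IsHerm B
  val : ∀ x y, B (rat F₀ P x) (rat F₀ P y) = ((polar ⇑Q x y : F₀) : F)
  nondeg : (polarBilin Q).Nondegenerate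
  fix : ∀ c, c ∈ F₀ ↔ σ c = c
  skew : σ γ = -γ
  ne : γ ≠ 0
  split : ∀ v, ∃ a b, v = rat F₀ P a + γ • rat F₀ P b
  odd : (2 : F) ≠ 0
  card : 5 ≤ Nat.card F₀

variable {B : (Fin 4 → F) →ₛₗ[σ] (Fin 4 → F) →ₗ[F] F} {F₀ : Subfield F}
  {P : Matrix.GeneralLinearGroup (Fin 4) F} {Q : QuadraticForm F₀ (Fin 4 → F₀)} {γ : F}

variable (s : Setup B F₀ P Q γ)
include s

theorem Setup.fix_coe (c : F₀) : σ (c : F) = c := (s.fix _).1 c.2

theorem Setup.out : γ ∉ F₀ := fun hm => by
  have h := (s.fix γ).1 hm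
  rw [s.skew] at h
  exact s.ne ((mul_eq_zero.1 (show (2 : F) * γ = 0 by linear_combination -h)).resolve_left s.odd)

theorem Setup.two : (2 : F₀) ≠ 0 := fun h0 => s.odd (by rw [← map_ofNat F₀.subtype 2, h0, map_zero])

/-- The square of `γ`. -/
def Setup.nu : F₀ := ⟨γ * γ, (s.fix _).2 (by rw [map_mul, s.skew, neg_mul_neg])⟩

theorem Setup.coe_nu : ((s.nu : F₀) : F) = γ * γ := rfl

theorem Setup.coe_two : ((2 : F₀) : F) = 2 := map_ofNat F₀.subtype 2

theorem Setup.coe_four : ((4 : F₀) : F) = 4 := map_ofNat F₀.subtype 4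

theorem Setup.coe_eight : ((8 : F₀) : F) = 8 := map_ofNat F₀.subtype 8

theorem Setup.split_zero {x y : F₀} (h : (x : F) + γ * y = 0) : x = 0 ∧ y = 0 := by
  by_cases hy : y = 0
  · rw [hy, ZeroMemClass.coe_zero, mul_zero, add_zero] at h
    exact ⟨Subtype.ext h, hy⟩
  · refine absurd ?_ s.out
    have hy' : (y : F) ≠ 0 := fun h0 => hy (Subtype.ext h0)
    rw [show γ = -(x : F) / y by field_simp; linear_combination h]
    exact div_mem (neg_mem x.2) y.2

theorem Setup.norm_zero {x y : F₀} (h : x * x = s.nu * (y * y)) : x = 0 ∧ y = 0 := by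
  have h' : (x : F) * x = γ * γ * ((y : F) * y) := by
    have := congrArg (fun z : F₀ => (z : F)) h
    simpa [Setup.coe_nu] using this
  have : ((x : F) + γ * y) * ((x : F) + γ * ((-y : F₀) : F)) = 0 := by
    rw [NegMemClass.coe_neg]; linear_combination h'
  rcases mul_eq_zero.1 this with h0 | h0
  · exact s.split_zero h0
  · obtain ⟨h1, h2⟩ := s.split_zero h0
    exact ⟨h1, neg_eq_zero.1 h2⟩

theorem Setup.val_self (w : Fin 4 → F₀) : B (rat F₀ P w) (rat F₀ P w) = 2 * ((Q w : F₀) : F) := by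
  rw [s.val, QuadraticMap.polar_self, two_smul, Subfield.coe_add, two_mul]

theorem Setup.val_zero {w x : Fin 4 → F₀} (h : polar ⇑Q w x = 0) : B (rat F₀ P w) (rat F₀ P x) = 0 := by
  rw [s.val, h, ZeroMemClass.coe_zero]

theorem Setup.val_one {w x : Fin 4 → F₀} (h : polar ⇑Q w x = 1) : B (rat F₀ P w) (rat F₀ P x) = 1 := by
  rw [s.val, h, OneMemClass.coe_one]

theorem Setup.iso {w : Fin 4 → F₀} (h : Q w = 0) : B (rat F₀ P w) (rat F₀ P w) = 0 := by
  rw [s.val_self, h, ZeroMemClass.coe_zero, mul_zero]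

theorem Setup.rat_ne_zero {w : Fin 4 → F₀} (hw : w ≠ 0) : rat F₀ P w ≠ 0 := fun h =>
  hw (rat_injective (P := P) (by rw [h, rat_zero]))

theorem Setup.trace_rat (x : Fin 4 → F₀) :
    -((Q x : F₀) : F) + σ (-((Q x : F₀) : F)) = -B (rat F₀ P x) (rat F₀ P x) := by
  rw [map_neg, s.fix_coe, s.val_self]
  ring

theorem Setup.right_split (z a b : Fin 4 → F₀) :
    B (rat F₀ P z) (rat F₀ P a + γ • rat F₀ P b) = ((polar ⇑Q z a : F₀) : F) + γ * ((polar ⇑Q z b : F₀) : F) := by
  rw [map_add, map_smul, s.val, s.val, smul_eq_mul]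

theorem Setup.left_split (z a b : Fin 4 → F₀) :
    B (rat F₀ P a + γ • rat F₀ P b) (rat F₀ P z) = ((polar ⇑Q a z : F₀) : F) - γ * ((polar ⇑Q b z : F₀) : F) := by
  rw [LinearMap.map_add₂, smul_left, s.val, s.val, s.skew]
  ring

/-- A splitting is unique. -/
theorem Setup.split_inj {a b a' b' : Fin 4 → F₀}
    (h : rat F₀ P a + γ • rat F₀ P b = rat F₀ P a' + γ • rat F₀ P b') : a = a' ∧ b = b' := by
  have key : ∀ z, polar ⇑Q z a = polar ⇑Q z a' ∧ polar ⇑Q z b = polar ⇑Q z b' := fun z => by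
    have e := congrArg (B (rat F₀ P z)) h
    rw [s.right_split, s.right_split] at e
    obtain ⟨h1, h2⟩ := s.split_zero (x := polar ⇑Q z a - polar ⇑Q z a') (y := polar ⇑Q z b - polar ⇑Q z b') (by
      push_cast; linear_combination e)
    exact ⟨sub_eq_zero.1 h1, sub_eq_zero.1 h2⟩
  constructor <;> refine sub_eq_zero.1 (s.nondeg.2 _ fun z => ?_) <;>
    rw [QuadraticMap.polarBilin_apply_apply, QuadraticMap.polar_sub_right, sub_eq_zero]
  exacts [(key z).1, (key z).2]

variable [Finite F]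

/-! ### Elements -/

/-- The map underlying a rational reflection. -/
noncomputable def rMap (_s : Setup B F₀ P Q γ) (u : Fin 4 → F₀) : (Fin 4 → F) →ₗ[F] (Fin 4 → F) :=
  LinearMap.id - (((Q u : F₀) : F)⁻¹ • B (rat F₀ P u)).smulRight (rat F₀ P u)

theorem rMap_apply (u : Fin 4 → F₀) (z : Fin 4 → F) :
    rMap s u z = z - (((Q u : F₀) : F)⁻¹ * B (rat F₀ P u) z) • rat F₀ P u := by
  simp [rMap]

theorem rMap_preserves {u : Fin 4 → F₀} (hu : Q u ≠ 0) (y z : Fin 4 → F) : B (rMap s u y) (rMap s u z) = B y z := by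
  have hq : ((Q u : F₀) : F) ≠ 0 := fun h => hu (Subtype.ext h)
  simp only [rMap_apply, map_sub, LinearMap.sub_apply, smul_left, smul_right, s.val_self, map_mul, map_inv₀,
    s.fix_coe, s.herm.symm]
  field_simp
  ring

/-- A rational reflection. -/
noncomputable def rU {u : Fin 4 → F₀} (hu : Q u ≠ 0) : HU B := s.herm.ofPreserves (rMap s u) (rMap_preserves s hu)

theorem rU_apply {u : Fin 4 → F₀} (hu : Q u ≠ 0) (z : Fin 4 → F) :
    (rU s hu : (Fin 4 → F) ≃ₗ[F] (Fin 4 → F)) z =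
      z - (((Q u : F₀) : F)⁻¹ * B (rat F₀ P u) z) • rat F₀ P u := by
  rw [rU, IsHerm.ofPreserves_apply, rMap_apply]

theorem rU_rat {u : Fin 4 → F₀} (hu : Q u ≠ 0) (z : Fin 4 → F₀) :
    (rU s hu : (Fin 4 → F) ≃ₗ[F] (Fin 4 → F)) (rat F₀ P z) = rat F₀ P (z - ((Q u)⁻¹ * polar ⇑Q u z) • u) := by
  rw [rU_apply, s.val, sub_eq_add_neg (G := Fin 4 → F₀), ← neg_smul, rat_add, rat_smul]
  push_cast
  module

theorem rU_perp {u : Fin 4 → F₀} (hu : Q u ≠ 0) {z : Fin 4 → F} (hz : B (rat F₀ P u) z = 0) :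
    (rU s hu : (Fin 4 → F) ≃ₗ[F] (Fin 4 → F)) z = z := by
  rw [rU_apply, hz, mul_zero, zero_smul, sub_zero]

theorem rU_det {u : Fin 4 → F₀} (hu : Q u ≠ 0) :
    ((HU.det B (rU s hu) : Fˣ) : F) = -1 := by
  have hq : ((Q u : F₀) : F) ≠ 0 := fun h => hu (Subtype.ext h)
  show ((LinearEquiv.det (rU s hu : (Fin 4 → F) ≃ₗ[F] (Fin 4 → F)) : Fˣ) : F) = -1
  have h2 : rMap s u = LinearMap.transvection (-(((Q u : F₀) : F)⁻¹ • B (rat F₀ P u))) (rat F₀ P u) :=
    LinearMap.ext fun y => by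
      rw [rMap_apply, LinearMap.transvection.apply]
      simp [sub_eq_add_neg]
  rw [LinearEquiv.coe_det, rU, IsHerm.coe_ofPreserves, h2, LinearMap.transvection.det]
  simp only [LinearMap.neg_apply, LinearMap.smul_apply, s.val_self, smul_eq_mul]
  field_simp
  norm_num

/-- The special isometries preserving the rational vectors lie in the subgroup. -/
def HasRat (_s : Setup B F₀ P Q γ) (K : Subgroup (HU B)) : Prop :=
  ∀ k : HU B, k ∈ HSU B → (∀ x, ∃ y, (k : (Fin 4 → F) ≃ₗ[F] (Fin 4 → F)) (rat F₀ P x) = rat F₀ P y) → k ∈ K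

variable {K : Subgroup (HU B)}

theorem pair_mem (hK : HasRat s K) {u u' : Fin 4 → F₀} (hu : Q u ≠ 0) (hu' : Q u' ≠ 0) :
    rU s hu * rU s hu' ∈ K := by
  refine hK _ ?_ fun x => ?_
  · show HU.det B (rU s hu * rU s hu') = 1
    rw [map_mul, Units.ext_iff, Units.val_mul, rU_det s hu, rU_det s hu', Units.val_one]
    norm_num
  · rw [Subgroup.coe_mul, LinearEquiv.mul_apply, rU_rat s hu', rU_rat s hu]
    exact ⟨_, rfl⟩

theorem eich_rat (hK : HasRat s K) (w x : Fin 4 → F₀) (hu : B (rat F₀ P w) (rat F₀ P w) = 0)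
    (hux : B (rat F₀ P w) (rat F₀ P x) = 0) {a : F} (ha : a + σ a = -B (rat F₀ P x) (rat F₀ P x))
    (hq : a = -((Q x : F₀) : F)) : s.herm.eich hu hux ha ∈ K := by
  refine hK _ (s.herm.eich_mem hu hux ha) fun z =>
    ⟨z + polar ⇑Q w z • x + (-Q x * polar ⇑Q w z - polar ⇑Q x z) • w, ?_⟩
  rw [IsHerm.eich_apply, rat_add, rat_add, rat_smul, rat_smul, s.val, s.val, hq]
  simp only [Subfield.coe_sub, Subfield.coe_mul, Subfield.coe_neg]

/-! ### Rational singular vectors -/

omit [Finite F] in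
theorem avoid [Finite F] (S : Finset F₀) (hS : S.card ≤ 4) : ∃ x : F₀, x ∉ S := by
  haveI : Fintype F₀ := Fintype.ofFinite F₀
  have := s.card
  rw [Nat.card_eq_fintype_card] at this
  by_contra! h
  rw [Finset.eq_univ_iff_forall.2 h, Finset.card_univ] at hS
  omega

theorem exists_singular_ne {x : Fin 4 → F₀} (hx : x ≠ 0) : ∃ z, Q z = 0 ∧ polar ⇑Q x z ≠ 0 := by
  by_contra! hc
  have hle : (⊤ : Submodule F₀ (Fin 4 → F₀)) ≤ LinearMap.ker (polarBilin Q x) :=
    QuadSim.le_of_singular_odd s.nondeg s.two (by rw [finrank_top, Module.finrank_fin_fun, Fintype.card_fin]; omega)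
      fun z _ hz => hc z hz
  exact hx (s.nondeg.1 x fun z => hle (Submodule.mem_top (x := z)))

theorem exists_aniso_perp {u v : Fin 4 → F₀} (hu : Q u = 0) (hv : Q v = 0) (huv : polar ⇑Q u v ≠ 0) :
    ∃ a, polar ⇑Q u a = 0 ∧ polar ⇑Q v a = 0 ∧ Q a ≠ 0 := by
  by_contra! hc
  set L := cut (cut ⊤ Q u) Q v with hL
  have h1 := finrank_cut (Q := Q) (⊤ : Submodule F₀ (Fin 4 → F₀)) u
  have h2 := finrank_cut (Q := Q) (cut ⊤ Q u) v
  rw [finrank_top, Module.finrank_fin_fun, ← hL] at *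
  obtain ⟨a, ha, ha0⟩ := Submodule.exists_mem_ne_zero_of_ne_bot (p := L)
    fun h => by rw [h, finrank_bot] at h2; omega
  refine ha0 (s.nondeg.1 a fun y => ?_)
  have hy : y - ((polar ⇑Q u v)⁻¹ * polar ⇑Q v y) • u - ((polar ⇑Q u v)⁻¹ * polar ⇑Q u y) • v ∈ L := by
    refine ⟨⟨trivial, ?_⟩, ?_⟩
    · show polar ⇑Q u _ = 0
      rw [QuadraticMap.polar_sub_right, QuadraticMap.polar_sub_right, Quad.polar_smul_right', Quad.polar_smul_right',
        Quad.polar_self', hu]
      field_simp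
      ring
    · show polar ⇑Q v _ = 0
      rw [QuadraticMap.polar_sub_right, QuadraticMap.polar_sub_right, Quad.polar_smul_right', Quad.polar_smul_right',
        Quad.polar_self', hv, QuadraticMap.polar_comm (⇑Q) v u]
      field_simp
      ring
  have h0 : ∀ p ∈ L, Q p = 0 := fun p hp => hc p hp.1.2 hp.2
  have e : polar ⇑Q a (y - ((polar ⇑Q u v)⁻¹ * polar ⇑Q v y) • u - ((polar ⇑Q u v)⁻¹ * polar ⇑Q u y) • v) = 0 := by
    rw [QuadraticMap.polar, h0 _ (L.add_mem ha hy), h0 _ ha, h0 _ hy]; ring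
  rw [QuadraticMap.polar_sub_right, QuadraticMap.polar_sub_right, Quad.polar_smul_right', Quad.polar_smul_right',
    QuadraticMap.polar_comm _ a u, QuadraticMap.polar_comm _ a v, show polar ⇑Q u a = 0 from ha.1.2,
    show polar ⇑Q v a = 0 from ha.2] at e
  simpa using e

theorem exists_common {x y : Fin 4 → F₀} (hx : x ≠ 0) (hy : y ≠ 0) :
    ∃ z, Q z = 0 ∧ polar ⇑Q x z ≠ 0 ∧ polar ⇑Q y z ≠ 0 := by
  classical
  obtain ⟨z₁, hz₁, hx₁⟩ := exists_singular_ne s hx
  obtain ⟨z₂, hz₂, hy₂⟩ := exists_singular_ne s hy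
  by_cases h1 : polar ⇑Q y z₁ = 0
  swap
  · exact ⟨z₁, hz₁, hx₁, h1⟩
  by_cases h2 : polar ⇑Q x z₂ = 0
  swap
  · exact ⟨z₂, hz₂, h2, hy₂⟩
  by_cases hzz : polar ⇑Q z₁ z₂ = 0
  · refine ⟨z₁ + z₂, by rw [Quad.apply_add, hz₁, hz₂, hzz]; ring, ?_, ?_⟩
    · rwa [Quad.polar_add_right', h2, add_zero]
    · rwa [Quad.polar_add_right', h1, zero_add]
  obtain ⟨a, ha₁, ha₂, hqa⟩ := exists_aniso_perp s hz₁ hz₂ hzz
  set c := -Q a / polar ⇑Q z₁ z₂ with hc
  have hc0 : c ≠ 0 := div_ne_zero (neg_ne_zero.2 hqa) hzz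
  obtain ⟨t, ht⟩ := avoid s {0, -polar ⇑Q x z₁ / polar ⇑Q x a, -polar ⇑Q y a / (c * polar ⇑Q y z₂)}
    (le_trans Finset.card_le_three (by norm_num))
  simp only [Finset.mem_insert, Finset.mem_singleton, not_or] at ht
  refine ⟨z₁ + t • a + (c * t * t) • z₂, ?_, ?_, ?_⟩
  · simp only [Quad.apply_add, Quad.apply_smul, Quad.polar_add_left', Quad.polar_smul_left',
      Quad.polar_smul_right', hz₁, hz₂, ha₁, QuadraticMap.polar_comm _ a z₂, ha₂]
    rw [hc]; field_simp; ring
  · simp only [Quad.polar_add_right', Quad.polar_smul_right', h2, mul_zero, add_zero]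
    intro e
    rcases eq_or_ne (polar ⇑Q x a) 0 with h | h
    · rw [h, mul_zero, add_zero] at e; exact hx₁ e
    · exact ht.2.1 (by rw [eq_div_iff h]; linear_combination e)
  · simp only [Quad.polar_add_right', Quad.polar_smul_right', h1, zero_add]
    intro e
    refine ht.2.2 ?_
    rw [eq_div_iff (mul_ne_zero hc0 hy₂)]
    refine mul_left_cancel₀ ht.1 ?_
    linear_combination e

theorem exists_partner {w : Fin 4 → F₀} (hw0 : w ≠ 0) : ∃ f, Q f = 0 ∧ polar ⇑Q w f = 1 := by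
  obtain ⟨z, hz, hwz, -⟩ := exists_common s hw0 hw0
  exact ⟨(polar ⇑Q w z)⁻¹ • z, by rw [Quad.apply_smul, hz, mul_zero],
    by rw [Quad.polar_smul_right', inv_mul_cancel₀ hwz]⟩

theorem exists_move (hK : HasRat s K) {e p : Fin 4 → F₀} (he : Q e = 0) (he0 : e ≠ 0) (hp : Q p = 0) (hp0 : p ≠ 0) :
    ∃ k ∈ K, (k : (Fin 4 → F) ≃ₗ[F] (Fin 4 → F)) (rat F₀ P e) = rat F₀ P p := by
  have one : ∀ a b : Fin 4 → F₀, Q a = 0 → Q b = 0 → polar ⇑Q a b ≠ 0 → ∃ h : Q (b - a) ≠ 0,
      (rU s h : (Fin 4 → F) ≃ₗ[F] (Fin 4 → F)) (rat F₀ P a) = rat F₀ P b := by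
    intro a b ha hb hab
    have e1 : Q (b - a) = -polar ⇑Q a b := by
      rw [sub_eq_add_neg, Quad.apply_add, QuadraticMap.map_neg, ha, hb, QuadraticMap.polar_neg_right,
        QuadraticMap.polar_comm (⇑Q) b a]
      ring
    refine ⟨by rw [e1]; exact neg_ne_zero.2 hab, ?_⟩
    rw [rU_rat, QuadraticMap.polar_sub_left, Quad.polar_self', ha, QuadraticMap.polar_comm (⇑Q) b a, e1]
    congr 1
    have : (-polar ⇑Q a b)⁻¹ * (polar ⇑Q a b - 2 * 0) = -1 := by field_simp; ring
    rw [this]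
    module
  obtain ⟨z, hz, hez, hpz⟩ := exists_common s he0 hp0
  obtain ⟨h₁, e₁⟩ := one e z he hz hez
  obtain ⟨h₂, e₂⟩ := one z p hz hp (by rwa [QuadraticMap.polar_comm])
  exact ⟨_, pair_mem s hK h₂ h₁, by rw [Subgroup.coe_mul, LinearEquiv.mul_apply, e₁, e₂]⟩

/-! ### Transvections -/

/-- One transvection at a rational centre gives all of them. -/
theorem hasTr_of_one (hK : HasRat s K) {e : Fin 4 → F₀} (he : Q e = 0) (he0 : e ≠ 0) {c : F} (hc : c + σ c = 0)
    (hc0 : c ≠ 0) (htr : s.herm.tr (s.iso he) hc ∈ K) : HasTr s.herm K (rat F₀ P e) := by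
  have h := s.herm
  have hσc : σ c = -c := eq_neg_of_add_eq_zero_right hc
  have hsq : ∀ k : F₀, ∀ hk : (k : F) * k * c + σ ((k : F) * k * c) = 0,
      h.tr (s.iso he) hk ∈ K := by
    intro k hk
    by_cases hk0 : k = 0
    · convert one_mem K
      refine Subtype.ext (LinearEquiv.ext fun y => ?_)
      simp [IsHerm.tr_apply, hk0]
    have hqk : Q (k • e) = 0 := by rw [Quad.apply_smul, he, mul_zero]
    obtain ⟨m, hm, hme⟩ := exists_move s hK he he0 hqk (smul_ne_zero hk0 he0)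
    have := K.mul_mem (K.mul_mem hm htr) (K.inv_mem hm)
    rw [h.conj_tr] at this
    convert this using 1
    refine Subtype.ext (LinearEquiv.ext fun y => ?_)
    simp only [IsHerm.tr_apply, hme, rat_smul, smul_left, s.fix_coe, smul_smul]
    congr 2
    ring
  intro hee c' hc'
  have hσc' : σ c' = -c' := eq_neg_of_add_eq_zero_right hc'
  have hr : c' / c ∈ F₀ := by rw [s.fix, map_div₀, hσc, hσc', neg_div_neg_eq]
  set r : F₀ := ⟨c' / c, hr⟩ with hrdef
  have hskew : ∀ k : F₀, (k : F) * k * c + σ ((k : F) * k * c) = 0 := fun k => by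
    rw [map_mul, map_mul, s.fix_coe, hσc]; ring
  have m1 := hsq ((r + 1) / 2) (hskew _)
  have m2 := hsq ((r - 1) / 2) (hskew _)
  convert K.mul_mem m1 (K.inv_mem m2) using 1
  rw [eq_mul_inv_iff_mul_eq]
  refine Subtype.ext (LinearEquiv.ext fun y => ?_)
  simp only [Subgroup.coe_mul, LinearEquiv.mul_apply, IsHerm.tr_apply, map_add, smul_right, hee, mul_zero,
    add_zero, add_assoc, ← add_smul]
  congr 2
  have e1 : ((r : F₀) : F) * c = c' := by rw [hrdef]; exact div_mul_cancel₀ _ hc0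
  have e2 : ((((r + 1) / 2 : F₀)) : F) = ((r : F) + 1) / 2 := by
    rw [Subfield.coe_div, Subfield.coe_add, OneMemClass.coe_one]; congr 1
  have e3 : ((((r - 1) / 2 : F₀)) : F) = ((r : F) - 1) / 2 := by
    rw [Subfield.coe_div, Subfield.coe_sub, OneMemClass.coe_one]; congr 1
  have := s.odd
  rw [e2, e3]
  field_simp
  linear_combination (-4 * B (rat F₀ P e) y) * e1

/-- All transvections at one rational centre give all transvections. -/
theorem hasTr_all (hK : HasRat s K) {e : Fin 4 → F₀} (he : Q e = 0) (he0 : e ≠ 0)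
    (htr : HasTr s.herm K (rat F₀ P e)) : ∀ v, HasTr s.herm K v := by
  have h := s.herm
  have hrat : ∀ w, Q w = 0 → w ≠ 0 → HasTr h K (rat F₀ P w) := fun w hw hw0 => by
    obtain ⟨k, hk, hke⟩ := exists_move s hK he he0 hw hw0
    have := htr.conj h hk
    rwa [hke] at this
  intro u huu
  by_cases hu0 : u = 0
  · subst hu0
    intro c hc
    rw [show h.tr huu hc = 1 from by ext y; simp [IsHerm.tr_apply]]
    exact one_mem _
  obtain ⟨a, b, hab⟩ := s.split u
  obtain ⟨w, hw, hwu⟩ : ∃ w, Q w = 0 ∧ B (rat F₀ P w) u ≠ 0 := by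
    by_contra! hc
    have hz : ∀ z, polar ⇑Q z a = 0 ∧ polar ⇑Q z b = 0 := by
      have hle : (⊤ : Submodule F₀ (Fin 4 → F₀)) ≤
          LinearMap.ker ((polarBilin Q).flip a) ⊓ LinearMap.ker ((polarBilin Q).flip b) :=
        QuadSim.le_of_singular_odd s.nondeg s.two (by rw [finrank_top, Module.finrank_fin_fun, Fintype.card_fin]; omega)
          fun x _ hx => by
            have := hc x hx
            rw [hab, s.right_split] at this
            exact s.split_zero this
      exact fun z => hle (Submodule.mem_top (x := z))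
    refine hu0 ?_
    rw [hab, s.nondeg.2 a fun z => (hz z).1, s.nondeg.2 b fun z => (hz z).2, rat_zero, smul_zero, add_zero]
  have hw0 : w ≠ 0 := fun h0 => hwu (by rw [h0, rat_zero, zero_left])
  obtain ⟨f, hqf, hwf⟩ := exists_partner s hw0
  have hf0 : f ≠ 0 := fun h0 => one_ne_zero (α := F₀) (by rw [← hwf, h0, QuadraticMap.polar_zero_right])
  set W := rat F₀ P w with hWdef
  set Fv := rat F₀ P f with hFdef
  have hWW : B W W = 0 := s.iso hw
  have hFF : B Fv Fv = 0 := s.iso hqf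
  have hWF : B W Fv = 1 := s.val_one hwf
  have hFW : B Fv W = 1 := s.val_one (by rw [QuadraticMap.polar_comm, hwf])
  have hγ' : γ⁻¹ + σ γ⁻¹ = 0 := by rw [map_inv₀, s.skew, inv_neg, add_neg_cancel]
  have hγn : -γ + σ (-γ) = 0 := by rw [map_neg, s.skew, neg_neg, neg_add_cancel]
  -- exchanging the two centres
  set J := h.tr hFF hγ' * h.tr hWW hγn * h.tr hFF hγ' with hJ
  have hJK : J ∈ K := K.mul_mem (K.mul_mem (hrat f hqf hf0 hFF _ hγ') (hrat w hw hw0 hWW _ hγn))
    (hrat f hqf hf0 hFF _ hγ')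
  have hJF : (J : (Fin 4 → F) ≃ₗ[F] (Fin 4 → F)) Fv = (-γ) • W := by
    have := s.ne
    simp only [hJ, Subgroup.coe_mul, LinearEquiv.mul_apply, IsHerm.tr_apply, map_add, map_smul, smul_eq_mul,
      hWW, hFF, hWF, hFW]
    match_scalars <;> field_simp <;> ring
  have hJfix : ∀ z, B W z = 0 → B Fv z = 0 → (J : (Fin 4 → F) ≃ₗ[F] (Fin 4 → F)) z = z := fun z hz hz' => by
    simp [hJ, IsHerm.tr_apply, hz, hz']
  -- the stabiliser of the rational centre
  have hEich : ∀ (x : Fin 4 → F) (hx : B W x = 0) (c : F) (hc : c + σ c = -B x x),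
      h.eich hWW hx hc ∈ K := by
    let S : AddSubgroup (Fin 4 → F) :=
      { carrier := {x | ∃ (hx : B W x = 0) (c : F) (hc : c + σ c = -B x x), h.eich hWW hx hc ∈ K}
        zero_mem' := ⟨map_zero _, 0, by simp, by
          rw [show h.eich hWW (map_zero (B W)) (show (0 : F) + σ 0 = -B 0 0 by simp) = 1 from by
            ext y; simp [IsHerm.eich_apply]]
          exact one_mem _⟩
        add_mem' := by
          rintro x y ⟨hx, c, hc, hm⟩ ⟨hy, d, hd, hm'⟩
          have := K.mul_mem hm hm'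
          rw [eich_mul' h hWW hx hy hc hd] at this
          exact ⟨_, _, _, this⟩
        neg_mem' := by
          rintro x ⟨hx, c, hc, hm⟩
          have := K.inv_mem hm
          rw [eich_inv' h hWW hx hc] at this
          exact ⟨_, _, _, this⟩ }
    have hratS : ∀ x, polar ⇑Q w x = 0 → rat F₀ P x ∈ S := fun x hx =>
      ⟨s.val_zero hx, _, s.trace_rat x, eich_rat s hK w x hWW (s.val_zero hx) (s.trace_rat x) rfl⟩
    have hskew : ∀ p, polar ⇑Q w p = 0 → γ • rat F₀ P p ∈ S := by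
      intro p hwp
      set k := polar ⇑Q f p with hk
      set a' := p - k • w with ha'
      have hwa : polar ⇑Q w a' = 0 := by
        rw [ha', QuadraticMap.polar_sub_right, Quad.polar_smul_right', Quad.polar_self', hw, hwp]; ring
      have hfa : polar ⇑Q f a' = 0 := by
        rw [ha', QuadraticMap.polar_sub_right, Quad.polar_smul_right', QuadraticMap.polar_comm (⇑Q) f w, hwf, hk]
        ring
      have m1 := K.mul_mem (K.mul_mem hJK (eich_rat s hK f a' hFF (s.val_zero hfa) (s.trace_rat a') rfl))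
        (K.inv_mem hJK)
      rw [eich_conj'] at m1
      have hA : γ • rat F₀ P a' ∈ S := by
        refine ⟨by rw [map_smul, s.val_zero hwa, smul_zero], -(γ * γ) * -((Q a' : F₀) : F), ?_, ?_⟩
        · rw [map_mul, map_neg, map_neg, map_mul, s.skew, s.fix_coe, IsHerm.smul_self, s.val_self, s.skew]
          ring
        · convert m1 using 1
          refine Subtype.ext (LinearEquiv.ext fun z => ?_)
          simp only [IsHerm.eich_apply, ← hFdef, hJF, hJfix _ (s.val_zero hwa) (s.val_zero hfa), smul_left, map_neg,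
            s.skew, ← hWdef]
          match_scalars <;> ring
      have hB : (γ * (k : F)) • W ∈ S := by
        set μ := γ * (k : F) with hμ
        have hμs : (μ - σ μ) + σ (μ - σ μ) = 0 := by
          rw [map_sub, h.invol.invol]
          ring
        refine ⟨by rw [map_smul, hWW, smul_zero], 0, by rw [IsHerm.smul_self, hWW]; simp, ?_⟩
        convert hrat w hw hw0 hWW _ hμs using 1
        refine Subtype.ext (LinearEquiv.ext fun z => ?_)
        rw [IsHerm.eich_apply, IsHerm.tr_apply, smul_left, hWdef]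
        module
      have e : γ • rat F₀ P p = γ • rat F₀ P a' + (γ * (k : F)) • W := by
        rw [hWdef, mul_smul, ← smul_add, ← rat_smul, ← rat_add, ha', sub_add_cancel]
      rw [e]
      exact S.add_mem hA hB
    intro x hx c hc
    obtain ⟨a', b', hx'⟩ := s.split x
    have hz : polar ⇑Q w a' = 0 ∧ polar ⇑Q w b' = 0 := by
      have := hx
      rw [hx', hWdef, s.right_split] at this
      exact s.split_zero this
    obtain ⟨hx₂, d, hd, hm⟩ : x ∈ S := hx' ▸ S.add_mem (hratS a' hz.1) (hskew b' hz.2)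
    have hsk : (c - d) + σ (c - d) = 0 := by
      rw [map_sub]
      linear_combination hc - hd
    convert K.mul_mem (hrat w hw hw0 hWW _ hsk) hm using 1
    refine Subtype.ext (LinearEquiv.ext fun y => ?_)
    simp only [Subgroup.coe_mul, LinearEquiv.mul_apply, IsHerm.eich_apply, IsHerm.tr_apply, map_add, map_smul,
      smul_eq_mul, hWW, hx, ← hWdef]
    match_scalars <;> ring
  set k := B W u with hk
  set u₁ := k⁻¹ • u with hu₁
  have hWu₁ : B W u₁ = 1 := by rw [hu₁, map_smul, smul_eq_mul, inv_mul_cancel₀ hwu]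
  set x := u₁ - Fv - B Fv u₁ • W with hxdef
  have hWx : B W x = 0 := by simp [hxdef, hWu₁, hWF, hWW]
  have hFx : B Fv x = 0 := by simp [hxdef, hFF, hFW]
  have hu1 : u₁ = Fv + x + B Fv u₁ • W := by rw [hxdef]; abel
  have hu₁₁ : B u₁ u₁ = 0 := by rw [hu₁, IsHerm.smul_self, huu, mul_zero]
  have hc : B Fv u₁ + σ (B Fv u₁) = -B x x := by
    have e := hu₁₁
    rw [hu1] at e
    simp only [map_add, LinearMap.add_apply, smul_left, smul_right, hWW, hFF, hWF, hFW, hWx, hFx,
      h.eq_zero_symm hWx, h.eq_zero_symm hFx] at e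
    linear_combination e
  have := (hrat f hqf hf0).conj h (hEich x hWx _ hc)
  rw [IsHerm.eich_apply, hWF, h.eq_zero_symm hFx, one_smul, mul_one, sub_zero, ← hu1, hu₁] at this
  exact HasTr.of_smul h (inv_ne_zero hwu) this huu

/-! ### The orthogonal plane of an irrational vector -/

/-- An orthogonal basis of the rational plane orthogonal to `a, b`. -/
theorem exists_plane {a b : Fin 4 → F₀} (hD : polar ⇑Q a b * polar ⇑Q a b - 4 * Q a * Q b ≠ 0) :
    ∃ r₁ r₂, polar ⇑Q a r₁ = 0 ∧ polar ⇑Q b r₁ = 0 ∧ polar ⇑Q a r₂ = 0 ∧ polar ⇑Q b r₂ = 0 ∧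
      polar ⇑Q r₁ r₂ = 0 ∧ Q r₁ ≠ 0 ∧ Q r₂ ≠ 0 := by
  set β := polar ⇑Q a b with hβ
  have hba : polar ⇑Q b a = β := QuadraticMap.polar_comm _ b a
  set D := β * β - 4 * Q a * Q b with hDdef
  set L := cut (cut ⊤ Q a) Q b with hL
  have h1 := finrank_cut (Q := Q) (⊤ : Submodule F₀ (Fin 4 → F₀)) a
  have h2 := finrank_cut (Q := Q) (cut ⊤ Q a) b
  rw [finrank_top, Module.finrank_fin_fun, ← hL] at *
  obtain ⟨r₁, hr₁, hq₁⟩ : ∃ r ∈ L, Q r ≠ 0 := by
    by_contra! hc
    obtain ⟨r, hr, hr0⟩ := Submodule.exists_mem_ne_zero_of_ne_bot (p := L)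
      fun h => by rw [h, finrank_bot] at h2; omega
    refine hr0 (s.nondeg.1 r fun y => ?_)
    set c₁ := (β * polar ⇑Q b y - 2 * Q b * polar ⇑Q a y) / D with hc₁
    set c₂ := (β * polar ⇑Q a y - 2 * Q a * polar ⇑Q b y) / D with hc₂
    have hy : y - c₁ • a - c₂ • b ∈ L := by
      refine ⟨⟨trivial, ?_⟩, ?_⟩
      · show polar ⇑Q a _ = 0
        rw [QuadraticMap.polar_sub_right, QuadraticMap.polar_sub_right, Quad.polar_smul_right',
          Quad.polar_smul_right', Quad.polar_self', ← hβ, hc₁, hc₂]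
        field_simp
        rw [hDdef]; ring
      · show polar ⇑Q b _ = 0
        rw [QuadraticMap.polar_sub_right, QuadraticMap.polar_sub_right, Quad.polar_smul_right',
          Quad.polar_smul_right', Quad.polar_self', hba, hc₁, hc₂]
        field_simp
        rw [hDdef]; ring
    have e : polar ⇑Q r (y - c₁ • a - c₂ • b) = 0 := by
      rw [QuadraticMap.polar, hc _ (L.add_mem hr hy), hc _ hr, hc _ hy]; ring
    rw [QuadraticMap.polar_sub_right, QuadraticMap.polar_sub_right, Quad.polar_smul_right', Quad.polar_smul_right',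
      QuadraticMap.polar_comm _ r a, QuadraticMap.polar_comm _ r b, show polar ⇑Q a r = 0 from hr.1.2,
      show polar ⇑Q b r = 0 from hr.2] at e
    simpa using e
  have h3 := finrank_cut (Q := Q) L r₁
  obtain ⟨r₂, hr₂, hr₂0⟩ := Submodule.exists_mem_ne_zero_of_ne_bot (p := cut L Q r₁)
    fun h => by rw [h, finrank_bot] at h3; omega
  have a1 : polar ⇑Q a r₁ = 0 := hr₁.1.2
  have b1 : polar ⇑Q b r₁ = 0 := hr₁.2
  have a2 : polar ⇑Q a r₂ = 0 := hr₂.1.1.2
  have b2 : polar ⇑Q b r₂ = 0 := hr₂.1.2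
  have r12 : polar ⇑Q r₁ r₂ = 0 := hr₂.2
  refine ⟨r₁, r₂, a1, b1, a2, b2, r12, hq₁, fun hq₂ => ?_⟩
  -- an isotropic radical vector
  have hli : LinearIndependent F₀ ![a, b, r₁, r₂] := by
    rw [Fintype.linearIndependent_iff]
    intro g hg
    have ea := congrArg (polar ⇑Q a) hg
    have eb := congrArg (polar ⇑Q b) hg
    have er := congrArg (polar ⇑Q r₁) hg
    simp only [Fin.sum_univ_four, Matrix.cons_val_zero, Matrix.cons_val_one, Matrix.cons_val, Quad.polar_add_right',
      Quad.polar_smul_right', Quad.polar_self', QuadraticMap.polar_zero_right, ← hβ, hba, a1, b1, a2, b2, r12,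
      QuadraticMap.polar_comm _ r₁ a, QuadraticMap.polar_comm _ r₁ b] at ea eb er
    have g0 : g 0 = 0 := (mul_eq_zero.1 (show g 0 * D = 0 by
      rw [hDdef]; linear_combination β * eb - 2 * Q b * ea)).resolve_right hD
    have g1 : g 1 = 0 := (mul_eq_zero.1 (show g 1 * D = 0 by
      rw [hDdef]; linear_combination β * ea - 2 * Q a * eb)).resolve_right hD
    have g2 : g 2 = 0 := (mul_eq_zero.1 (show g 2 * (2 * Q r₁) = 0 by
      linear_combination er)).resolve_right (mul_ne_zero s.two hq₁)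
    have g3 : g 3 = 0 := by
      by_contra h0
      apply hr₂0
      simp only [Fin.sum_univ_four, Matrix.cons_val_zero, Matrix.cons_val_one, Matrix.cons_val, g0, g1, g2,
        zero_smul, zero_add] at hg
      exact (smul_eq_zero.1 hg).resolve_left h0
    intro i; fin_cases i <;> assumption
  have htop := hli.span_eq_top_of_card_eq_finrank (by simp)
  refine hr₂0 (s.nondeg.1 r₂ fun y => ?_)
  have hle : Submodule.span F₀ (Set.range ![a, b, r₁, r₂]) ≤ LinearMap.ker (polarBilin Q r₂) := by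
    rw [Submodule.span_le]
    rintro _ ⟨i, rfl⟩
    show polar ⇑Q r₂ _ = 0
    fin_cases i <;> simp [QuadraticMap.polar_comm _ r₂, a2, b2, r12, Quad.polar_self', hq₂]
  exact hle (htop.ge (Submodule.mem_top (x := y)))

/-! ### The main step -/

theorem exists_nz_sum {q₁ q₂ : F₀} (h₁ : q₁ ≠ 0) :
    ∃ t : F₀, t ≠ 0 ∧ q₁ + t * t * q₂ ≠ 0 := by
  classical
  by_cases h : q₁ + q₂ = 0
  · obtain ⟨t, ht⟩ := avoid s {0, 1, -1} (le_trans Finset.card_le_three (by norm_num))
    simp only [Finset.mem_insert, Finset.mem_singleton, not_or] at ht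
    refine ⟨t, ht.1, fun e => ?_⟩
    have h2 : q₂ * ((t - 1) * (t + 1)) = 0 := by linear_combination e - h
    rcases mul_eq_zero.1 h2 with h3 | h3
    · exact h₁ (by linear_combination h - h3)
    · rcases mul_eq_zero.1 h3 with h4 | h4
      · exact ht.2.1 (sub_eq_zero.1 h4)
      · exact ht.2.2 (eq_neg_of_add_eq_zero_left h4)
  · exact ⟨1, one_ne_zero, by simpa using h⟩

set_option maxHeartbeats 2000000 in
/-- An isotropic vector with its group of Eichler elements along the orthogonal rational plane. -/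
theorem exists_siegel (hK : HasRat s K)
    (hno : ¬ ∃ e, Q e = 0 ∧ e ≠ 0 ∧ HasTr s.herm K (rat F₀ P e)) {g : HU B} (hg : g ∈ K)
    {w : Fin 4 → F₀} (hw : Q w = 0) (hw0 : w ≠ 0) {a b : Fin 4 → F₀}
    (hab : (g : (Fin 4 → F) ≃ₗ[F] (Fin 4 → F)) (rat F₀ P w) = rat F₀ P a + γ • rat F₀ P b)
    (hne : ¬ (Q b = 0 ∧ polar ⇑Q a b = 0)) :
    ∃ a' b' : Fin 4 → F₀, Q a' = s.nu * Q b' ∧ ¬ (Q b' = 0 ∧ polar ⇑Q a' b' = 0) ∧
      (∀ r, (polar ⇑Q a r = 0 ∧ polar ⇑Q b r = 0) ↔ (polar ⇑Q a' r = 0 ∧ polar ⇑Q b' r = 0)) ∧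
      ∀ r, polar ⇑Q a' r = 0 → polar ⇑Q b' r = 0 →
        ∃ (hu : B (rat F₀ P a' + γ • rat F₀ P b') (rat F₀ P a' + γ • rat F₀ P b') = 0)
          (hux : B (rat F₀ P a' + γ • rat F₀ P b') (rat F₀ P r) = 0),
          s.herm.eich hu hux (s.trace_rat r) ∈ K := by
  have h := s.herm
  set G := (g : (Fin 4 → F) ≃ₗ[F] (Fin 4 → F)) with hG
  set c := G (rat F₀ P w) with hc
  have hcc : B c c = 0 := by rw [hc, hG, HU.map_eq, s.iso hw]
  have hQab : Q a = s.nu * Q b := by
    have e := hcc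
    rw [hab, map_add, map_smul, smul_eq_mul, s.left_split, s.left_split, Quad.polar_self', Quad.polar_self',
      QuadraticMap.polar_comm (⇑Q) b a] at e
    refine mul_left_cancel₀ s.two (Subtype.ext ?_)
    push_cast [s.coe_nu, s.coe_two, s.coe_four, s.coe_eight] at e ⊢
    linear_combination e
  have hdiscr : ∀ {a b : Fin 4 → F₀}, Q a = s.nu * Q b → ¬ (Q b = 0 ∧ polar ⇑Q a b = 0) →
      polar ⇑Q a b * polar ⇑Q a b - 4 * Q a * Q b ≠ 0 := by
    intro a b hQ hn h0
    obtain ⟨h1, h2⟩ := s.norm_zero (x := polar ⇑Q a b) (y := 2 * Q b) (by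
      rw [hQ] at h0; linear_combination h0)
    exact hn ⟨(mul_eq_zero.1 h2).resolve_left s.two, h1⟩
  have hD := hdiscr hQab hne
  obtain ⟨r₁, r₂, a1, b1, a2, b2, r12, hq₁, hq₂⟩ := exists_plane s hD
  have hnotr : ∀ (e : F) (he : e + σ e = 0), h.tr hcc he ∈ K → e = 0 := by
    intro e he hm
    by_contra he0
    refine hno ⟨w, hw, hw0, hasTr_of_one s hK hw hw0 he he0 ?_⟩
    have := K.mul_mem (K.mul_mem (K.inv_mem hg) hm) (K.inv_mem (K.inv_mem hg))
    rw [h.conj_tr] at this
    convert this using 1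
    refine Subtype.ext (LinearEquiv.ext fun y => ?_)
    have e0 : ((g⁻¹ : HU B) : (Fin 4 → F) ≃ₗ[F] (Fin 4 → F)) c = rat F₀ P w := by
      rw [hc, hG, Subgroup.coe_inv, LinearEquiv.coe_inv, LinearEquiv.symm_apply_apply]
    simp only [IsHerm.tr_apply, e0]
  have hcR : ∀ r, polar ⇑Q a r = 0 → polar ⇑Q b r = 0 → B c (rat F₀ P r) = 0 := fun r h1 h2 => by
    rw [hab, s.left_split, h1, h2]; simp
  -- a vector orthogonal to the centre
  obtain ⟨x, hx, hqx⟩ := exists_aniso s.nondeg (L := cut ⊤ Q w) (by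
    have := finrank_cut (Q := Q) (⊤ : Submodule F₀ (Fin 4 → F₀)) w
    rw [finrank_top, Module.finrank_fin_fun] at this
    rw [Fintype.card_fin]
    omega)
  have hwx : polar ⇑Q w x = 0 := hx.2
  set c' := rat F₀ P a - γ • rat F₀ P b with hc'
  have hc'c : B c' c ≠ 0 := by
    intro e
    rw [hab, map_add, map_smul, smul_eq_mul, hc', LinearMap.map_sub₂, LinearMap.map_sub₂, smul_left, smul_left,
      s.val, s.val, s.val, s.val, Quad.polar_self', Quad.polar_self', QuadraticMap.polar_comm (⇑Q) b a, hQab,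
      s.skew] at e
    obtain ⟨h1, h2⟩ := s.split_zero (x := 4 * s.nu * Q b) (y := 2 * polar ⇑Q a b) (by
      push_cast [s.coe_nu, s.coe_two, s.coe_four, s.coe_eight] at e ⊢
      linear_combination e)
    refine hne ⟨?_, (mul_eq_zero.1 h2).resolve_left s.two⟩
    have h4 : (4 : F₀) * s.nu ≠ 0 := by
      refine mul_ne_zero ?_ fun e0 => s.ne (mul_self_eq_zero.1 (congrArg Subtype.val e0))
      rw [show (4 : F₀) = 2 * 2 by norm_num]
      exact mul_ne_zero s.two s.two
    exact (mul_eq_zero.1 h1).resolve_left h4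
  set d' := G (rat F₀ P x) with hd'
  set kc := B c' d' / B c' c with hkc
  set d := d' - kc • c with hd
  have hcd' : B c d' = 0 := by rw [hc, hd', hG, HU.map_eq, s.val_zero hwx]
  have hcd : B c d = 0 := by rw [hd, map_sub, smul_right, hcd', hcc, mul_zero, sub_zero]
  have hc'd : B c' d = 0 := by rw [hd, map_sub, smul_right, hkc, div_mul_cancel₀ _ hc'c, sub_self]
  have hAd : B (rat F₀ P a) d = 0 ∧ B (rat F₀ P b) d = 0 := by
    have e1 := hcd
    have e2 := hc'd
    rw [hab, LinearMap.map_add₂, smul_left, s.skew] at e1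
    rw [hc', LinearMap.map_sub₂, smul_left, s.skew] at e2
    have h1 : (2 : F) * B (rat F₀ P a) d = 0 := by linear_combination e1 + e2
    have h2 : (2 * γ : F) * B (rat F₀ P b) d = 0 := by linear_combination e2 - e1
    exact ⟨(mul_eq_zero.1 h1).resolve_left s.odd, (mul_eq_zero.1 h2).resolve_left (mul_ne_zero s.odd s.ne)⟩
  have hdd : B d d = 2 * ((Q x : F₀) : F) := by
    have e1 : B d' c = 0 := h.eq_zero_symm hcd'
    rw [hd, map_sub, LinearMap.map_sub₂, LinearMap.map_sub₂, smul_left, smul_right, smul_right, smul_left, hcd', e1,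
      hcc, hd', hG, HU.map_eq, s.val_self]
    ring
  -- the Eichler elements along `d`
  have hE : ∀ k : F₀, ∃ (e : F) (hu : B c ((k : F) • d) = 0) (he : e + σ e = -B ((k : F) • d) ((k : F) • d)),
      h.eich hcc hu he ∈ K := by
    intro k
    have m := K.mul_mem (K.mul_mem hg (eich_rat s hK w (k • x) (s.iso hw)
      (s.val_zero (by rw [Quad.polar_smul_right', hwx, mul_zero])) (s.trace_rat (k • x)) rfl)) (K.inv_mem hg)
    rw [eich_conj'] at m
    have e1 : G (rat F₀ P (k • x)) = (k : F) • d + ((k : F) * kc) • c := by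
      rw [rat_smul, map_smul, ← hd', mul_smul, ← smul_add, hd, sub_add_cancel]
    refine ⟨-((Q (k • x) : F₀) : F) + (k * kc - σ (k * kc)), by rw [smul_right, hcd, mul_zero], ?_, ?_⟩
    · rw [IsHerm.smul_self, hdd, Quad.apply_smul, map_add, map_sub, h.invol.invol, map_neg, s.fix_coe, s.fix_coe]
      push_cast
      ring
    · convert m using 1
      refine Subtype.ext (LinearEquiv.ext fun z => ?_)
      simp only [IsHerm.eich_apply, ← hc, e1, ← hG, map_add, LinearMap.add_apply, smul_left]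
      module
  set ρ := rU s hq₁ * rU s hq₂ with hρ
  have hρK : ρ ∈ K := pair_mem s hK hq₁ hq₂
  -- the span of the plane
  set α₁ := B (rat F₀ P r₁) d / (2 * ((Q r₁ : F₀) : F)) with hα₁
  set α₂ := B (rat F₀ P r₂) d / (2 * ((Q r₂ : F₀) : F)) with hα₂
  have hq₁' : ((Q r₁ : F₀) : F) ≠ 0 := fun e => hq₁ (Subtype.ext e)
  have hq₂' : ((Q r₂ : F₀) : F) ≠ 0 := fun e => hq₂ (Subtype.ext e)
  have hdR : d = α₁ • rat F₀ P r₁ + α₂ • rat F₀ P r₂ := by
    refine sub_eq_zero.1 ?_
    set δ := d - (α₁ • rat F₀ P r₁ + α₂ • rat F₀ P r₂) with hδ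
    obtain ⟨p, q, hpq⟩ := s.split δ
    have := s.odd
    have z1 : B (rat F₀ P a) δ = 0 := by
      rw [hδ, map_sub, map_add, smul_right, smul_right, hAd.1, s.val_zero a1, s.val_zero a2]; ring
    have z2 : B (rat F₀ P b) δ = 0 := by
      rw [hδ, map_sub, map_add, smul_right, smul_right, hAd.2, s.val_zero b1, s.val_zero b2]; ring
    have z3 : B (rat F₀ P r₁) δ = 0 := by
      rw [hδ, map_sub, map_add, smul_right, smul_right, s.val_self, s.val_zero r12, hα₁]; field_simp; ring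
    have z4 : B (rat F₀ P r₂) δ = 0 := by
      rw [hδ, map_sub, map_add, smul_right, smul_right, s.val_self,
        s.val_zero (show polar ⇑Q r₂ r₁ = 0 by rw [QuadraticMap.polar_comm, r12]), hα₂]
      field_simp; ring
    rw [hpq, s.right_split] at z1 z2 z3 z4
    have y1 := s.split_zero z1
    have y2 := s.split_zero z2
    have y3 := s.split_zero z3
    have y4 := s.split_zero z4
    set D := polar ⇑Q a b * polar ⇑Q a b - 4 * Q a * Q b
    have hli : LinearIndependent F₀ ![a, b, r₁, r₂] := by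
      rw [Fintype.linearIndependent_iff]
      intro v hv
      have ea := congrArg (polar ⇑Q a) hv
      have eb := congrArg (polar ⇑Q b) hv
      have er := congrArg (polar ⇑Q r₁) hv
      have er' := congrArg (polar ⇑Q r₂) hv
      simp only [Fin.sum_univ_four, Matrix.cons_val_zero, Matrix.cons_val_one, Matrix.cons_val,
        Quad.polar_add_right', Quad.polar_smul_right', Quad.polar_self', QuadraticMap.polar_zero_right, a1, b1, a2, b2,
        r12, QuadraticMap.polar_comm (⇑Q) b a, QuadraticMap.polar_comm _ r₁ a, QuadraticMap.polar_comm _ r₁ b,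
        QuadraticMap.polar_comm _ r₂ a, QuadraticMap.polar_comm _ r₂ b, QuadraticMap.polar_comm _ r₂ r₁]
        at ea eb er er'
      have v0 : v 0 = 0 := (mul_eq_zero.1 (show v 0 * D = 0 by
        linear_combination polar ⇑Q a b * eb - 2 * Q b * ea)).resolve_right hD
      have v1 : v 1 = 0 := (mul_eq_zero.1 (show v 1 * D = 0 by
        linear_combination polar ⇑Q a b * ea - 2 * Q a * eb)).resolve_right hD
      have v2 : v 2 = 0 := (mul_eq_zero.1 (show v 2 * (2 * Q r₁) = 0 by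
        linear_combination er)).resolve_right (mul_ne_zero s.two hq₁)
      have v3 : v 3 = 0 := (mul_eq_zero.1 (show v 3 * (2 * Q r₂) = 0 by
        linear_combination er')).resolve_right (mul_ne_zero s.two hq₂)
      intro i; fin_cases i <;> assumption
    have htop := hli.span_eq_top_of_card_eq_finrank (by simp)
    have key : ∀ p', polar ⇑Q a p' = 0 → polar ⇑Q b p' = 0 → polar ⇑Q r₁ p' = 0 → polar ⇑Q r₂ p' = 0 → p' = 0 := by
      intro p' k1 k2 k3 k4
      refine s.nondeg.2 p' fun y => ?_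
      have hle : Submodule.span F₀ (Set.range ![a, b, r₁, r₂]) ≤ LinearMap.ker ((polarBilin Q).flip p') := by
        rw [Submodule.span_le]
        rintro _ ⟨i, rfl⟩
        show polar ⇑Q _ p' = 0
        fin_cases i <;> simpa
      exact hle (htop.ge (Submodule.mem_top (x := y)))
    rw [hpq, key p y1.1 y2.1 y3.1 y4.1, key q y1.2 y2.2 y3.2 y4.2, rat_zero, smul_zero, add_zero]
  have hstd : ∀ k : F₀, ∃ (hu : B c ((k : F) • d) = 0)
      (he : -((Q (k • x) : F₀) : F) + σ (-((Q (k • x) : F₀) : F)) = -B ((k : F) • d) ((k : F) • d)),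
      h.eich hcc hu he ∈ K := by
    intro k
    obtain ⟨e, hu, he, hm⟩ := hE k
    have hρd : (ρ : (Fin 4 → F) ≃ₗ[F] (Fin 4 → F)) d = -d := by
      have t1 : polar ⇑Q r₂ r₁ = 0 := by rw [QuadraticMap.polar_comm, r12]
      rw [hdR, map_add, map_smul, map_smul, hρ, Subgroup.coe_mul, LinearEquiv.mul_apply, LinearEquiv.mul_apply,
        rU_perp s hq₂ (s.val_zero t1), rU_apply s hq₂ (rat F₀ P r₂), map_sub, map_smul,
        rU_perp s hq₁ (s.val_zero r12), rU_apply s hq₁, s.val_self, s.val_self]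
      have := s.odd
      match_scalars <;> field_simp <;> ring
    have hρc : (ρ : (Fin 4 → F) ≃ₗ[F] (Fin 4 → F)) c = c := by
      rw [hρ, Subgroup.coe_mul, LinearEquiv.mul_apply, rU_perp s hq₂ (h.eq_zero_symm (hcR r₂ a2 b2)),
        rU_perp s hq₁ (h.eq_zero_symm (hcR r₁ a1 b1))]
    have m2 := K.mul_mem hm (K.mul_mem (K.mul_mem hρK hm) (K.inv_mem hρK))
    have he2 : (2 * e + B ((k : F) • d) ((k : F) • d)) + σ (2 * e + B ((k : F) • d) ((k : F) • d)) = 0 := by
      rw [map_add, map_mul, map_ofNat, h.self_fixed]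
      linear_combination 2 * he
    have e0 := hnotr _ he2 (by
      convert m2 using 1
      rw [eich_conj' h ρ hcc hu he]
      refine Subtype.ext (LinearEquiv.ext fun z => ?_)
      simp only [Subgroup.coe_mul, LinearEquiv.mul_apply, IsHerm.eich_apply, IsHerm.tr_apply, hρc, map_smul, hρd,
        map_add, map_neg, smul_neg, smul_right, smul_left, LinearMap.neg_apply, hcc, hcd, h.eq_zero_symm hcd,
        LinearMap.smul_apply, smul_eq_mul]
      match_scalars <;> ring)
    have ee : e = -((Q (k • x) : F₀) : F) := by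
      rw [IsHerm.smul_self, hdd, s.fix_coe] at e0
      rw [Quad.apply_smul]
      push_cast
      exact mul_left_cancel₀ s.odd (by linear_combination e0)
    subst ee
    exact ⟨hu, he, hm⟩
  -- the coefficients are proportional over the subfield
  obtain ⟨t, ht0, htN⟩ := exists_nz_sum s (q₂ := Q r₂) hq₁
  set u := r₁ + t • r₂ with hu
  have hqu : Q u ≠ 0 := by
    rw [hu, Quad.apply_add, Quad.apply_smul, Quad.polar_smul_right', r12, mul_zero, add_zero]; exact htN
  set τ := rU s hqu * rU s hq₁ with hτ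
  have hτK : τ ∈ K := pair_mem s hK hqu hq₁
  have hτc : (τ : (Fin 4 → F) ≃ₗ[F] (Fin 4 → F)) c = c := by
    rw [hτ, Subgroup.coe_mul, LinearEquiv.mul_apply, rU_perp s hq₁ (h.eq_zero_symm (hcR r₁ a1 b1)),
      rU_perp s hqu (h.eq_zero_symm (hcR u
        (by rw [hu, Quad.polar_add_right', Quad.polar_smul_right', a1, a2, mul_zero, add_zero])
        (by rw [hu, Quad.polar_add_right', Quad.polar_smul_right', b1, b2, mul_zero, add_zero])))]
  set T := (τ : (Fin 4 → F) ≃ₗ[F] (Fin 4 → F)) with hT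
  have hsym : B d (T d) = B (T d) d := by
    obtain ⟨hu1, he1, m1⟩ := hstd 1
    have m1' : ∃ (h1 : B c d = 0) (h2 : -((Q x : F₀) : F) + σ (-((Q x : F₀) : F)) = -B d d),
        h.eich hcc h1 h2 ∈ K := by
      refine ⟨hcd, by rw [map_neg, s.fix_coe, hdd]; ring, ?_⟩
      convert m1 using 1
      refine Subtype.ext (LinearEquiv.ext fun z => ?_)
      simp [IsHerm.eich_apply]
    obtain ⟨h1, h2, m⟩ := m1'
    have mT := K.mul_mem (K.mul_mem hτK m) (K.inv_mem hτK)
    rw [eich_conj' h τ hcc h1 h2] at mT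
    have hcT : B c (T d) = 0 := by
      conv_lhs => rw [← hτc]
      rw [hT, HU.map_eq, hcd]
    have h2' : -((Q x : F₀) : F) + σ (-((Q x : F₀) : F)) = -B (T d) (T d) := by rw [h2, hT, HU.map_eq]
    have mT' : h.eich hcc hcT h2' ∈ K := by
      convert mT using 1
      refine Subtype.ext (LinearEquiv.ext fun z => ?_)
      simp only [IsHerm.eich_apply, ← hT, hτc]
    have hsk : B (T d) d - B d (T d) + σ (B (T d) d - B d (T d)) = 0 := by
      rw [map_sub σ, h.symm, h.symm]; ring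
    have e1 := h.eich_mul_comm hcc h1 hcT h2 h2' hsk rfl
    have := K.mul_mem (K.mul_mem m mT') (K.inv_mem (K.mul_mem mT' m))
    rw [e1, mul_inv_cancel_right] at this
    exact (sub_eq_zero.1 (hnotr _ hsk this)).symm
  have hprop : σ α₁ * α₂ = σ α₂ * α₁ := by
    have t1 : polar ⇑Q r₂ r₁ = 0 := by rw [QuadraticMap.polar_comm, r12]
    have eT : T d = (-α₁ + (2 * ((Q r₁ : F₀) : F) * α₁ - 2 * t * ((Q r₂ : F₀) : F) * α₂) / (Q u : F₀)) • rat F₀ P r₁ +
        (α₂ + t * (2 * ((Q r₁ : F₀) : F) * α₁ - 2 * t * ((Q r₂ : F₀) : F) * α₂) / (Q u : F₀)) • rat F₀ P r₂ := by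
      have hqu' : ((Q u : F₀) : F) ≠ 0 := fun e => hqu (Subtype.ext e)
      rw [hdR, map_add, map_smul, map_smul, hT, hτ, Subgroup.coe_mul, LinearEquiv.mul_apply, LinearEquiv.mul_apply,
        rU_perp s hq₁ (s.val_zero r12), rU_apply s hq₁, s.val_self, map_sub, map_smul, rU_apply s hqu,
        rU_apply s hqu]
      simp only [hu, rat_add, rat_smul, map_add, LinearMap.add_apply, smul_left, s.fix_coe, s.val_self,
        s.val_zero r12, s.val_zero t1]
      match_scalars <;> field_simp <;> ring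
    have hqu' : ((Q u : F₀) : F) ≠ 0 := fun e => hqu (Subtype.ext e)
    rw [eT, hdR] at hsym
    simp only [map_add, LinearMap.add_apply, smul_left, smul_right, s.val_self, s.val_zero r12, s.val_zero t1,
      map_neg, map_sub, map_mul, map_div₀, map_ofNat, s.fix_coe] at hsym
    field_simp at hsym
    have h0 : (8 : F) * t * (Q r₁ : F₀) * (Q r₂ : F₀) * (σ α₂ * α₁ - σ α₁ * α₂) = 0 := by
      linear_combination hsym
    have h8 : (8 : F) * t * (Q r₁ : F₀) * (Q r₂ : F₀) ≠ 0 := by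
      refine mul_ne_zero (mul_ne_zero (mul_ne_zero ?_ fun e => ht0 (Subtype.ext e)) hq₁') hq₂'
      rw [show (8 : F) = 2 * 2 * 2 by norm_num]
      exact mul_ne_zero (mul_ne_zero s.odd s.odd) s.odd
    exact (sub_eq_zero.1 ((mul_eq_zero.1 h0).resolve_left h8)).symm
  obtain ⟨μ, r₀, hμ0, hdμ, ha₀, hb₀⟩ : ∃ (μ : F) (r₀ : Fin 4 → F₀), μ ≠ 0 ∧ d = μ • rat F₀ P r₀ ∧
      polar ⇑Q a r₀ = 0 ∧ polar ⇑Q b r₀ = 0 := by
    have hd0 : d ≠ 0 := fun e => hqx (Subtype.ext (by
      have := hdd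
      rw [e, map_zero] at this
      exact (mul_eq_zero.1 this.symm).resolve_left s.odd))
    by_cases h1 : α₁ = 0
    · refine ⟨α₂, r₂, fun h2 => hd0 ?_, by rw [hdR, h1, zero_smul, zero_add], a2, b2⟩
      rw [hdR, h1, h2, zero_smul, zero_smul, add_zero]
    · have hm : α₂ / α₁ ∈ F₀ := by
        rw [s.fix, map_div₀, div_eq_div_iff (fun e => h1 (IsInvol.apply_eq_zero_iff.1 e)) h1]
        linear_combination -hprop
      refine ⟨α₁, r₁ + (⟨_, hm⟩ : F₀) • r₂, h1, ?_,
        by rw [Quad.polar_add_right', Quad.polar_smul_right', a1, a2, mul_zero, add_zero],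
        by rw [Quad.polar_add_right', Quad.polar_smul_right', b1, b2, mul_zero, add_zero]⟩
      rw [rat_add, rat_smul, smul_add, smul_smul, mul_div_cancel₀ _ h1, ← hdR]
  have hq₀ : (μ * σ μ) * ((Q r₀ : F₀) : F) = ((Q x : F₀) : F) := by
    have := hdd
    rw [hdμ, IsHerm.smul_self, s.val_self] at this
    exact mul_left_cancel₀ s.odd (by linear_combination this)
  -- the rescaled vector
  obtain ⟨a', b', hab'⟩ := s.split (σ μ • c)
  obtain ⟨m₀, m₁, hμs⟩ : ∃ m₀ m₁ : F₀, σ μ = (m₀ : F) + γ * m₁ := by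
    have e2 := s.odd
    have e3 := s.ne
    refine ⟨⟨(σ μ + μ) / 2, (s.fix _).2 (by rw [map_div₀, map_add, h.invol.invol, map_ofNat, add_comm])⟩,
      ⟨(σ μ - μ) / (2 * γ), (s.fix _).2 (by
        rw [map_div₀, map_sub, h.invol.invol, map_mul, map_ofNat, s.skew, mul_neg, div_neg, ← neg_div,
          neg_sub])⟩, ?_⟩
    field_simp
    ring
  obtain ⟨ea, eb⟩ := s.split_inj (a := a') (b := b') (a' := m₀ • a + (s.nu * m₁) • b) (b' := m₁ • a + m₀ • b) (by
    rw [← hab', hab, hμs, rat_add, rat_add, rat_smul, rat_smul, rat_smul, rat_smul]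
    push_cast [s.coe_nu, s.coe_two, s.coe_four, s.coe_eight]
    module)
  have hperp : ∀ r, polar ⇑Q a r = 0 → polar ⇑Q b r = 0 → polar ⇑Q a' r = 0 ∧ polar ⇑Q b' r = 0 := by
    intro r h1 h2
    simp only [ea, eb, Quad.polar_add_left', Quad.polar_smul_left', h1, h2, mul_zero, add_zero, and_self]
  have hm01 : ¬ (m₀ = 0 ∧ m₁ = 0) := fun e => hμ0 (IsInvol.apply_eq_zero_iff.1 (by rw [hμs, e.1, e.2]; simp))
  have hmN : m₀ * m₀ - s.nu * (m₁ * m₁) ≠ 0 := fun e => hm01 (s.norm_zero (sub_eq_zero.1 e))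
  have hQ' : Q a' = s.nu * Q b' := by
    rw [ea, eb]
    simp only [Quad.apply_add, Quad.apply_smul, Quad.polar_smul_left', Quad.polar_smul_right', hQab]
    ring
  have hne' : ¬ (Q b' = 0 ∧ polar ⇑Q a' b' = 0) := by
    rintro ⟨e1, e2⟩
    rw [eb, Quad.apply_add, Quad.apply_smul, Quad.apply_smul, Quad.polar_smul_left', Quad.polar_smul_right',
      hQab] at e1
    rw [ea, eb] at e2
    simp only [Quad.polar_add_left', Quad.polar_add_right', Quad.polar_smul_left', Quad.polar_smul_right',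
      Quad.polar_self', QuadraticMap.polar_comm (⇑Q) b a, hQab] at e2
    have x1 : (m₀ * m₀ - s.nu * (m₁ * m₁)) * (m₀ * m₀ - s.nu * (m₁ * m₁)) * Q b = 0 := by
      linear_combination (m₀ * m₀ + s.nu * (m₁ * m₁)) * e1 - m₀ * m₁ * e2
    have x2 : (m₀ * m₀ - s.nu * (m₁ * m₁)) * (m₀ * m₀ - s.nu * (m₁ * m₁)) * polar ⇑Q a b = 0 := by
      linear_combination (m₀ * m₀ + s.nu * (m₁ * m₁)) * e2 - 4 * s.nu * m₀ * m₁ * e1
    exact hne ⟨(mul_eq_zero.1 x1).resolve_left (mul_ne_zero hmN hmN),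
      (mul_eq_zero.1 x2).resolve_left (mul_ne_zero hmN hmN)⟩
  refine ⟨a', b', hQ', hne', fun r => ⟨fun h => hperp r h.1 h.2, fun hr => ?_⟩, ?_⟩
  · obtain ⟨h1, h2⟩ := hr
    simp only [ea, eb, Quad.polar_add_left', Quad.polar_smul_left'] at h1 h2
    exact ⟨(mul_eq_zero.1 (show (m₀ * m₀ - s.nu * (m₁ * m₁)) * polar ⇑Q a r = 0 by
      linear_combination m₀ * h1 - s.nu * m₁ * h2)).resolve_left hmN,
      (mul_eq_zero.1 (show (m₀ * m₀ - s.nu * (m₁ * m₁)) * polar ⇑Q b r = 0 by
      linear_combination m₀ * h2 - m₁ * h1)).resolve_left hmN⟩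
  set C := σ μ • c with hC
  have hCC : B C C = 0 := by rw [hC, IsHerm.smul_self, hcc, mul_zero]
  have hperp' : ∀ r, polar ⇑Q a' r = 0 → polar ⇑Q b' r = 0 → polar ⇑Q a r = 0 ∧ polar ⇑Q b r = 0 := by
    intro r h1 h2
    simp only [ea, eb, Quad.polar_add_left', Quad.polar_smul_left'] at h1 h2
    constructor
    · refine (mul_eq_zero.1 (show (m₀ * m₀ - s.nu * (m₁ * m₁)) * polar ⇑Q a r = 0 by
        linear_combination m₀ * h1 - s.nu * m₁ * h2)).resolve_left hmN
    · refine (mul_eq_zero.1 (show (m₀ * m₀ - s.nu * (m₁ * m₁)) * polar ⇑Q b r = 0 by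
        linear_combination m₀ * h2 - m₁ * h1)).resolve_left hmN
  -- the set of rational directions
  let R₀ : AddSubgroup (Fin 4 → F₀) :=
    { carrier := {r | ∃ hu : B C (rat F₀ P r) = 0, h.eich hCC hu (s.trace_rat r) ∈ K}
      zero_mem' := ⟨by rw [rat_zero, map_zero], by
        convert one_mem K
        refine Subtype.ext (LinearEquiv.ext fun z => ?_)
        simp [IsHerm.eich_apply, rat_zero]⟩
      add_mem' := by
        rintro p r ⟨hp, mp⟩ ⟨hr, mr⟩
        refine ⟨by rw [rat_add, map_add, hp, hr, add_zero], ?_⟩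
        have := K.mul_mem mp mr
        rw [eich_mul' h hCC hp hr] at this
        convert this using 1
        refine eich_congr' h rfl (rat_add p r) ?_
        rw [s.val, Quad.apply_add]
        push_cast
        ring
      neg_mem' := by
        rintro r ⟨hr, mr⟩
        have e : rat F₀ P (-r) = -rat F₀ P r := by
          rw [show (-r) = (-1 : F₀) • r from (neg_one_smul _ _).symm, rat_smul]; simp
        refine ⟨by rw [e, map_neg, hr, neg_zero], ?_⟩
        have := K.inv_mem mr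
        rw [eich_inv' h hCC hr] at this
        convert this using 1
        refine eich_congr' h rfl e ?_
        rw [QuadraticMap.map_neg, map_neg, s.fix_coe] }
  have hk₀ : ∀ k : F₀, k • r₀ ∈ R₀ := by
    intro k
    obtain ⟨hu, he, hm⟩ := hstd k
    have hμ' : σ μ ≠ 0 := fun e => hμ0 (IsInvol.apply_eq_zero_iff.1 e)
    refine ⟨?_, ?_⟩
    · rw [hC, smul_left, rat_smul, smul_right]
      have e := hu
      rw [hdμ, smul_smul, smul_right] at e
      rcases mul_eq_zero.1 e with e | e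
      · rcases mul_eq_zero.1 e with e | e
        · rw [e]; simp
        · exact absurd e hμ0
      · rw [e]; simp
    · convert hm using 1
      refine Subtype.ext (LinearEquiv.ext fun z => ?_)
      simp only [IsHerm.eich_apply, hdμ, hC, rat_smul, smul_left, h.invol.invol, map_mul, s.fix_coe,
        Quad.apply_smul, Subfield.coe_mul, ← hq₀, Subfield.coe_neg]
      match_scalars <;> ring
  have hrot : ∀ r ∈ R₀, ∀ {p p' : Fin 4 → F₀} (hp : Q p ≠ 0) (hp' : Q p' ≠ 0), polar ⇑Q a p = 0 → polar ⇑Q b p = 0 →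
      polar ⇑Q a p' = 0 → polar ⇑Q b p' = 0 →
      r - ((Q p')⁻¹ * polar ⇑Q p' r) • p' -
        ((Q p)⁻¹ * polar ⇑Q p (r - ((Q p')⁻¹ * polar ⇑Q p' r) • p')) • p ∈ R₀ := by
    rintro r ⟨hr, mr⟩ p p' hp hp' pa pb pa' pb'
    set k := rU s hp * rU s hp' with hk
    have hkC : (k : (Fin 4 → F) ≃ₗ[F] (Fin 4 → F)) C = C := by
      rw [hC, map_smul, hk, Subgroup.coe_mul, LinearEquiv.mul_apply,
        rU_perp s hp' (h.eq_zero_symm (hcR p' pa' pb')), rU_perp s hp (h.eq_zero_symm (hcR p pa pb))]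
    have hkr : (k : (Fin 4 → F) ≃ₗ[F] (Fin 4 → F)) (rat F₀ P r) = rat F₀ P (r - ((Q p')⁻¹ * polar ⇑Q p' r) • p' -
        ((Q p)⁻¹ * polar ⇑Q p (r - ((Q p')⁻¹ * polar ⇑Q p' r) • p')) • p) := by
      rw [hk, Subgroup.coe_mul, LinearEquiv.mul_apply, rU_rat, rU_rat]
    have hz : B C ((k : (Fin 4 → F) ≃ₗ[F] (Fin 4 → F)) (rat F₀ P r)) = 0 := by
      conv_lhs => rw [← hkC]
      rw [HU.map_eq, hr]
    refine ⟨by rw [← hkr]; exact hz, ?_⟩
    have := K.mul_mem (K.mul_mem (pair_mem s hK hp hp') mr) (K.inv_mem (pair_mem s hK hp hp'))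
    rw [← hk, eich_conj'] at this
    convert this using 1
    refine eich_congr' h hkC.symm hkr.symm ?_
    have e := HU.map_eq k (rat F₀ P r) (rat F₀ P r)
    rw [hkr, s.val_self, s.val_self] at e
    rw [mul_left_cancel₀ s.odd e]
  have hq₀0 : Q r₀ ≠ 0 := fun e => hqx (Subtype.ext (by rw [← hq₀, e]; simp))
  intro r hra hrb
  obtain ⟨hra, hrb⟩ := hperp' r hra hrb
  have hR : r ∈ R₀ := by
    set r' := r - ((polar ⇑Q r₀ r) / (2 * Q r₀)) • r₀ with hr'
    have r'a : polar ⇑Q a r' = 0 := by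
      rw [hr', QuadraticMap.polar_sub_right, Quad.polar_smul_right', hra, ha₀, mul_zero, sub_zero]
    have r'b : polar ⇑Q b r' = 0 := by
      rw [hr', QuadraticMap.polar_sub_right, Quad.polar_smul_right', hrb, hb₀, mul_zero, sub_zero]
    have r'0 : polar ⇑Q r₀ r' = 0 := by
      rw [hr', QuadraticMap.polar_sub_right, Quad.polar_smul_right', Quad.polar_self',
        div_mul_cancel₀ _ (mul_ne_zero s.two hq₀0), sub_self]
    have e : r = r' + ((polar ⇑Q r₀ r) / (2 * Q r₀)) • r₀ := by rw [hr', sub_add_cancel]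
    rw [e]
    refine R₀.add_mem ?_ (hk₀ _)
    obtain ⟨t', ht', hN'⟩ := exists_nz_sum s (q₂ := Q r') hq₀0
    have hqu' : Q (r₀ + t' • r') ≠ 0 := by
      rw [Quad.apply_add, Quad.apply_smul, Quad.polar_smul_right', r'0, mul_zero, add_zero]; exact hN'
    set ℓ := (Q r₀ + t' * t' * Q r') / (2 * t' * Q r₀) with hℓ
    have m1 := hrot _ (hk₀ ℓ) hqu' hq₀0
      (by rw [Quad.polar_add_right', Quad.polar_smul_right', ha₀, r'a, mul_zero, add_zero])
      (by rw [Quad.polar_add_right', Quad.polar_smul_right', hb₀, r'b, mul_zero, add_zero]) ha₀ hb₀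
    have m2 := R₀.sub_mem m1 (hk₀ ((ℓ * (2 * Q r₀)) / (Q r₀ + t' * t' * Q r') - ℓ))
    convert m2 using 1
    simp only [Quad.apply_add, Quad.apply_smul, Quad.polar_add_left', Quad.polar_smul_left',
      QuadraticMap.polar_sub_right, Quad.polar_smul_right', Quad.polar_self', r'0,
      QuadraticMap.polar_comm (⇑Q) r' r₀, mul_zero, add_zero, hℓ]
    have hN2 : Q r₀ + t' ^ 2 * Q r' ≠ 0 := by rwa [sq]
    have hN3 : Q r₀ * 2 + t' ^ 2 * Q r' * 2 ≠ 0 := fun e0 => hN2
      ((mul_eq_zero.1 (show (2 : F₀) * (Q r₀ + t' ^ 2 * Q r') = 0 by linear_combination e0)).resolve_left s.two)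
    have h20 := s.two
    match_scalars <;> field_simp <;> ring
  obtain ⟨hu, hm⟩ := hR
  refine ⟨by rw [← hab']; exact hCC, by rw [← hab']; exact hu, ?_⟩
  convert hm using 1
  exact eich_congr' h hab'.symm rfl rfl

/-- A singular vector of the plane gives a transvection. -/
theorem no_singular (hK : HasRat s K) (hno : ¬ ∃ e, Q e = 0 ∧ e ≠ 0 ∧ HasTr s.herm K (rat F₀ P e)) {g : HU B}
    (hg : g ∈ K) {w : Fin 4 → F₀} (hw : Q w = 0) (hw0 : w ≠ 0) {a b : Fin 4 → F₀}
    (hab : (g : (Fin 4 → F) ≃ₗ[F] (Fin 4 → F)) (rat F₀ P w) = rat F₀ P a + γ • rat F₀ P b)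
    (hne : ¬ (Q b = 0 ∧ polar ⇑Q a b = 0)) {v : Fin 4 → F₀} (hv0 : v ≠ 0) (hv : Q v = 0)
    (hav : polar ⇑Q a v = 0) (hbv : polar ⇑Q b v = 0) : False := by
  have h := s.herm
  obtain ⟨a', b', -, hne', hperp, hsie⟩ := exists_siegel s hK hno hg hw hw0 hab hne
  obtain ⟨hav', hbv'⟩ := (hperp v).1 ⟨hav, hbv⟩
  obtain ⟨hu, hux, hm⟩ := hsie v hav' hbv'
  set C := rat F₀ P a' + γ • rat F₀ P b' with hC
  have hb : b' ∉ Submodule.span F₀ {v} := fun hmem => by
    obtain ⟨k, rfl⟩ := Submodule.mem_span_singleton.1 hmem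
    exact hne' ⟨by rw [Quad.apply_smul, hv, mul_zero], by rw [Quad.polar_smul_right', hav', mul_zero]⟩
  obtain ⟨r, hr1, hr⟩ := Quad.exists_sep_polar s.nondeg hb
  have hvr : B (rat F₀ P v) (rat F₀ P r) = 0 := s.val_zero (hr v (Submodule.mem_span_singleton_self v))
  have hvC : B (rat F₀ P v) (-C) = 0 := by rw [map_neg, h.eq_zero_symm hux, neg_zero]
  have h0 : (0 : F) + σ 0 = -B (-C) (-C) := by rw [map_neg, LinearMap.map_neg₂, neg_neg, hu]; simp
  have hX : h.eich (s.iso hv) hvC h0 ∈ K := by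
    convert hm using 1
    refine Subtype.ext (LinearEquiv.ext fun z => ?_)
    simp only [IsHerm.eich_apply, hv, ZeroMemClass.coe_zero, LinearMap.map_neg₂]
    module
  have hY := eich_rat s hK v r (s.iso hv) hvr (s.trace_rat r) rfl
  have hc : B (rat F₀ P r) (-C) - B (-C) (rat F₀ P r) + σ (B (rat F₀ P r) (-C) - B (-C) (rat F₀ P r)) = 0 := by
    rw [map_sub, h.symm, h.symm]; ring
  have e1 := h.eich_mul_comm (s.iso hv) hvC hvr h0 (s.trace_rat r) hc rfl
  have m := K.mul_mem (K.mul_mem hX hY) (K.inv_mem (K.mul_mem hY hX))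
  rw [e1, mul_inv_cancel_right] at m
  refine hno ⟨v, hv, hv0, hasTr_of_one s hK hv hv0 hc ?_ m⟩
  intro e
  rw [map_neg, LinearMap.map_neg₂, hC, s.right_split, s.left_split, QuadraticMap.polar_comm (⇑Q) r a',
    QuadraticMap.polar_comm (⇑Q) r b', hr1, OneMemClass.coe_one] at e
  exact mul_ne_zero s.odd s.ne (by linear_combination -e)

set_option maxHeartbeats 2000000 in
/-- Every image of a rational singular vector spans a degenerate plane. -/
theorem degenerate_image (hK : HasRat s K) (hno : ¬ ∃ e, Q e = 0 ∧ e ≠ 0 ∧ HasTr s.herm K (rat F₀ P e)) {g : HU B}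
    (hg : g ∈ K) {w : Fin 4 → F₀} (hw : Q w = 0) (hw0 : w ≠ 0) {a b : Fin 4 → F₀}
    (hab : (g : (Fin 4 → F) ≃ₗ[F] (Fin 4 → F)) (rat F₀ P w) = rat F₀ P a + γ • rat F₀ P b) :
    Q b = 0 ∧ polar ⇑Q a b = 0 := by
  classical
  by_contra hne
  have h := s.herm
  obtain ⟨a', b', hQ', hne', hperp, hsie⟩ := exists_siegel s hK hno hg hw hw0 hab hne
  set β₀ := polar ⇑Q a' b' with hβ₀
  have hD : β₀ * β₀ - 4 * Q a' * Q b' ≠ 0 := by
    intro h0
    obtain ⟨h1, h2⟩ := s.norm_zero (x := β₀) (y := 2 * Q b') (by rw [hQ'] at h0; linear_combination h0)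
    exact hne' ⟨(mul_eq_zero.1 h2).resolve_left s.two, h1⟩
  -- the plane is anisotropic
  obtain ⟨ra, rb, aa, ba, ab', bb, rab, hqa, hqb⟩ := exists_plane s (a := a) (b := b) (by
    intro h0
    have hQab : Q a = s.nu * Q b := by
      have e : B (rat F₀ P a + γ • rat F₀ P b) (rat F₀ P a + γ • rat F₀ P b) = 0 := by
        rw [← hab, HU.map_eq, s.iso hw]
      rw [map_add, map_smul, smul_eq_mul, s.left_split, s.left_split, Quad.polar_self', Quad.polar_self',
        QuadraticMap.polar_comm (⇑Q) b a] at e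
      refine mul_left_cancel₀ s.two (Subtype.ext ?_)
      push_cast [s.coe_nu, s.coe_two, s.coe_four, s.coe_eight] at e ⊢
      linear_combination e
    obtain ⟨h1, h2⟩ := s.norm_zero (x := polar ⇑Q a b) (y := 2 * Q b) (by rw [hQab] at h0; linear_combination h0)
    exact hne ⟨(mul_eq_zero.1 h2).resolve_left s.two, h1⟩)
  have haniso : ∀ k l : F₀, Q (k • ra + l • rb) = 0 → k • ra + l • rb = 0 := by
    intro k l hq
    by_contra h0
    exact no_singular s hK hno hg hw hw0 hab hne h0 hq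
      (by rw [Quad.polar_add_right', Quad.polar_smul_right', Quad.polar_smul_right', aa, ab']; ring)
      (by rw [Quad.polar_add_right', Quad.polar_smul_right', Quad.polar_smul_right', ba, bb]; ring)
  obtain ⟨aa', ba'⟩ := (hperp ra).1 ⟨aa, ba⟩
  obtain ⟨ab'', bb'⟩ := (hperp rb).1 ⟨ab', bb⟩
  have hval : ∀ c : F₀, ∃ r, polar ⇑Q a' r = 0 ∧ polar ⇑Q b' r = 0 ∧ Q r = c := by
    intro c
    obtain ⟨k, l, hkl⟩ := Quad.exists_sum_two_squares s.two hqa hqb c
    refine ⟨k • ra + l • rb, ?_, ?_, ?_⟩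
    · rw [Quad.polar_add_right', Quad.polar_smul_right', Quad.polar_smul_right', aa', ab'']; ring
    · rw [Quad.polar_add_right', Quad.polar_smul_right', Quad.polar_smul_right', ba', bb']; ring
    · rw [Quad.apply_add, Quad.apply_smul, Quad.apply_smul, Quad.polar_smul_left', Quad.polar_smul_right', rab]
      linear_combination hkl
  -- an anisotropic vector of the span
  obtain ⟨p, hpR, hpy, hqp⟩ : ∃ p, (∀ r, polar ⇑Q a' r = 0 → polar ⇑Q b' r = 0 → polar ⇑Q p r = 0) ∧
      polar ⇑Q b' p ≠ 0 ∧ Q p ≠ 0 := by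
    by_cases hb0 : Q b' = 0
    · have hβ : β₀ ≠ 0 := fun e => hne' ⟨hb0, e⟩
      refine ⟨a' + b', fun r h1 h2 => by rw [Quad.polar_add_left', h1, h2, add_zero], ?_, ?_⟩
      · rw [Quad.polar_add_right', Quad.polar_self', QuadraticMap.polar_comm, ← hβ₀, hb0]; simpa using hβ
      · rw [Quad.apply_add, hQ', hb0, ← hβ₀]; simpa using hβ
    · exact ⟨b', fun r _ h2 => h2, by rw [Quad.polar_self']; exact mul_ne_zero s.two hb0, hb0⟩
  set x := polar ⇑Q a' p with hx
  set y := -polar ⇑Q b' p with hy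
  have hy0 : y ≠ 0 := neg_ne_zero.2 hpy
  obtain ⟨eR, hea, heb, hqe⟩ := hval (-Q p)
  set N := x * x - s.nu * (y * y) with hN
  have hN0 : N ≠ 0 := fun e => hy0 (s.norm_zero (sub_eq_zero.1 e)).2
  set k₀ := 2 * x / N with hk₀
  set M := 4 * Q p / N * (-(s.nu * (y * y)) / N) with hM
  have hM0 : M ≠ 0 := by
    refine mul_ne_zero (div_ne_zero (mul_ne_zero ?_ hqp) hN0) (div_ne_zero (neg_ne_zero.2 (mul_ne_zero ?_
      (mul_ne_zero hy0 hy0))) hN0)
    · rw [show (4 : F₀) = 2 * 2 by norm_num]; exact mul_ne_zero s.two s.two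
    · exact fun e0 => s.ne (mul_self_eq_zero.1 (congrArg Subtype.val e0))
  obtain ⟨r', r'a, r'b, hqr', hrr⟩ : ∃ r', polar ⇑Q a' r' = 0 ∧ polar ⇑Q b' r' = 0 ∧ Q r' = M ∧
      polar ⇑Q eR r' ≠ 0 := by
    obtain ⟨r', h1, h2, h3⟩ := hval M
    by_cases h4 : polar ⇑Q eR r' = 0
    swap
    · exact ⟨r', h1, h2, h3, h4⟩
    obtain ⟨t, ht0, htN⟩ := exists_nz_sum s (q₁ := Q eR) (q₂ := Q r') (by rw [hqe]; exact neg_ne_zero.2 hqp)
    set u := eR + t • r' with hu
    have hqu : Q u = Q eR + t * t * Q r' := by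
      rw [hu, Quad.apply_add, Quad.apply_smul, Quad.polar_smul_right', h4, mul_zero, add_zero]
    have hqu0 : Q u ≠ 0 := hqu ▸ htN
    have hur : polar ⇑Q u r' = 2 * t * M := by
      rw [hu, Quad.polar_add_left', Quad.polar_smul_left', h4, Quad.polar_self', h3]; ring
    refine ⟨r' - ((Q u)⁻¹ * polar ⇑Q u r') • u, ?_, ?_, ?_, ?_⟩
    · rw [QuadraticMap.polar_sub_right, Quad.polar_smul_right', hu, Quad.polar_add_right', Quad.polar_smul_right',
        h1, hea]
      ring
    · rw [QuadraticMap.polar_sub_right, Quad.polar_smul_right', hu, Quad.polar_add_right', Quad.polar_smul_right',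
        h2, heb]
      ring
    · rw [sub_eq_add_neg, ← neg_smul, Quad.apply_add, Quad.apply_smul, Quad.polar_smul_right',
        QuadraticMap.polar_comm (⇑Q) r' u, h3]
      field_simp
      ring
    · rw [QuadraticMap.polar_sub_right, Quad.polar_smul_right', h4, hur, hu, Quad.polar_add_right',
        Quad.polar_smul_right', h4, Quad.polar_self', ← hu, mul_zero, add_zero, zero_sub, neg_ne_zero]
      exact mul_ne_zero (mul_ne_zero (inv_ne_zero hqu0) (mul_ne_zero (mul_ne_zero s.two ht0) hM0))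
        (mul_ne_zero s.two (by rw [hqe]; exact neg_ne_zero.2 hqp))
  have hep : polar ⇑Q p eR = 0 := hpR eR hea heb
  set e := p + eR with he
  have hqe' : Q e = 0 := by rw [he, Quad.apply_add, hqe, hep]; ring
  set v := p - eR with hv
  have hqv : Q v = 0 := by
    rw [hv, sub_eq_add_neg, Quad.apply_add, QuadraticMap.map_neg, hqe, QuadraticMap.polar_neg_right, hep]; ring
  have he0 : e ≠ 0 := fun h0 => mul_ne_zero s.two hqp (by
    have : polar ⇑Q p e = 0 := by rw [h0, QuadraticMap.polar_zero_right]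
    rwa [he, Quad.polar_add_right', hep, Quad.polar_self', add_zero] at this)
  have hv0 : v ≠ 0 := fun h0 => mul_ne_zero s.two hqp (by
    have : polar ⇑Q p v = 0 := by rw [h0, QuadraticMap.polar_zero_right]
    rwa [hv, QuadraticMap.polar_sub_right, hep, Quad.polar_self', sub_zero] at this)
  set β := polar ⇑Q eR r' with hβ
  -- the two candidates
  have cand : ∀ ε : F₀, ε * ε = 1 →
      let r := ε • r' - k₀ • eR
      let ρ := polar ⇑Q r e
      (Q r * N = 4 * Q p - 2 * x * ρ) ∧ ρ = ε * β + 2 * k₀ * Q p ∧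
      ∃ (h : HU B), h ∈ K ∧ ∃ A' B', (h : (Fin 4 → F) ≃ₗ[F] (Fin 4 → F)) (rat F₀ P e) = rat F₀ P A' + γ • rat F₀ P B' ∧
        polar ⇑Q A' v = 0 ∧ polar ⇑Q B' v = 0 ∧
        4 * s.nu * Q B' = 4 * s.nu * y * (Q r * y) + 4 * s.nu * Q b' * ((ρ + Q r * x) * (ρ + Q r * x) +
          s.nu * (Q r * y) * (Q r * y)) + 4 * s.nu * (ρ + Q r * x) * (Q r * y) * β₀ ∧
        2 * polar ⇑Q A' B' = 4 * y * (ρ + Q r * x) + 2 * β₀ * ((ρ + Q r * x) * (ρ + Q r * x) +
          s.nu * (Q r * y) * (Q r * y)) + 8 * s.nu * Q b' * (ρ + Q r * x) * (Q r * y) := by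
    intro ε hε r ρ
    have hpr' : polar ⇑Q p r' = 0 := hpR r' r'a r'b
    have hρ : ρ = ε * β + 2 * k₀ * Q p := by
      simp only [ρ, r, he, hβ, Quad.polar_add_right', QuadraticMap.polar_sub_left, Quad.polar_smul_left',
        Quad.polar_self', hqe, QuadraticMap.polar_comm (⇑Q) r' p, QuadraticMap.polar_comm (⇑Q) eR p, hpr', hep,
        QuadraticMap.polar_comm (⇑Q) r' eR]
      ring
    have hqr : Q r = M - k₀ * ε * β - k₀ * k₀ * Q p := by
      simp only [r, sub_eq_add_neg, ← neg_smul, Quad.apply_add, Quad.apply_smul, Quad.polar_smul_left',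
        Quad.polar_smul_right', hqr', hqe, QuadraticMap.polar_comm (⇑Q) r' eR, ← hβ]
      linear_combination M * hε
    have hrN : Q r * N = 4 * Q p - 2 * x * ρ := by
      rw [hqr, hρ, hM, hk₀]
      field_simp
      rw [hN]
      ring
    have ra' : polar ⇑Q a' r = 0 := by
      simp only [r, QuadraticMap.polar_sub_right, Quad.polar_smul_right', r'a, hea, mul_zero, sub_zero]
    have rb' : polar ⇑Q b' r = 0 := by
      simp only [r, QuadraticMap.polar_sub_right, Quad.polar_smul_right', r'b, heb, mul_zero, sub_zero]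
    refine ⟨hrN, hρ, ?_⟩
    obtain ⟨hu, hux, hm⟩ := hsie r ra' rb'
    have hbe : polar ⇑Q b' e = -y := by rw [he, Quad.polar_add_right', heb, add_zero, hy, neg_neg]
    have hae : polar ⇑Q a' e = x := by rw [he, Quad.polar_add_right', hea, add_zero]
    refine ⟨_, hm, e + x • r - (ρ + Q r * x) • a' - (s.nu * (Q r * y)) • b',
      y • r - (Q r * y) • a' - (ρ + Q r * x) • b', ?_, ?_, ?_, ?_, ?_⟩
    · rw [IsHerm.eich_apply, s.left_split, hae, hbe, s.val, sub_eq_add_neg (G := Fin 4 → F₀),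
        sub_eq_add_neg (G := Fin 4 → F₀), sub_eq_add_neg (G := Fin 4 → F₀), sub_eq_add_neg (G := Fin 4 → F₀),
        ← neg_smul, ← neg_smul, ← neg_smul, ← neg_smul]
      simp only [rat_add, rat_smul]
      push_cast [s.coe_nu, s.coe_two, s.coe_four, s.coe_eight]
      module
    all_goals
      have pr : polar ⇑Q p r = 0 := hpR r ra' rb'
      have er : polar ⇑Q eR r = ρ := by
        have : ρ = polar ⇑Q r e := rfl
        rw [this, he, Quad.polar_add_right', QuadraticMap.polar_comm (⇑Q) r p, pr, zero_add,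
          QuadraticMap.polar_comm]
      simp only [hv, he, sub_eq_add_neg, ← neg_smul, Quad.apply_add, Quad.apply_smul, Quad.polar_add_left',
        Quad.polar_add_right', Quad.polar_smul_left', Quad.polar_smul_right', Quad.polar_self', hqe,
        QuadraticMap.map_neg, QuadraticMap.polar_neg_left, QuadraticMap.polar_neg_right,
        QuadraticMap.polar_comm (⇑Q) r a', QuadraticMap.polar_comm (⇑Q) r b', ra', rb',
        QuadraticMap.polar_comm (⇑Q) r p, pr, QuadraticMap.polar_comm (⇑Q) r eR, er, hep,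
        QuadraticMap.polar_comm (⇑Q) eR p, QuadraticMap.polar_comm (⇑Q) b' a', ← hβ₀, hQ',
        QuadraticMap.polar_comm (⇑Q) p a', ← hx, QuadraticMap.polar_comm (⇑Q) p b',
        show polar ⇑Q b' p = -y from (neg_neg _).symm,
        QuadraticMap.polar_comm (⇑Q) eR a', hea, QuadraticMap.polar_comm (⇑Q) eR b', heb]
      first
        | ring1
        | linear_combination -hrN + Q r * hN
  have bad : ∀ ε : F₀, ε * ε = 1 → Q (ε • r' - k₀ • eR) ≠ 0 ∧
      (((polar ⇑Q (ε • r' - k₀ • eR) e + Q (ε • r' - k₀ • eR) * x : F₀) : F) +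
        γ * ((Q (ε • r' - k₀ • eR) * y : F₀) : F)) * (4 * (s.nu * Q b' : F₀) + 2 * γ * (β₀ : F₀)) =
        -(4 * γ * (y : F₀)) := by
    intro ε hε
    obtain ⟨hrN, hρ, k, hk, A', B', hkE, hA', hB', e1, e2⟩ := cand ε hε
    have hdeg : Q B' = 0 ∧ polar ⇑Q A' B' = 0 := by
      by_contra hn
      exact no_singular s hK hno hk hqe' he0 hkE hn hv0 hqv hA' hB'
    set r := ε • r' - k₀ • eR with hr
    set ρ := polar ⇑Q r e
    have hr0 : Q r ≠ 0 := by
      intro h0
      have hr' : r = 0 := by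
        have hrp : polar ⇑Q a' r = 0 ∧ polar ⇑Q b' r = 0 := by
          constructor <;>
          simp only [hr, QuadraticMap.polar_sub_right, Quad.polar_smul_right', r'a, r'b, hea, heb, mul_zero, sub_zero]
        by_contra hr0
        exact no_singular s hK hno hg hw hw0 hab hne hr0 h0
          ((hperp r).2 hrp).1 ((hperp r).2 hrp).2
      have h4 : (4 : F₀) * Q p = 0 := by
        have : ρ = 0 := by simp only [ρ, hr', QuadraticMap.polar_zero_left]
        rw [h0, this] at hrN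
        linear_combination -hrN
      rcases mul_eq_zero.1 h4 with h5 | h5
      · rw [show (4 : F₀) = 2 * 2 by norm_num] at h5
        exact mul_ne_zero s.two s.two h5
      · exact hqp h5
    refine ⟨hr0, ?_⟩
    rw [hdeg.1, mul_zero] at e1
    rw [hdeg.2, mul_zero] at e2
    have e1' := congrArg (fun z : F₀ => (z : F)) e1
    have e2' := congrArg (fun z : F₀ => (z : F)) e2
    push_cast [s.coe_nu, s.coe_two, s.coe_four, s.coe_eight] at e1' e2' ⊢
    have ht : ((ρ : F₀) : F) + ((Q r : F₀) : F) * (x : F₀) + γ * (((Q r : F₀) : F) * (y : F₀)) ≠ 0 := by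
      intro h0
      have := (s.split_zero (x := ρ + Q r * x) (y := Q r * y) (by push_cast; exact h0)).2
      exact mul_ne_zero hr0 hy0 this
    refine mul_left_cancel₀ ht ?_
    linear_combination -e1' - γ * e2'
  obtain ⟨n1, b1⟩ := bad 1 (one_mul 1)
  obtain ⟨n2, b2⟩ := bad (-1) (by norm_num)
  have hκ : (4 * ((s.nu * Q b' : F₀) : F) + 2 * γ * (β₀ : F₀)) ≠ 0 := by
    intro h0
    rw [h0, mul_zero] at b1
    rcases mul_eq_zero.1 (neg_eq_zero.1 b1.symm) with h1 | h1
    · rcases mul_eq_zero.1 h1 with h2 | h2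
      · rw [show (4 : F) = 2 * 2 by norm_num] at h2
        exact mul_ne_zero s.odd s.odd h2
      · exact s.ne h2
    · exact hy0 (Subtype.ext h1)
  obtain ⟨c1, c2⟩ := s.split_zero
    (x := (polar ⇑Q ((1 : F₀) • r' - k₀ • eR) e + Q ((1 : F₀) • r' - k₀ • eR) * x) -
      (polar ⇑Q ((-1 : F₀) • r' - k₀ • eR) e + Q ((-1 : F₀) • r' - k₀ • eR) * x))
    (y := Q ((1 : F₀) • r' - k₀ • eR) * y - Q ((-1 : F₀) • r' - k₀ • eR) * y) (by
      refine mul_right_cancel₀ hκ ?_
      push_cast at b1 b2 ⊢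
      linear_combination b1 - b2)
  have hQeq : Q ((1 : F₀) • r' - k₀ • eR) = Q ((-1 : F₀) • r' - k₀ • eR) :=
    sub_eq_zero.1 ((mul_eq_zero.1 (show (Q ((1 : F₀) • r' - k₀ • eR) - Q ((-1 : F₀) • r' - k₀ • eR)) * y = 0 by
      linear_combination c2)).resolve_right hy0)
  have r1 := (cand 1 (one_mul 1)).2.1
  have r2 := (cand (-1) (by norm_num)).2.1
  rw [hQeq, r1, r2] at c1
  exact hrr ((mul_eq_zero.1 (show (2 : F₀) * β = 0 by linear_combination c1)).resolve_left s.two)

/-- A symmetric form vanishing on the singular vectors is a multiple of the polar form. -/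
theorem multiple_of_vanish (Φ : LinearMap.BilinForm F₀ (Fin 4 → F₀)) (hsymm : ∀ x y, Φ x y = Φ y x)
    (hΦ : ∀ x, Q x = 0 → Φ x x = 0) : ∃ lam : F₀, ∀ x y, Φ x y = lam * polar ⇑Q x y := by
  classical
  obtain ⟨e, -, f, -, he, hf, hef⟩ := exists_hyp s.nondeg (L := (⊤ : Submodule F₀ (Fin 4 → F₀))) (by
    rw [finrank_top, Module.finrank_fin_fun, Fintype.card_fin]; omega)
  set lam := Φ e f with hlam
  obtain ⟨t, ht⟩ := avoid s {0, 1, -1} (le_trans Finset.card_le_three (by norm_num))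
  simp only [Finset.mem_insert, Finset.mem_singleton, not_or] at ht
  have hfe : polar ⇑Q f e = 1 := by rw [QuadraticMap.polar_comm, hef]
  have hfΦ : Φ f e = lam := hsymm f e
  have hdiag : ∀ x, Φ x x = 2 * lam * Q x := by
    intro x
    set a := x - polar ⇑Q f x • e - polar ⇑Q e x • f with ha
    have hea : polar ⇑Q e a = 0 := by
      rw [ha, QuadraticMap.polar_sub_right, QuadraticMap.polar_sub_right, Quad.polar_smul_right',
        Quad.polar_smul_right', Quad.polar_self', he, hef]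
      ring
    have hfa : polar ⇑Q f a = 0 := by
      rw [ha, QuadraticMap.polar_sub_right, QuadraticMap.polar_sub_right, Quad.polar_smul_right',
        Quad.polar_smul_right', Quad.polar_self', hf, hfe]
      ring
    have key : ∀ k : F₀, k ≠ 0 →
        Φ a a + 2 * k * Φ e a - 2 * (Q a / k) * Φ f a - 2 * Q a * lam = 0 := by
      intro k hk
      have h0 := hΦ (k • e + a + (-(Q a / k)) • f) (by
        simp only [Quad.apply_add, Quad.apply_smul, Quad.polar_add_left', Quad.polar_smul_left',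
          Quad.polar_smul_right', he, hf, hef, hea, QuadraticMap.polar_comm (⇑Q) a f, hfa]
        field_simp
        ring)
      simp only [map_add, map_smul, LinearMap.add_apply, LinearMap.smul_apply, smul_eq_mul, hΦ e he, hΦ f hf,
        hsymm a e, hsymm a f, hfΦ, ← hlam] at h0
      have e1 : k * (Q a / k) = Q a := by field_simp
      linear_combination h0 + 2 * lam * e1
    have k1 := key 1 one_ne_zero
    have k2 := key (-1) (neg_ne_zero.2 one_ne_zero)
    have k3 := key t ht.1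
    rw [div_one] at k1
    rw [div_neg, div_one] at k2
    have hE : Φ e a = Q a * Φ f a := by
      refine mul_left_cancel₀ s.two (mul_left_cancel₀ s.two ?_)
      linear_combination k1 - k2
    have haa : Φ a a = 2 * lam * Q a := by linear_combination k1 - 2 * hE
    have hz : Φ e a = 0 := by
      have : 2 * Φ e a * ((t - 1) * (t + 1)) = 0 := by
        have e1 : t * (Q a / t) = Q a := by field_simp [ht.1]
        linear_combination t * k3 - t * haa + 2 * Φ f a * e1 - 2 * hE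
      rcases mul_eq_zero.1 this with h | h
      · exact (mul_eq_zero.1 h).resolve_left s.two
      · rcases mul_eq_zero.1 h with h | h
        · exact absurd (sub_eq_zero.1 h) ht.2.1
        · exact absurd (eq_neg_of_add_eq_zero_left h) ht.2.2
    have hw : Φ f a = 0 := by
      by_cases hq : Q a = 0
      · have h0 := hΦ (f + a) (by rw [Quad.apply_add, hf, hq, hfa]; ring)
        simp only [map_add, LinearMap.add_apply, hΦ f hf, hsymm a f, haa, hq] at h0
        exact mul_left_cancel₀ s.two (by linear_combination h0)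
      · exact (mul_eq_zero.1 (hE.symm.trans hz)).resolve_left hq
    have hx : x = polar ⇑Q f x • e + a + polar ⇑Q e x • f := by rw [ha]; abel
    set c := polar ⇑Q f x
    set d := polar ⇑Q e x
    rw [hx]
    simp only [map_add, map_smul, LinearMap.add_apply, LinearMap.smul_apply, smul_eq_mul, hΦ e he, hΦ f hf,
      hsymm a e, hsymm a f, hfΦ, ← hlam, hz, hw, haa, Quad.apply_add, Quad.apply_smul, Quad.polar_add_left',
      Quad.polar_smul_left', Quad.polar_smul_right', he, hf, hef, hea, QuadraticMap.polar_comm (⇑Q) a f, hfa]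
    ring
  refine ⟨lam, fun x y => mul_left_cancel₀ s.two ?_⟩
  have h1 := hdiag (x + y)
  rw [map_add, map_add, LinearMap.add_apply, LinearMap.add_apply, Quad.apply_add, hdiag x, hdiag y, hsymm y x] at h1
  linear_combination h1

/-- An element sending every rational singular vector to a degenerate one preserves the rational structure. -/
theorem rat_of_degenerate {g : HU B}
    (hdeg : ∀ w, Q w = 0 → w ≠ 0 → ∀ a b,
      (g : (Fin 4 → F) ≃ₗ[F] (Fin 4 → F)) (rat F₀ P w) = rat F₀ P a + γ • rat F₀ P b →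
        Q b = 0 ∧ polar ⇑Q a b = 0) :
    ∃ l : F, l ≠ 0 ∧ ∀ x, ∃ y, (g : (Fin 4 → F) ≃ₗ[F] (Fin 4 → F)) (rat F₀ P x) = l • rat F₀ P y := by
  set G := (g : (Fin 4 → F) ≃ₗ[F] (Fin 4 → F)) with hG
  choose A Bb hAB using fun x => s.split (G (rat F₀ P x))
  let La : (Fin 4 → F₀) →ₗ[F₀] (Fin 4 → F₀) :=
    { toFun := A
      map_add' := fun x y => (s.split_inj (b := Bb (x + y)) (b' := Bb x + Bb y) (by
        rw [← hAB, rat_add, map_add, hAB, hAB, rat_add, rat_add]; module)).1
      map_smul' := fun k x => (s.split_inj (b := Bb (k • x)) (b' := k • Bb x) (by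
        rw [← hAB, rat_smul, map_smul, hAB, RingHom.id_apply, rat_smul, rat_smul]; module)).1 }
  let Lb : (Fin 4 → F₀) →ₗ[F₀] (Fin 4 → F₀) :=
    { toFun := Bb
      map_add' := fun x y => (s.split_inj (a := A (x + y)) (a' := A x + A y) (by
        rw [← hAB, rat_add, map_add, hAB, hAB, rat_add, rat_add]; module)).2
      map_smul' := fun k x => (s.split_inj (a := A (k • x)) (a' := k • A x) (by
        rw [← hAB, rat_smul, map_smul, hAB, RingHom.id_apply, rat_smul, rat_smul]; module)).2 }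
  have hre : ∀ x y, polar ⇑Q (A x) (A y) - s.nu * polar ⇑Q (Bb x) (Bb y) = polar ⇑Q x y ∧
      polar ⇑Q (A x) (Bb y) - polar ⇑Q (Bb x) (A y) = 0 := by
    intro x y
    have e := HU.map_eq g (rat F₀ P x) (rat F₀ P y)
    rw [← hG, hAB, hAB, s.val, map_add, map_smul, smul_eq_mul, s.left_split, s.left_split] at e
    obtain ⟨h1, h2⟩ := s.split_zero (x := polar ⇑Q (A x) (A y) - s.nu * polar ⇑Q (Bb x) (Bb y) - polar ⇑Q x y)
      (y := polar ⇑Q (A x) (Bb y) - polar ⇑Q (Bb x) (A y)) (by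
        push_cast [s.coe_nu]
        linear_combination e)
    exact ⟨sub_eq_zero.1 h1, h2⟩
  have hdiag : ∀ x, Q x = 0 → Q (A x) = 0 ∧ Q (Bb x) = 0 ∧ polar ⇑Q (A x) (Bb x) = 0 := by
    intro x hx
    by_cases hx0 : x = 0
    · have e1 : A x = 0 := by rw [hx0]; exact map_zero La
      have e2 : Bb x = 0 := by rw [hx0]; exact map_zero Lb
      simp [e1, e2]
    obtain ⟨h1, h2⟩ := hdeg x hx hx0 _ _ (hAB x)
    have h3 := (hre x x).1
    rw [Quad.polar_self', Quad.polar_self', Quad.polar_self', h1, hx] at h3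
    exact ⟨(mul_eq_zero.1 (show (2 : F₀) * Q (A x) = 0 by linear_combination h3)).resolve_left s.two, h1, h2⟩
  let Φ₁ : LinearMap.BilinForm F₀ (Fin 4 → F₀) :=
    (polarBilin Q).compl₁₂ La La + s.nu • (polarBilin Q).compl₁₂ Lb Lb
  let Φ₂ : LinearMap.BilinForm F₀ (Fin 4 → F₀) :=
    (polarBilin Q).compl₁₂ La Lb + (polarBilin Q).compl₁₂ Lb La
  obtain ⟨l₁, hl₁⟩ := multiple_of_vanish s Φ₁ (fun x y => by
      simp [Φ₁, QuadraticMap.polar_comm (⇑Q) (La x), QuadraticMap.polar_comm (⇑Q) (Lb x)])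
    fun x hx => by
      show polar ⇑Q (A x) (A x) + s.nu * polar ⇑Q (Bb x) (Bb x) = 0
      rw [Quad.polar_self', Quad.polar_self', (hdiag x hx).1, (hdiag x hx).2.1]; ring
  obtain ⟨l₂, hl₂⟩ := multiple_of_vanish s Φ₂ (fun x y => by
      show polar ⇑Q (A x) (Bb y) + polar ⇑Q (Bb x) (A y) = polar ⇑Q (A y) (Bb x) + polar ⇑Q (Bb y) (A x)
      rw [QuadraticMap.polar_comm (⇑Q) (A y), QuadraticMap.polar_comm (⇑Q) (Bb y)]; ring)
    fun x hx => by
      show polar ⇑Q (A x) (Bb x) + polar ⇑Q (Bb x) (A x) = 0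
      rw [QuadraticMap.polar_comm (⇑Q) (Bb x), (hdiag x hx).2.2]; ring
  have e1 : ∀ x y, 2 * polar ⇑Q (A x) (A y) = (l₁ + 1) * polar ⇑Q x y := fun x y => by
    have h1 : polar ⇑Q (A x) (A y) + s.nu * polar ⇑Q (Bb x) (Bb y) = l₁ * polar ⇑Q x y := hl₁ x y
    linear_combination h1 + (hre x y).1
  have e2 : ∀ x y, 2 * polar ⇑Q (A x) (Bb y) = l₂ * polar ⇑Q x y := fun x y => by
    have h1 : polar ⇑Q (A x) (Bb y) + polar ⇑Q (Bb x) (A y) = l₂ * polar ⇑Q x y := hl₂ x y
    linear_combination h1 + (hre x y).2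
  by_cases hc : l₁ + 1 = 0
  · -- the real part lies in a totally singular subspace
    have hinj : Function.Injective Lb := (injective_iff_map_eq_zero Lb).2 fun x hx => s.nondeg.1 x fun y => by
      have h1 := (hre x y).1
      have h2 := e1 x y
      rw [hc, zero_mul] at h2
      rw [show Bb x = 0 from hx, QuadraticMap.polar_zero_left, (mul_eq_zero.1 h2).resolve_left s.two] at h1
      simpa using h1.symm
    have hsur := LinearMap.injective_iff_surjective.1 hinj
    set d := -(s.nu * l₂) / 2 with hd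
    refine ⟨(d : F) + γ, fun e => s.ne ?_, fun x => ⟨Bb x, ?_⟩⟩
    · have := (s.split_zero (x := d) (y := 1) (by push_cast; linear_combination e)).2
      exact absurd this one_ne_zero
    have hA : A x = d • Bb x := by
      refine sub_eq_zero.1 (s.nondeg.2 _ fun z => ?_)
      obtain ⟨y, rfl⟩ := hsur z
      show polar ⇑Q (Bb y) (A x - d • Bb x) = 0
      have h1 := (hre y x).1
      have h2 := e1 y x
      rw [hc, zero_mul] at h2
      rw [(mul_eq_zero.1 h2).resolve_left s.two] at h1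
      have h3 := e2 x y
      rw [QuadraticMap.polar_comm (⇑Q) x y] at h3
      rw [QuadraticMap.polar_sub_right, Quad.polar_smul_right', QuadraticMap.polar_comm _ (Bb y) (A x)]
      refine mul_left_cancel₀ s.two ?_
      have h4 : (2 : F₀) * d = -(s.nu * l₂) := by rw [hd, mul_div_cancel₀ _ s.two]
      linear_combination h3 - polar (⇑Q) (Bb y) (Bb x) * h4 - l₂ * h1
    rw [hAB, hA, rat_smul]
    module
  · have hinj : Function.Injective La := (injective_iff_map_eq_zero La).2 fun x hx => s.nondeg.1 x fun y => by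
      have h1 := e1 x y
      rw [show A x = 0 from hx, QuadraticMap.polar_zero_left, mul_zero] at h1
      exact (mul_eq_zero.1 h1.symm).resolve_left hc
    have hsur := LinearMap.injective_iff_surjective.1 hinj
    set d := l₂ / (l₁ + 1) with hd
    refine ⟨1 + γ * (d : F), fun e => ?_, fun x => ⟨A x, ?_⟩⟩
    · exact one_ne_zero (s.split_zero (x := 1) (y := d) (by push_cast; linear_combination e)).1
    have hB : Bb x = d • A x := by
      refine sub_eq_zero.1 (s.nondeg.2 _ fun z => ?_)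
      obtain ⟨y, rfl⟩ := hsur z
      show polar ⇑Q (A y) (Bb x - d • A x) = 0
      rw [QuadraticMap.polar_sub_right, Quad.polar_smul_right']
      refine mul_left_cancel₀ s.two ?_
      have h4 : d * (l₁ + 1) = l₂ := by rw [hd, div_mul_cancel₀ _ hc]
      linear_combination e2 y x - d * e1 y x - polar (⇑Q) y x * h4
    rw [hAB, hB, rat_smul]
    module

end CfsgLib.Geo.SUFour.OrthSub

namespace CfsgLib.Geo.SUFour

open Matrix CfsgLib.Classical CfsgLib.Classical.Herm CfsgLib.Geo.UnitMax CfsgLib.Geo.UnitSympSub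
open CfsgLib.Geo.QuadSim
open QuadraticMap (polar polarBilin)

/-- Orthogonal subfield subgroups are maximal in four-dimensional SU. -/
theorem isMaximalIn_orthSubfield {F : Type*} [Field F] [Fintype F] {q : ℕ} (hF : Fintype.card F = q ^ 2)
    (hodd : Odd q) (hq5 : 5 ≤ q) (F₀ : Subfield F) (hcard : Fintype.card F = Nat.card F₀ ^ 2)
    (P : Matrix.GeneralLinearGroup (Fin 4) F)
    (hP : Cfsg.Geo.IsFormRationalStructure (Cfsg.hermForm 4 F q) F₀ 1 P) :
    Cfsg.Geo.IsMaximalIn (Cfsg.GU 4 F q ⊓ Cfsg.Geo.specialLinear (Fin 4) F)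
      (Cfsg.Geo.subfieldSubgroup F₀ P ⊓ (Cfsg.GU 4 F q ⊓ Cfsg.Geo.specialLinear (Fin 4) F)) := by
  have h := hermStd_isHerm (n := 4) hF
  set B := hermStd 4 hF with hB
  have hq : q = Nat.card F₀ := Nat.pow_left_injective two_ne_zero (hF.symm.trans hcard)
  have h2 : (2 : F) ≠ 0 := by
    intro h2
    have : CharP F 2 := CharTwo.of_one_ne_zero_of_two_eq_zero one_ne_zero h2
    have := FiniteField.even_card_iff_char_two.1 (ringChar.eq F 2)
    rw [hF] at this
    exact (Nat.not_even_iff_odd.2 (hodd.pow (n := 2))) (Nat.even_iff.2 this)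
  have hfix : F₀ = fixedSub (powHom hF) := by
    have : Fintype F₀ := Fintype.ofFinite F₀
    refine SetLike.coe_injective (Set.eq_of_subset_of_ncard_le (fun c hc => ?_) ?_)
    · rw [SetLike.mem_coe, mem_fixedSub, powHom_apply, hq, Nat.card_eq_fintype_card]
      exact congrArg Subtype.val (FiniteField.pow_card (⟨c, hc⟩ : F₀))
    · rw [← Nat.card_coe_set_eq, ← Nat.card_coe_set_eq, SetLike.coe_sort_coe, SetLike.coe_sort_coe, ← hq,
        card_fixed_powHom hF]
  have hfix' : ∀ c, c ∈ F₀ ↔ powHom hF c = c := fun c => by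
    conv_lhs => rw [hfix]
    exact mem_fixedSub
  obtain ⟨γ, hγ0, hγ⟩ := h.exists_skew
  have hγσ : powHom hF γ = -γ := eq_neg_of_add_eq_zero_right hγ
  have hγF : γ ∉ F₀ := fun hm => by
    have e := (hfix' γ).1 hm
    rw [hγσ] at e
    exact hγ0 ((mul_eq_zero.1 (show (2 : F) * γ = 0 by linear_combination -e)).resolve_left h2)
  have hrange : ∀ x y, B (rat F₀ P y) (rat F₀ P x) ∈ F₀ := fun x y => by
    have := hP _ _ (fun i => (x i).2) (fun i => (y i).2)
    rwa [one_mul] at this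
  let β : LinearMap.BilinForm F₀ (Fin 4 → F₀) :=
    LinearMap.mk₂ F₀ (fun x y => (⟨B (rat F₀ P x) (rat F₀ P y), hrange y x⟩ : F₀))
      (fun x x' y => Subtype.ext (by simp [rat_add]))
      (fun c x y => Subtype.ext (by simp [rat_smul, smul_left, (hfix' _).1 c.2]))
      (fun x y y' => Subtype.ext (by simp [rat_add]))
      (fun c x y => Subtype.ext (by simp [rat_smul]))
  let Q : QuadraticForm F₀ (Fin 4 → F₀) := LinearMap.BilinMap.toQuadraticMap ((2 : F₀)⁻¹ • β)
  have hval : ∀ x y, B (rat F₀ P x) (rat F₀ P y) = ((polar ⇑Q x y : F₀) : F) := fun x y => by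
    have e : B (rat F₀ P y) (rat F₀ P x) = B (rat F₀ P x) (rat F₀ P y) :=
      (h.symm _ _).symm.trans ((hfix' _).1 (hrange y x))
    rw [show polar ⇑Q x y = ((2 : F₀)⁻¹ • β) x y + ((2 : F₀)⁻¹ • β) y x from
      LinearMap.BilinMap.polar_toQuadraticMap x y]
    simp only [LinearMap.smul_apply, smul_eq_mul, β, LinearMap.mk₂_apply, Subfield.coe_add, Subfield.coe_mul]
    rw [e, show (((2 : F₀)⁻¹ : F₀) : F) = (2 : F)⁻¹ by
      rw [show ((2 : F₀)⁻¹ : F₀) = ⟨(2 : F)⁻¹, inv_mem (by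
        have := add_mem F₀.one_mem F₀.one_mem
        rwa [one_add_one_eq_two] at this)⟩ from ?_]
      refine Subtype.ext ?_
      show ((2 : F₀) : F)⁻¹ = (2 : F)⁻¹
      rw [show ((2 : F₀) : F) = 2 from map_ofNat F₀.subtype 2]]
    field_simp
    ring
  have hnd : (polarBilin Q).Nondegenerate := by
    have hsep : ∀ x, (∀ y, polar ⇑Q x y = 0) → x = 0 := fun x hx => rat_injective (P := P) (by
      rw [rat_zero]
      refine h.nondeg _ fun v => ?_
      obtain ⟨a, b, rfl⟩ := exists_split (P := P) hcard.symm hγF v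
      rw [map_add, map_smul, hval, hval, hx, hx]
      simp)
    exact ⟨fun x hx => hsep x hx, fun y hy => hsep y fun x => (QuadraticMap.polar_comm _ _ _).trans (hy x)⟩
  have s : OrthSub.Setup B F₀ P Q γ :=
    { herm := h, val := hval, nondeg := hnd, fix := hfix', skew := hγσ, ne := hγ0
      split := exists_split (P := P) hcard.symm hγF, odd := h2, card := hq ▸ hq5 }
  let e := guEquiv 4 hF
  have hS : ∀ g : Cfsg.GU 4 F q, (g : GL (Fin 4) F) ∈ Cfsg.Geo.specialLinear (Fin 4) F ↔ e g ∈ HSU B := by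
    intro g
    rw [MonoidHom.mem_ker, Units.ext_iff]
    show Matrix.GeneralLinearGroup.det (g : GL (Fin 4) F) = 1 ↔ _
    rw [Units.ext_iff, guEquiv_det]
    rfl
  refine ⟨lt_of_le_of_ne inf_le_right fun heq => ?_, fun M hM hMS => ?_⟩
  · obtain ⟨w, -, f, -, hw, hf, hwf⟩ := exists_hyp hnd (L := (⊤ : Submodule F₀ (Fin 4 → F₀))) (by
      rw [finrank_top, Module.finrank_fin_fun, Fintype.card_fin]; omega)
    have hmem : ((e.symm (h.tr (s.iso hw) hγ) : Cfsg.GU 4 F q) : GL (Fin 4) F) ∈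
        Cfsg.GU 4 F q ⊓ Cfsg.Geo.specialLinear (Fin 4) F :=
      ⟨(e.symm _).2, (hS _).2 (by rw [MulEquiv.apply_symm_apply]; exact h.det_tr _ _)⟩
    obtain ⟨l, y, hy⟩ := rat_line_of_mem (heq.ge hmem).1 f
    rw [← guEquiv_apply hF, show guEquiv 4 hF (e.symm _) = _ from e.apply_symm_apply _, h.tr_apply,
      s.val_one hwf, mul_one] at hy
    have e1 := congrArg (B (rat F₀ P w)) hy
    have e2 := congrArg (B (rat F₀ P f)) hy
    simp only [map_add, map_smul, smul_eq_mul, s.iso hw, s.iso hf, s.val_one hwf,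
      s.val_one (show polar ⇑Q f w = 1 by rw [QuadraticMap.polar_comm, hwf]), s.val, mul_zero, mul_one,
      add_zero, zero_add] at e1 e2
    have hl : l ∈ F₀ := by
      rw [show l = ((polar ⇑Q w y : F₀) : F)⁻¹ from eq_inv_of_mul_eq_one_left e1.symm]
      exact inv_mem (SetLike.coe_mem _)
    exact hγF (e2 ▸ mul_mem hl (SetLike.coe_mem _))
  refine (eq_or_lt_of_le hM).imp Eq.symm fun hlt => le_antisymm hMS ?_
  obtain ⟨g, hgM, hgn⟩ := SetLike.exists_of_lt hlt
  set K : Subgroup (HU B) := (M.subgroupOf (Cfsg.GU 4 F q)).map e.toMonoidHom with hKdef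
  have hmem : ∀ g : Cfsg.GU 4 F q, e g ∈ K ↔ (g : GL (Fin 4) F) ∈ M := fun g => by
    rw [hKdef, Subgroup.mem_map_equiv, MulEquiv.symm_apply_apply, Subgroup.mem_subgroupOf]
  have hK : OrthSub.HasRat s K := by
    intro k hk hkr
    rw [← e.apply_symm_apply k, hmem]
    refine hM ⟨exists_subfield_matrix one_ne_zero fun z => ?_, (e.symm _).2,
      (hS _).2 (by rw [MulEquiv.apply_symm_apply]; exact hk)⟩
    obtain ⟨y, hy⟩ := hkr z
    refine ⟨y, ?_⟩
    rw [one_smul, ← guEquiv_apply hF, show guEquiv 4 hF (e.symm _) = _ from e.apply_symm_apply _, hy]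
  have hgK : e ⟨g, (hMS hgM).1⟩ ∈ K := (hmem _).2 hgM
  by_cases htr : ∃ w, Q w = 0 ∧ w ≠ 0 ∧ HasTr h K (rat F₀ P w)
  · obtain ⟨w, hw, hw0, htr⟩ := htr
    have hfull : HSU B ≤ K :=
      le_of_hasTr h (by rw [Module.finrank_fin_fun]) (OrthSub.hasTr_all s hK hw hw0 htr)
    intro x hx
    exact (hmem ⟨x, hx.1⟩).1 (hfull ((hS ⟨x, hx.1⟩).1 hx.2))
  · exfalso
    obtain ⟨l, hl, hall⟩ := OrthSub.rat_of_degenerate s (g := e ⟨g, (hMS hgM).1⟩)
      (fun w hw hw0 a b hab => OrthSub.degenerate_image s hK htr hgK hw hw0 hab)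
    refine hgn ⟨exists_subfield_matrix hl fun x => ?_, hMS hgM⟩
    obtain ⟨y, hy⟩ := hall x
    exact ⟨y, by rw [← hy]; exact (guEquiv_apply hF ⟨g, (hMS hgM).1⟩ _).symm⟩

end CfsgLib.Geo.SUFour
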